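import Cfsg.Agent.H327.RG.KillY
import Cfsg.Agent.H28.GenF.Untw
import Cfsg.Agent.H46.Gen.A2Hom

/-!
# S3509, field automorphisms of the untwisted exceptional groups

* `FL ι σ φ` : the frame of a field automorphism; `FL.exists_std` : conjugation to the standard one;
* `Ty` : inner-diagonal or of field type;
* `field_untw` : a cover with members of type `Ty`, not all inner-diagonal, is impossible.
-/

set_option autoImplicit false
set_option linter.unusedSectionVars false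

namespace Cfsg.Agent.H327.RG

open CoxeterSystem Subgroup Cfsg Cfsg.Lie Cfsg.Lie.ChevalleyDatum
open Cfsg.Agent.ChevalleyStructure Cfsg.Agent.ChevalleyStructure.Elts Cfsg.Agent.ChevalleyStructure.CoxeterGeom
  Cfsg.Agent.ChevalleyStructure.CoxeterGeomTypes Cfsg.Agent.ChevalleyStructure.NPerm
open Cfsg.Agent.Tits.Roots Cfsg.Agent.Tits.Core Cfsg.Agent.Nodes.Reps Cfsg.Agent.Nodes.BNOf
  Cfsg.Agent.Nodes.RGDChev Cfsg.Agent.Nodes.Bruhat
open Cfsg.Agent.CpAut.RgdUntw Cfsg.Agent.KFacts.RgdField Cfsg.Agent.KFacts.RgdChevCoord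
open Cfsg.Agent.BpExc Cfsg.Agent.BpExc.Tow Cfsg.Agent.BpExc.TowChev Cfsg.Agent.BpExc.FamExt Cfsg.Agent.BpExc.FamUntw
  Cfsg.Agent.BpExc.FamInst Cfsg.Agent.BpExc.LangFr Cfsg.Agent.BpExc.FamField
open Cfsg.Agent.GpExc.Field (glMap emb coe_emb glMap_xG emb_injective coe_glMap glMap_injective)
open Cfsg.Agent.H469.Exc Cfsg.Agent.H469.Exc.SigFr
open Cfsg.Agent.H28.GenF
open Cfsg.Agent.H106.RC
open scoped commutatorElement

section frame

variable {Y K₀ : Type*} [Group Y] [Group K₀]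

/-- the frame of a field automorphism -/
structure FL (ι : K₀ →* Y) (σ φ : MulAut Y) (p : ℕ) : Prop where
  inj : Function.Injective ι
  cent : ∀ z, (∀ a, z * ι a = ι a * z) → z = 1
  fixι : ∀ a, σ (ι a) = ι a
  norm : ∀ y, σ y = y → ∀ a, ∃ b, ι b = y * ι a * y⁻¹
  pow : φ ^ p = σ
  lang : ∀ h : Y, ∃ g, h = g⁻¹ * φ g

variable {p : ℕ} {ι : K₀ →* Y} {σ φ : MulAut Y}

/-- an automorphism of field type is conjugate to the standard one -/
theorem FL.exists_std (h : FL ι σ φ p) {x : MulAut K₀} (hxp : x ^ p = 1) {y : Y}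
    (hx : ∀ a, ι (x a) = (MulAut.conj y * φ) (ι a)) :
    ∃ γ : MulAut K₀, γ ∈ InD ι ∧ ∀ a, ι ((γ * x * γ⁻¹) a) = φ (ι a) := by
  obtain ⟨g, hg⟩ := h.lang y
  have hφ : ∀ a, φ (g * ι a * g⁻¹) = g * ι (x a) * g⁻¹ := by
    intro a
    rw [hx, MulAut.mul_apply, MulAut.conj_apply, hg, map_mul, map_mul, map_inv]
    group
  have hφn : ∀ n : ℕ, ∀ a, (φ ^ n) (g * ι a * g⁻¹) = g * ι ((x ^ n) a) * g⁻¹ := by
    intro n
    induction n with
    | zero => intro a; rfl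
    | succ n ih => intro a; rw [pow_succ', MulAut.mul_apply, ih, hφ, pow_succ', MulAut.mul_apply]
  have hσg : σ g = g := by
    have h2 : g⁻¹ * σ g = 1 := by
      apply h.cent
      intro a
      have h3 := hφn p a
      rw [h.pow, hxp, MulAut.one_apply, map_mul, map_mul, map_inv, h.fixι] at h3
      calc g⁻¹ * σ g * ι a = g⁻¹ * (σ g * ι a * (σ g)⁻¹) * σ g := by group
        _ = g⁻¹ * (g * ι a * g⁻¹) * σ g := by rw [h3]
        _ = ι a * (g⁻¹ * σ g) := by group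
    exact (inv_mul_eq_one.1 h2).symm
  have hσg' : σ g⁻¹ = g⁻¹ := by rw [map_inv, hσg]
  choose b hb using h.norm g hσg
  choose b' hb' using h.norm g⁻¹ hσg'
  let γ : MulAut K₀ :=
    { toFun := b
      invFun := b'
      left_inv := fun a => h.inj (by rw [hb', hb]; group)
      right_inv := fun a => h.inj (by rw [hb, hb']; group)
      map_mul' := fun a a' => h.inj (by rw [hb, map_mul, map_mul, hb, hb]; group) }
  have hγ : ∀ a, ι (γ a) = g * ι a * g⁻¹ := hb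
  refine ⟨γ, ⟨g, hγ⟩, fun a => ?_⟩
  have h2 := hφ (γ⁻¹ a)
  rw [← hγ (γ⁻¹ a), MulAut.apply_inv_self] at h2
  rw [MulAut.mul_apply, MulAut.mul_apply, hγ, ← h2]

end frame

section untw

variable {D : ChevalleyDatum} {l : ℕ} {M : CoxeterMatrix (Fin l)} (hp : IsType D l M)

variable {r : ℕ} [Fact r.Prime] {F : Type} [Field F] [Fintype F] [CharP F r]

/-- inner-diagonal, or of field type (`p` the order) -/
def Ty (hp : IsType D l M) (f : F →+* KK r) (n p : ℕ) (α : MulAut ↥(D.group F)) : Prop :=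
  α ∈ InD (emb hp.inList f) ∨ ∃ (i m : ℕ) (y : ↥(D.group (KK r))), i.Coprime p ∧ 0 < m ∧ m * p = n ∧
    ∀ a, emb hp.inList f ((α ^ i) a) = (MulAut.conj y * phi D (KK r) r m) (emb hp.inList f a)

theorem Ty.conj {f : F →+* KK r} {n p : ℕ} {α γ : MulAut ↥(D.group F)} (h : Ty hp f n p α)
    (hγ : γ ∈ InD (emb hp.inList f)) : Ty hp f n p (γ * α * γ⁻¹) := by
  rcases h with h | ⟨i, m, y, h1, h2, h3, h4⟩
  · exact Or.inl (mul_mem (mul_mem hγ h) (inv_mem hγ))
  · right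
    obtain ⟨g, hg⟩ := hγ
    obtain ⟨g', hg'⟩ : γ⁻¹ ∈ InD (emb hp.inList f) := inv_mem ⟨g, hg⟩
    have hgg : ∀ a, g * (g' * emb hp.inList f a * g'⁻¹) * g⁻¹ = emb hp.inList f a := by
      intro a
      rw [← hg', ← hg, MulAut.apply_inv_self]
    refine ⟨i, m, g * y * phi D (KK r) r m g', h1, h2, h3, fun a => ?_⟩
    have e : (γ * α * γ⁻¹) ^ i = γ * α ^ i * γ⁻¹ := conj_pow
    rw [e, MulAut.mul_apply, MulAut.mul_apply, hg, h4, hg', MulAut.mul_apply, MulAut.mul_apply, MulAut.conj_apply,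
      MulAut.conj_apply, map_mul, map_mul, map_inv]
    group

include hp in
/-- the frame -/
theorem fl_untw (f : F →+* KK r) {n m p : ℕ} (hn : Nat.card F = r ^ n) (hm : 0 < m) (hmn : m * p = n)
    (hZ : center ↥(D.group (KK r)) = ⊥) :
    FL (emb hp.inList f) (phi D (KK r) r n) (phi D (KK r) r m) p where
  inj := emb_injective hp.inList f
  cent := fun z hz => eq_one_of_comm hp (locFin r) r f hZ hz
  fixι := fun a => phi_emb hp r f hn a
  norm := fun y hy a => by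
    obtain ⟨b, hb⟩ := H378.TorFin.conj_range hp f r hn hy ⟨a, rfl⟩
    exact ⟨b, hb⟩
  pow := by rw [phi_pow, hmn]
  lang := fun h => by
    obtain ⟨z, hz⟩ := lang_all hp M.toCoxeterSystem hm (phi_isFrob r m)
      (phi_fr hp M.toCoxeterSystem r (locFin r) m) 1 h
    rw [map_one, one_mul] at hz
    exact ⟨z, hz⟩

section sub

variable (f : F →+* KK r) {m : ℕ} (hm : 0 < m) (F₀ : Subfield F) (hF₀ : Nat.card ↥F₀ = r ^ m)

/-- the subfield group -/
noncomputable def L0 (hp : IsType D l M) (F₀ : Subfield F) : Subgroup ↥(D.group F) := (emb hp.inList F₀.subtype).range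

include hF₀ in
theorem mem_L0 [CharP ↥F₀ r] {a : ↥(D.group F)} (ha : phi D (KK r) r m (emb hp.inList f a) = emb hp.inList f a)
    (h : ∃ j, a ^ r ^ j = 1) : a ∈ L0 hp F₀ := by
  obtain ⟨j, hj⟩ := h
  obtain ⟨b, hb⟩ := mem_emb_of_pow hp (f.comp F₀.subtype) hF₀ ha (j := j) (by rw [← map_pow, hj, map_one])
  exact ⟨b, emb_injective hp.inList f (by rw [H28.GenF.emb_comp hp]; exact hb)⟩

include hF₀ in
theorem fix_L0 {a : ↥(D.group F)} (ha : a ∈ L0 hp F₀) :
    phi D (KK r) r m (emb hp.inList f a) = emb hp.inList f a := by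
  obtain ⟨b, rfl⟩ := ha
  rw [H28.GenF.emb_comp hp, phi_emb hp r _ hF₀]

include hF₀ in
/-- automorphisms commuting with the standard one preserve the subfield group -/
theorem pres_L0 {β α : MulAut ↥(D.group F)}
    (hβ : ∀ a, emb hp.inList f (β a) = phi D (KK r) r m (emb hp.inList f a)) (hαβ : α * β = β * α) :
    ∀ a ∈ L0 hp F₀, α a ∈ L0 hp F₀ := by
  have hchar : CharP ↥F₀ r := (RingHom.charP_iff F₀.subtype F₀.subtype.injective r).2 inferInstance
  have hx : ∀ a, phi D (KK r) r m (emb hp.inList f a) = emb hp.inList f a →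
      phi D (KK r) r m (emb hp.inList f (α a)) = emb hp.inList f (α a) := by
    intro a ha
    have h1 : β a = a := emb_injective hp.inList f (by rw [hβ, ha])
    rw [← hβ, ← MulAut.mul_apply, ← hαβ, MulAut.mul_apply, h1]
  obtain ⟨N, hN⟩ : ∃ N : Subgroup ↥(D.group ↥F₀), ∀ b, b ∈ N ↔
      α (emb hp.inList F₀.subtype b) ∈ (emb hp.inList F₀.subtype).range :=
    ⟨((emb hp.inList F₀.subtype).range.comap α.toMonoidHom).comap (emb hp.inList F₀.subtype), fun b => Iff.rfl⟩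
  have h1 : N = ⊤ := group_le hp N fun s t => by
    rw [hN]
    refine mem_L0 hp f F₀ hF₀ (hx _ (fix_L0 hp f F₀ hF₀ ⟨_, rfl⟩)) ⟨1, ?_⟩
    rw [pow_one, ← map_pow, ← map_pow, xs_pow_char hp, map_one, map_one]
  rintro _ ⟨b, rfl⟩
  show α (emb hp.inList F₀.subtype b) ∈ (emb hp.inList F₀.subtype).range
  rw [← hN, h1]
  exact mem_top _

variable (hLs : IsSimpleGroup ↥⁅L0 hp F₀, L0 hp F₀⁆) (hLn : ¬ IsMulCommutative ↥⁅L0 hp F₀, L0 hp F₀⁆)
  (hZ : center ↥(D.group (KK r)) = ⊥)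

include f hLs hLn hZ in
/-- the centralizer of the derived group in the subfield group -/
theorem cent_L0 {a : ↥(D.group F)} (ha : a ∈ L0 hp F₀) (hc : ∀ b ∈ ⁅L0 hp F₀, L0 hp F₀⁆, a * b = b * a) : a = 1 := by
  have hn : ∀ b ∈ L0 hp F₀, ∀ c ∈ ⁅L0 hp F₀, L0 hp F₀⁆, b * c * b⁻¹ ∈ ⁅L0 hp F₀, L0 hp F₀⁆ := by
    intro b hb c hc
    have h1 : ⁅b, c⁆ ∈ ⁅L0 hp F₀, L0 hp F₀⁆ :=
      commutator_mem_commutator hb (commutator_le_self _ hc)
    have h2 := mul_mem h1 hc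
    rwa [commutatorElement_def, inv_mul_cancel_right] at h2
  have hcen : ∀ z ∈ ⁅L0 hp F₀, L0 hp F₀⁆, (∀ b ∈ ⁅L0 hp F₀, L0 hp F₀⁆, z * b = b * z) → z = 1 := by
    intro z hz hzc
    have h1 : (⟨z, hz⟩ : ↥⁅L0 hp F₀, L0 hp F₀⁆) ∈ center ↥⁅L0 hp F₀, L0 hp F₀⁆ := by
      rw [mem_center_iff]
      intro b
      exact Subtype.ext (hzc b b.2).symm
    rcases hLs.eq_bot_or_eq_top_of_normal (center ↥⁅L0 hp F₀, L0 hp F₀⁆) inferInstance with h | h
    · rw [h, mem_bot] at h1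
      exact congrArg Subtype.val h1
    · exact (hLn ⟨⟨fun b c => (mem_center_iff.1 (h ▸ mem_top c) b)⟩⟩).elim
  have h1 : ∀ b ∈ L0 hp F₀, a * b = b * a := by
    intro b hb
    have h2 : ⁅a, b⁆ = 1 := by
      refine hcen _ (commutator_mem_commutator ha hb) fun c hc' => ?_
      have h3 := hc _ (hn b⁻¹ (inv_mem hb) c hc')
      have h3' := hc _ (inv_mem (hn b⁻¹ (inv_mem hb) c hc'))
      rw [inv_inv] at h3
      have h4 := hc c hc'
      rw [commutatorElement_def]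
      calc a * b * a⁻¹ * b⁻¹ * c = a * b * a⁻¹ * (b⁻¹ * c * b) * b⁻¹ := by group
        _ = a * b * (a⁻¹ * (a * (b⁻¹ * c * b) * a⁻¹)) * b⁻¹ := by
            rw [h3]; group
        _ = a * c * b * a⁻¹ * b⁻¹ := by group
        _ = c * (a * b * a⁻¹ * b⁻¹) := by rw [h4]; group
    rwa [commutatorElement_eq_one_iff_mul_comm] at h2
  have h2 : emb hp.inList f a = 1 := by
    refine eq_one_of_comm hp (locFin r) r (f.comp F₀.subtype) hZ fun b => ?_
    rw [← H28.GenF.emb_comp hp, ← map_mul, h1 _ ⟨b, rfl⟩, map_mul]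
  exact emb_injective hp.inList f (by rw [h2, map_one])

include f hLs hLn hZ in
/-- an automorphism preserving `L0` and trivial on the derived group is trivial on `L0` -/
theorem triv_L0 {α : MulAut ↥(D.group F)} (hα : ∀ a ∈ L0 hp F₀, α a ∈ L0 hp F₀)
    (hc : ∀ a ∈ ⁅L0 hp F₀, L0 hp F₀⁆, α a = a) {a : ↥(D.group F)} (ha : a ∈ L0 hp F₀) : α a = a := by
  have h1 : a⁻¹ * α a = 1 := by
    refine cent_L0 hp f F₀ hLs hLn hZ (mul_mem (inv_mem ha) (hα a ha)) fun b hb => ?_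
    have h2 : a * b * a⁻¹ ∈ ⁅L0 hp F₀, L0 hp F₀⁆ := by
      have h1 : ⁅a, b⁆ ∈ ⁅L0 hp F₀, L0 hp F₀⁆ :=
        commutator_mem_commutator ha (commutator_le_self _ hb)
      have h2 := mul_mem h1 hb
      rwa [commutatorElement_def, inv_mul_cancel_right] at h2
    have h3 := hc _ h2
    rw [map_mul, map_mul, map_inv, hc b hb] at h3
    calc a⁻¹ * α a * b = a⁻¹ * (α a * b * (α a)⁻¹) * α a := by group
      _ = a⁻¹ * (a * b * a⁻¹) * α a := by rw [h3]
      _ = b * (a⁻¹ * α a) := by group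
  exact (inv_mul_eq_one.1 h1).symm

include hm hF₀ hLs hLn hZ in
/-- **No other member centralises `L0`.** -/
theorem core {s : ℕ} (hs : s < D.nroots) {β α : MulAut ↥(D.group F)} {p p' n : ℕ} (hpp : p.Prime) (hpp' : p'.Prime) (hne : p' ≠ p)
    (hmn : m * p = n)
    (hβ : ∀ a, emb hp.inList f (β a) = phi D (KK r) r m (emb hp.inList f a)) (hαβ : α * β = β * α)
    (hT : Ty hp f n p' α) (hc : ∀ a ∈ ⁅L0 hp F₀, L0 hp F₀⁆, α a = a) : α = 1 := by
  have hchar : CharP ↥F₀ r := (RingHom.charP_iff F₀.subtype F₀.subtype.injective r).2 inferInstance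
  rcases hT with ⟨y, hy⟩ | ⟨i, m', y, hi, hm', hmn', hy⟩
  · have h1 : y = 1 := by
      refine eq_one_of_comm hp (locFin r) r (f.comp F₀.subtype) hZ fun b => ?_
      have h2 := hy (emb hp.inList F₀.subtype b)
      rw [triv_L0 hp f F₀ hLs hLn hZ (pres_L0 hp f F₀ hF₀ hβ hαβ) hc ⟨b, rfl⟩, H28.GenF.emb_comp hp] at h2
      exact (eq_mul_inv_iff_mul_eq.1 h2).symm
    subst h1
    refine MulEquiv.ext fun a => emb_injective hp.inList f ?_
    rw [hy, one_mul, inv_one, mul_one]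
    rfl
  · exfalso
    have hαi : ∀ a ∈ L0 hp F₀, (α ^ i) a = a := by
      intro a ha
      exact H28.GenF.apply_pow (triv_L0 hp f F₀ hLs hLn hZ (pres_L0 hp f F₀ hF₀ hβ hαβ) hc ha) i
    have hy1 : ∀ a ∈ L0 hp F₀, y * phi D (KK r) r m' (emb hp.inList f a) * y⁻¹ = emb hp.inList f a := by
      intro a ha
      have h2 := hy a
      rw [hαi a ha] at h2
      exact h2.symm
    -- the prime field
    let _ : Algebra (ZMod r) ↥F₀ := ZMod.algebra _ r
    have h1 : y = 1 := by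
      refine eq_one_of_comm hp (locFin r) r ((f.comp F₀.subtype).comp (algebraMap (ZMod r) ↥F₀)) hZ fun b => ?_
      have h2 := hy1 _ ⟨emb hp.inList (algebraMap (ZMod r) ↥F₀) b, rfl⟩
      rw [H28.GenF.emb_comp hp, H28.GenF.emb_comp hp] at h2
      have h3 : phi D (KK r) r m' (emb hp.inList ((f.comp F₀.subtype).comp (algebraMap (ZMod r) ↥F₀)) b) =
          emb hp.inList ((f.comp F₀.subtype).comp (algebraMap (ZMod r) ↥F₀)) b := by
        have h4 := phi_emb hp r ((f.comp F₀.subtype).comp (algebraMap (ZMod r) ↥F₀)) (n := 1)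
          (by rw [Nat.card_zmod, pow_one]) b
        have h5 := H28.GenF.apply_pow h4 m'
        rwa [phi_pow, one_mul] at h5
      rw [h3] at h2
      exact (mul_inv_eq_iff_eq_mul.1 h2)
    subst h1
    have h2 : m ∣ m' := by
      rw [← forall_pow_iff (F := ↥F₀) r hF₀ m']
      intro t
      have h3 := hy1 _ ⟨xc hp (vec D l s) t, rfl⟩
      rw [H28.GenF.emb_comp hp, TowChev.emb_xc hp, one_mul, inv_one, mul_one, H378.TorChar.phi_xc hp r hs, ← map_pow] at h3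
      exact (f.comp F₀.subtype).injective (xc_inj hp hs h3)
    obtain ⟨c, rfl⟩ := h2
    have h3 : c * p' = p := by
      have : m * (c * p') = m * p := by rw [hmn, ← hmn']; ring
      exact Nat.eq_of_mul_eq_mul_left hm this
    have h4 : p' ∣ p := ⟨c, by rw [← h3]; ring⟩
    exact hne ((Nat.prime_dvd_prime_iff_eq hpp' hpp).1 h4)

end sub

open Cfsg.Agent.H46.Gen in
include hp in
/-- **A cover with members inner-diagonal or of field type, not all inner-diagonal, is impossible.** -/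
theorem field_untw {a₀ b₀ : Fin l → ℤ} (hP : Pr D l a₀ b₀) (f : F →+* KK r) {n : ℕ} (hn : Nat.card F = r ^ n)
    (hZ : center ↥(D.group (KK r)) = ⊥)
    (hRC : ∀ F₀ : Subfield F, Nat.card ↥F₀ < Nat.card F →
      IsSimpleGroup ↥⁅L0 hp F₀, L0 hp F₀⁆ ∧ ¬ IsMulCommutative ↥⁅L0 hp F₀, L0 hp F₀⁆ ∧ RC ↥⁅L0 hp F₀, L0 hp F₀⁆)
    {G Ω ι : Type*} [Group G] [MulAction G Ω] [Nonempty Ω] [Finite ι] {N : Subgroup G} (hE : Env G Ω N)
    (e : N ≃* ↥(D.group F)) {x : ι → G} {q : ι → ℕ} (hx : PF x q) (hcov : Cov Ω x)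
    (hT : ∀ j, Ty hp f n (q j) (act hE e (x j))) {i₀ : ι} (hi₀ : act hE e (x i₀) ∉ InD (emb hp.inList f)) : False := by
  obtain ⟨i, m, y, hi, hm, hmn, hy⟩ := (hT i₀).resolve_left hi₀
  have : Fact (q i₀).Prime := ⟨hx.prime i₀⟩
  have hpp : (q i₀).Prime := hx.prime i₀
  obtain ⟨F₀, hF₀, hFF⟩ := H192.Fc.exists_subfield (p := q i₀) r hm hmn hn
  have hchar : CharP ↥F₀ r := (RingHom.charP_iff F₀.subtype F₀.subtype.injective r).2 inferInstance
  have hxp : (act hE e (x i₀) ^ i) ^ q i₀ = 1 := by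
    rw [← map_pow, ← map_pow, ← pow_mul, mul_comm, pow_mul, hx.pow, one_pow, map_one]
  obtain ⟨γ, hγ, hγ'⟩ := (fl_untw hp f hn hm hmn hZ).exists_std hxp hy
  -- the new identification
  have hact : ∀ g, act hE (e.trans γ) g = γ * act hE e g * γ⁻¹ := act_conj hE e γ
  have hT' : ∀ j, Ty hp f n (q j) (act hE (e.trans γ) (x j)) := fun j => by
    rw [hact]; exact (hT j).conj hp hγ
  obtain ⟨e', he'⟩ : ∃ e' : N ≃* ↥(D.group F), e' = e.trans γ := ⟨_, rfl⟩
  rw [← he'] at hact hT'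
  obtain ⟨β, hβ⟩ : ∃ β, β = act hE e' (x i₀) ^ i := ⟨_, rfl⟩
  have hβ' : ∀ a, emb hp.inList f (β a) = phi D (KK r) r m (emb hp.inList f a) := by
    intro a
    rw [hβ, hact, conj_pow, hγ']
  have hcomm : ∀ j, act hE e' (x j) * β = β * act hE e' (x j) := by
    intro j
    rw [hβ, ← map_pow, ← map_mul, ← map_mul]
    congr 1
    have : Commute (x j) (x i₀) := hx.comm j i₀
    exact this.pow_right i
  obtain ⟨hLs, hLn, hLRC⟩ := hRC F₀ (by
    rw [hFF]
    have h1 : 1 < Nat.card ↥F₀ := by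
      rw [hF₀]; exact Nat.one_lt_pow hm.ne' (Fact.out : r.Prime).one_lt
    calc Nat.card ↥F₀ = Nat.card ↥F₀ ^ 1 := (pow_one _).symm
      _ < Nat.card ↥F₀ ^ q i₀ := Nat.pow_lt_pow_right h1 hpp.one_lt)
  obtain ⟨s₁, hs₁, hs₁'⟩ := hP.ra
  obtain ⟨s₂, hs₂, hs₂'⟩ := hP.rs
  -- a scalar moved by the Frobenius
  obtain ⟨t, ht⟩ : ∃ t : F, t ^ r ^ m ≠ t := by
    by_contra hcon
    push Not at hcon
    have h1 := (forall_pow_iff r hn m).1 hcon
    have h2 := Nat.le_of_dvd hm h1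
    have h3 : m * 2 ≤ m * q i₀ := Nat.mul_le_mul_left m hpp.two_le
    omega
  have hc0 : t ^ r ^ m - t ≠ 0 := sub_ne_zero.2 ht
  have hNN : (NN D l a₀ b₀ : F) ≠ 0 := by
    intro h
    have h1 := congrArg (Int.cast : ℤ → F) (NN_sq hp hP)
    rw [Int.cast_mul, h, zero_mul, Int.cast_one] at h1
    exact zero_ne_one h1
  have c1 : ∀ t u : F, Commute (xc hp (a₀ + b₀) t) (xc hp a₀ u) := fun t u => by
    refine (xc_commute hp hP.ra hP.rs ?_ (Or.inr fun m n hm hn => hP.no_comb hp m n hm hn) u t).symm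
    exact ((hP.next hp).ne hp)
  have c2 : ∀ t u : F, Commute (xc hp (a₀ + b₀) t) (xc hp b₀ u) := fun t u => by
    have h' := hP.symm hp
    rw [add_comm a₀ b₀]
    refine (xc_commute hp h'.ra h'.rs ?_ (Or.inr fun m n hm hn => h'.no_comb hp m n hm hn) u t).symm
    exact ((h'.next hp).ne hp)
  have hβx : ∀ t : F, β (xc hp a₀ t) = xc hp a₀ (t ^ r ^ m) := by
    intro t
    apply emb_injective hp.inList f
    rw [hβ', TowChev.emb_xc hp, TowChev.emb_xc hp, ← hs₁', H378.TorChar.phi_xc hp r hs₁, map_pow]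
  refine out_killY hE e' hx hcov hLs hLn hLRC ?_ (i₀ := i₀) ?_ (u := xc hp (a₀ + b₀) (NN D l a₀ b₀ : F))
    (a := xc hp a₀ t) (b := xc hp b₀ (t ^ r ^ m - t)⁻¹) ?_ ?_ (c1 _ _).symm (c2 _ _).symm (k := i) ?_
  · intro j
    have h1 := pres_L0 hp f F₀ hF₀ hβ' (hcomm j)
    intro a ha
    have h2 : (⁅L0 hp F₀, L0 hp F₀⁆).map (act hE e' (x j)).toMonoidHom ≤ ⁅L0 hp F₀, L0 hp F₀⁆ := by
      rw [map_commutator]
      refine commutator_mono ?_ ?_ <;>
      · rintro _ ⟨b, hb, rfl⟩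
        exact h1 b hb
    exact h2 ⟨a, ha, rfl⟩
  · intro j hj hc
    refine act_ne_one hE e' (hx.ne j) ?_
    exact core hp f hm F₀ hF₀ hLs hLn hZ hs₁ hpp (hx.prime j) (fun h => hj (hx.inj h)) hmn hβ' (hcomm j) (hT' j) hc
  · have h1 : xc hp (a₀ + b₀) (NN D l a₀ b₀ : F) = ⁅xc hp a₀ (1 : F), xc hp b₀ (1 : F)⁆ := by
      rw [xc_br hp hP, mul_one, mul_one]
    rw [h1]
    refine commutator_mem_commutator ⟨xc hp a₀ 1, ?_⟩ ⟨xc hp b₀ 1, ?_⟩ <;>
    · rw [TowChev.emb_xc hp, map_one]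
  · intro h
    rw [← xc_zero hp (a₀ + b₀), ← hs₂'] at h
    exact hNN (xc_inj hp hs₂ h)
  · rw [← hβ, hβx, ← xc_neg hp, ← xc_add hp, ← sub_eq_add_neg, xc_br hp hP, mul_inv_cancel₀ hc0, mul_one]

end untw

end Cfsg.Agent.H327.RG
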