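import Cfsg.Agent.H327.RG.FldAbs
import Cfsg.Agent.H28.GenF.TwSix
import Cfsg.Agent.H46.Gen.A2Hom

/-!
# S3509, field automorphisms of `²E₆(q)`

* `fin_pair` : the end (`Lv.fin`) for a pair of roots of type `A₂` whose root elements are mapped by `Ψ` to root elements
  with the parameter raised to the power `r ^ m`;
* `lv_te6`, `field_te6`.
-/

set_option autoImplicit false
set_option linter.unusedSectionVars false

namespace Cfsg.Agent.H327.RG

open CoxeterSystem Subgroup Cfsg Cfsg.Lie Cfsg.Lie.ChevalleyDatum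
open Cfsg.Agent.ChevalleyStructure Cfsg.Agent.ChevalleyStructure.Elts Cfsg.Agent.ChevalleyStructure.CoxeterGeom
  Cfsg.Agent.ChevalleyStructure.CoxeterGeomTypes Cfsg.Agent.ChevalleyStructure.NPerm
open Cfsg.Agent.Nodes.RGDChev Cfsg.Agent.KFacts.RgdChevCoord
open Cfsg.Agent.BpExc.TowChev Cfsg.Agent.BpExc.FamUntw Cfsg.Agent.BpExc.LangFr Cfsg.Agent.BpExc.FamField
  Cfsg.Agent.BpExc.RowsUntw
open Cfsg.Agent.ChevalleyStructure.GraphSymm (symmE6)
open Cfsg.Agent.ChevalleyStructure.TwE6Basic (hE6 single_mem pair_mem twisted_le_iff exists_frob)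
open Cfsg.Agent.H522.FamTw.Frame (sig6 sig6_pow sig6_sq isFrob_sig6 fr_sig6)
open Cfsg.Agent.BpExc.FamTw.Six (em em_injective coe_em)
open Cfsg.Agent.GpExc.Field (glMap emb coe_emb glMap_xG emb_injective coe_glMap glMap_injective)
open Cfsg.Agent.H469.Exc Cfsg.Agent.H469.Exc.SigFr
open Cfsg.Agent.H28.GenF
open Cfsg.Agent.H46.Gen
open Cfsg.Agent.H106.RC
open scoped commutatorElement

section pair

variable {D : ChevalleyDatum} {l : ℕ} {M : CoxeterMatrix (Fin l)} (hp : IsType D l M) {k : Type} [Field k]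

include hp in
theorem NN_ne {a₀ b₀ : Fin l → ℤ} (hP : Pr D l a₀ b₀) : (NN D l a₀ b₀ : k) ≠ 0 := by
  intro h
  have h1 := congrArg (Int.cast : ℤ → k) (NN_sq hp hP)
  rw [Int.cast_mul, h, zero_mul, Int.cast_one] at h1
  exact zero_ne_one h1

theorem pr_comm1 {a₀ b₀ : Fin l → ℤ} (hP : Pr D l a₀ b₀) (t u : k) :
    Commute (xc hp (a₀ + b₀) t) (xc hp a₀ u) :=
  (xc_commute hp hP.ra hP.rs ((hP.next hp).ne hp) (Or.inr fun m n hm hn => hP.no_comb hp m n hm hn) u t).symm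

theorem pr_comm2 {a₀ b₀ : Fin l → ℤ} (hP : Pr D l a₀ b₀) (t u : k) :
    Commute (xc hp (a₀ + b₀) t) (xc hp b₀ u) := by
  rw [add_comm a₀ b₀]
  exact pr_comm1 hp (hP.symm hp) t u

theorem xc_ne_one {v : Fin l → ℤ} (hv : Rt D l v) {t : k} (ht : t ≠ 0) : xc hp v t ≠ 1 := by
  obtain ⟨s, hs, rfl⟩ := hv
  intro h
  rw [← xc_zero hp (vec D l s)] at h
  exact ht (xc_inj hp hs h)

/-- the end for a pair of type `A₂` -/
theorem fin_pair {K₀ : Type*} [Group K₀] {ι : K₀ →* ↥(D.group k)} (hι : Function.Injective ι)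
    {a₀ b₀ : Fin l → ℤ} (hP : Pr D l a₀ b₀) {L : Subgroup K₀} {Ψ : MulAut ↥(D.group k)}
    {t t' : k} (htt : t' ≠ t) (hΨ : Ψ (xc hp a₀ t) = xc hp a₀ t')
    (ha : xc hp a₀ t ∈ ι.range) (hb : xc hp b₀ (t' - t)⁻¹ ∈ ι.range)
    (hLa : ∃ a ∈ L, ι a = xc hp a₀ 1) (hLb : ∃ a ∈ L, ι a = xc hp b₀ 1)
    {β : MulAut K₀} (hβ : ∀ a, ι (β a) = Ψ (ι a)) :
    ∃ u ∈ ⁅L, L⁆, u ≠ 1 ∧ ∃ a b : K₀, a * u = u * a ∧ b * u = u * b ∧ ⁅β a * a⁻¹, b⁆ = u := by
  obtain ⟨a, ha⟩ := ha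
  obtain ⟨b, hb⟩ := hb
  obtain ⟨a1, ha1, ea⟩ := hLa
  obtain ⟨b1, hb1, eb⟩ := hLb
  have hu : ι ⁅a1, b1⁆ = xc hp (a₀ + b₀) (NN D l a₀ b₀ : k) := by
    rw [map_commutatorElement, ea, eb, xc_br hp hP, mul_one, mul_one]
  refine ⟨⁅a1, b1⁆, commutator_mem_commutator ha1 hb1, ?_, a, b, ?_, ?_, ?_⟩
  · intro h
    rw [h, map_one] at hu
    exact xc_ne_one hp hP.rs (NN_ne hp hP) hu.symm
  · apply hι
    rw [map_mul, map_mul, hu, ha]
    exact (pr_comm1 hp hP _ _).symm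
  · apply hι
    rw [map_mul, map_mul, hu, hb]
    exact (pr_comm2 hp hP _ _).symm
  · apply hι
    rw [hu, map_commutatorElement, map_mul, map_inv, hβ, ha, hb, hΨ, ← xc_neg hp, ← xc_add hp, ← sub_eq_add_neg,
      xc_br hp hP, mul_inv_cancel₀ (sub_ne_zero.2 htt), mul_one]

end pair

section Six

variable {r : ℕ} [Fact r.Prime] {K : Type} [Field K] [Fintype K] [CharP K r] {q : ℕ} (hq : IsPrimePow q)
  (hK : Fintype.card K = q ^ 2) (f : K →+* KK r) {n : ℕ} (hn : q = r ^ n)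

theorem pr6 : Pr chevE6 6 (vec chevE6 6 46) (vec chevE6 6 39) where
  ra := ⟨46, by decide +kernel, rfl⟩
  rb := ⟨39, by decide +kernel, rfl⟩
  rs := by unfold Rt; decide +kernel
  nd := by unfold Rt; decide +kernel
  n1 := by unfold Rt; decide +kernel
  n2 := by unfold Rt; decide +kernel

include hq hK hn in
/-- the frame of `²E₆(q)` -/
theorem fr_te6 : Fr (em q f) (sig6 (KK r) r n) := by
  obtain ⟨φ, hφ, hqq⟩ := exists_frob hq hK
  have hφk : ∀ t : KK r, iterateFrobenius (KK r) r n t = t ^ q := fun t => by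
    rw [iterateFrobenius_def, hn]
  refine ⟨em_injective f, fun z hz => H522.FamTw.Six.eq_one_of_comm hφ hqq f z hz,
    fun a => H522.FamTw.Six.sig6_em f r hφ hqq hn a, fun y hy a => ?_⟩
  obtain ⟨b, hb⟩ := H27.Exc.conj_mem (coe_em f)
    (BpExc.EmbInst.twE6_normalizer hq hK hφk y.2 (by rw [← H720.TwFr.coe_sig6, hy])) _ ⟨a, rfl⟩
  exact ⟨b, hb⟩

/-- `sig6` on the root elements `±α₂`, `±α₄` -/
theorem sig6_x {s : ℕ} (hs : s ∈ [46, 39]) (m : ℕ) (t : KK r) :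
    sig6 (KK r) r m (xc e6T (vec chevE6 6 s) t) = xc e6T (vec chevE6 6 s) (t ^ r ^ m) := by
  have key : ∀ s : Fin 72, s.val ∈ [46, 39] → (symmE6.σ ⟨s.val, s.2⟩).val = s.val ∧ symmE6.ε ⟨s.val, s.2⟩ = 1 := by
    decide +kernel
  have hs72 : s < 72 := by
    simp only [List.mem_cons, List.not_mem_nil, or_false] at hs
    omega
  obtain ⟨h1, h2⟩ := key ⟨s, hs72⟩ hs
  rw [MulAut.mul_apply, H378.TorChar.phi_xc e6T r hs72]
  have h3 : xc e6T (vec chevE6 6 s) (t ^ r ^ m) = BpExc.FamTw.Gr.xg H522.FamTw.Frame.inListE6 s (t ^ r ^ m) :=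
    Subtype.ext (coe_xc e6T hs72 _)
  rw [h3, BpExc.FamTw.Gr.gr_xg H522.FamTw.Frame.inListE6 symmE6 ⟨s, hs72⟩, h1, h2, Int.cast_one, one_mul]

/-- single root elements in the range -/
theorem mem_range6 {s : ℕ} (hs : s ∈ [46, 39]) {t : K} (ht : t ^ q = t) :
    ∃ a, em q f a = xc e6T (vec chevE6 6 s) (f t) := by
  have hs72 : s < 72 := by
    simp only [List.mem_cons, List.not_mem_nil, or_false] at hs
    omega
  have hs' : s ∈ [46, 25, 39, 32] := by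
    simp only [List.mem_cons, List.not_mem_nil, or_false] at hs ⊢
    omega
  refine ⟨⟨xG hE6 s t, single_mem ht hs'⟩, Subtype.ext ?_⟩
  rw [coe_em, coe_xc e6T hs72]
  exact glMap_xG hE6 f s t

/-- the Frobenius on the fixed field -/
theorem dvd6 {q : ℕ} (hK : Fintype.card K = q ^ 2) {n : ℕ} (hn0 : 0 < n) (hn : q = r ^ n) {m : ℕ}
    (h : ∀ t : K, t ^ q = t → t ^ r ^ m = t) : n ∣ m := by
  have hr : r.Prime := Fact.out
  have hn' : Nat.card K = r ^ (n * 2) := by rw [Nat.card_eq_fintype_card, hK, hn, ← pow_mul]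
  have : Fact (Nat.Prime 2) := ⟨Nat.prime_two⟩
  obtain ⟨F₁, hF₁, -⟩ := H192.Fc.exists_subfield (p := 2) r (F := K) (m := n) (n := n * 2) hn0 rfl hn'
  have hchar : CharP ↥F₁ r := (RingHom.charP_iff F₁.subtype F₁.subtype.injective r).2 inferInstance
  rw [← forall_pow_iff (F := ↥F₁) r hF₁ m]
  intro t
  have h2 := h (t : K) (by
    have h3 := (forall_pow_iff (F := ↥F₁) r hF₁ n).2 dvd_rfl t
    rw [hn]
    exact congrArg Subtype.val h3)
  exact Subtype.ext h2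

/-- a parameter moved by the Frobenius -/
theorem exists_moved6 {q : ℕ} (hK : Fintype.card K = q ^ 2) {n : ℕ} (hn : q = r ^ n) {m : ℕ} (hm : 0 < m)
    (hmn : m < n) : ∃ t : K, t ^ q = t ∧ t ^ r ^ m ≠ t := by
  by_contra hcon
  push Not at hcon
  exact absurd (Nat.le_of_dvd hm (dvd6 hK (by omega) hn hcon)) (by omega)

include hq hK hn in
/-- **The level of a field automorphism of `²E₆(q)`.** -/
theorem lv_te6 {p : ℕ} (hpp : p.Prime) (hp2 : p ≠ 2) {m : ℕ} (hm : 0 < m) (hmn : m * p = n) {K₀ : Subfield K}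
    (hK₀ : Nat.card ↥K₀ = (r ^ m) ^ 2) (hf : ∀ t : ↥K₀, K₀.subtype (t ^ r ^ m) = K₀.subtype t ^ q)
    (hRC : RC ↥(twistedE6 ↥K₀ (r ^ m))) :
    Lv (em q f) (sig6 (KK r) r n) p (sig6 (KK r) r m) (res6 K₀.subtype hf).range := by
  have hodd : p % 2 = 1 := hpp.eq_two_or_odd.resolve_left hp2
  have hchar : CharP ↥K₀ r := (RingHom.charP_iff K₀.subtype K₀.subtype.injective r).2 inferInstance
  have hfin : Fintype ↥K₀ := Fintype.ofFinite _
  have hr : r.Prime := Fact.out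
  have hq₀ : IsPrimePow (r ^ m) := (isPrimePow_nat_iff _).2 ⟨r, m, hr, hm, rfl⟩
  have hK₀' : Fintype.card ↥K₀ = (r ^ m) ^ 2 := by rw [← Nat.card_eq_fintype_card, hK₀]
  obtain ⟨f₀, hf₀⟩ : ∃ f₀ : ↥K₀ →+* KK r, f₀ = f.comp K₀.subtype := ⟨_, rfl⟩
  obtain ⟨φ₀, hφ₀, hqq₀⟩ := exists_frob hq₀ hK₀'
  have hk := locFin r
  have hem : ∀ b, em q f (res6 K₀.subtype hf b) = em (r ^ m) f₀ b := fun b => by rw [em_res6, hf₀]
  have hfixm : ∀ b, sig6 (KK r) r m (em (r ^ m) f₀ b) = em (r ^ m) f₀ b := fun b =>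
    H522.FamTw.Six.sig6_em f₀ r hφ₀ hqq₀ rfl b
  obtain ⟨hs0, hs0'⟩ := Cfsg.Agent.S1070.result hq₀ hK₀'
  let eL : ↥(twistedE6 ↥K₀ (r ^ m)) ≃* ↥(res6 K₀.subtype hf).range := MonoidHom.ofInjective (res6_injective K₀.subtype hf)
  have hs1 : IsSimpleGroup ↥(res6 K₀.subtype hf).range := isSimple_cgr0 eL hs0
  have hs2 : ¬ IsMulCommutative ↥(res6 K₀.subtype hf).range := fun hc => hs0' ⟨⟨fun a b => by
    apply eL.injective
    rw [map_mul, map_mul]
    exact hc.is_comm.comm _ _⟩⟩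
  have hder : ⁅(res6 K₀.subtype hf).range, (res6 K₀.subtype hf).range⁆ = (res6 K₀.subtype hf).range :=
    perfect_of_simple hs1 hs2
  refine
    { pow := by rw [sig6_pow r hodd, hmn]
      lang := fun h => ?_
      fixL := ?_
      charL := ?_
      centL := ?_
      simple := by rw [hder]; exact hs1
      ncomm := by rw [hder]; exact hs2
      rc := by rw [hder]; exact hRC.congr eL
      fin := fun β hβ => ?_ }
  · obtain ⟨z, hz⟩ := lang_all e6T CoxeterMatrix.E₆.toCoxeterSystem hm (isFrob_sig6 r m)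
      (fr_sig6 hk r e6T CoxeterMatrix.E₆.toCoxeterSystem m) 1 h
    rw [map_one, one_mul] at hz
    exact ⟨z, hz⟩
  · rintro _ ⟨b, rfl⟩
    rw [hem, hfixm]
  · intro x hx
    obtain ⟨N, hN⟩ : ∃ N : Subgroup ↥(twistedE6 ↥K₀ (r ^ m)), ∀ b, b ∈ N ↔
        x (res6 K₀.subtype hf b) ∈ (res6 K₀.subtype hf).range :=
      ⟨((res6 K₀.subtype hf).range.comap x.toMonoidHom).comap (res6 K₀.subtype hf), fun b => Iff.rfl⟩
    have h1 : N = ⊤ := r_gen6 hq₀ hK₀' N fun b hb => by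
      rw [hN]
      have h2 := hx (res6 K₀.subtype hf b) (by rw [hem, hfixm])
      obtain ⟨b', hb'⟩ := mem_of_pow6 hK₀' hm rfl f₀ h2 (j := 1) (by
        rw [pow_one, ← map_pow, ← map_pow, ← map_pow, hb, map_one, map_one, map_one])
      exact ⟨b', em_injective f (by rw [hem, hb'])⟩
    rintro _ ⟨b, rfl⟩
    rw [← hN, h1]
    exact mem_top _
  · intro y hy
    exact H522.FamTw.Six.eq_one_of_comm hφ₀ hqq₀ f₀ y fun b => by
      rw [← hem]
      exact hy _ ⟨b, rfl⟩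
  · obtain ⟨t, ht, ht'⟩ := exists_moved6 hK hn hm (by
      rw [← hmn]
      calc m = m * 1 := (mul_one m).symm
        _ < m * p := Nat.mul_lt_mul_of_pos_left hpp.one_lt hm)
    have h1 : ∀ {s : ℕ}, s ∈ [46, 39] → ∃ a ∈ (res6 K₀.subtype hf).range, em q f a = xc e6T (vec chevE6 6 s) 1 := by
      intro s hs
      obtain ⟨a, ha⟩ := mem_range6 (q := r ^ m) f₀ hs (t := (1 : ↥K₀)) (one_pow _)
      exact ⟨_, ⟨a, rfl⟩, by rw [hem, ha, map_one]⟩
    have h2 : f (t ^ r ^ m) - f t = f (t ^ r ^ m - t) := (map_sub f _ _).symm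
    refine fin_pair e6T (em_injective f) pr6 (t := f t) (t' := f (t ^ r ^ m)) (fun h => ht' (f.injective h)) ?_
      (mem_range6 f (by simp) ht) ?_ (h1 (by simp)) (h1 (by simp)) hβ
    · rw [sig6_x (by simp), map_pow]
    · rw [h2, ← map_inv₀]
      refine mem_range6 f (by simp) ?_
      have h3 : (t ^ r ^ m - t) ^ q = t ^ r ^ m - t := by
        rw [hn, sub_pow_char_pow, ← hn, ← pow_mul, mul_comm, pow_mul, ht]
      rw [inv_pow, h3]

/-- the subfield of a level, with the exponents -/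
theorem exists_sub6 {q : ℕ} (hK : Fintype.card K = q ^ 2) {n : ℕ} (hn : q = r ^ n) {p : ℕ} (hpp : p.Prime)
    (hp2 : p ≠ 2) {m : ℕ} (hm : 0 < m) (hmn : m * p = n) :
    ∃ K₀ : Subfield K, Nat.card ↥K₀ = (r ^ m) ^ 2 ∧ ∀ t : ↥K₀, K₀.subtype (t ^ r ^ m) = K₀.subtype t ^ q := by
  have : Fact p.Prime := ⟨hpp⟩
  have hodd : p % 2 = 1 := hpp.eq_two_or_odd.resolve_left hp2
  obtain ⟨F₀, hF₀, -⟩ := H192.Fc.exists_subfield (p := p) r (F := K) (m := 2 * m) (n := 2 * n) (by omega)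
    (by rw [mul_assoc, hmn]) (by rw [Nat.card_eq_fintype_card, hK, hn, ← pow_mul, mul_comm])
  have hF₀' : Nat.card ↥F₀ = (r ^ m) ^ 2 := by rw [hF₀, ← pow_mul, mul_comm]
  refine ⟨F₀, hF₀', fun t => ?_⟩
  have hfin : Finite ↥F₀ := inferInstance
  rw [map_pow, hn]
  conv_rhs => rw [← hmn, pow_mul]
  refine (pow_sub6 hodd ?_).symm
  rw [← map_pow, card_sub6 hF₀']

/-- no automorphism of field type of another prime order centralises `L` -/
theorem no_cent6 {q : ℕ} (f : K →+* KK r) {n m m' p p' : ℕ} (hpp : p.Prime) (hp2 : p ≠ 2) (hpp' : p'.Prime)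
    (hp2' : p' ≠ 2) (hne : p' ≠ p) (hmn : m * p = n) (hmn' : m' * p' = n) (hn0 : 0 < n) {K₀ : Subfield K}
    (hK₀ : Nat.card ↥K₀ = (r ^ m) ^ 2) (hf : ∀ t : ↥K₀, K₀.subtype (t ^ r ^ m) = K₀.subtype t ^ q)
    (y : ↥(chevE6.group (KK r))) :
    ¬ ∀ a ∈ (res6 K₀.subtype hf).range, y * sig6 (KK r) r m' (em q f a) * y⁻¹ = em q f a := by
  intro hall
  have hodd : p % 2 = 1 := hpp.eq_two_or_odd.resolve_left hp2
  have hr : r.Prime := Fact.out
  have hm : 0 < m := Nat.pos_of_mul_pos_right (by rw [hmn]; exact hn0)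
  -- the common level
  have hpm : p' ∣ m := by
    have h1 : p' ∣ m * p := by rw [hmn, ← hmn']; exact dvd_mul_left _ _
    exact (Nat.Coprime.dvd_of_dvd_mul_right ((Nat.coprime_primes hpp' hpp).2 hne) h1)
  obtain ⟨d, rfl⟩ := hpm
  have hd : 0 < d := Nat.pos_of_mul_pos_left hm
  have hm'd : m' = d * p := by
    have h1 : p' * m' = p' * (d * p) := by
      rw [mul_comm p' m', hmn', ← hmn]; ring
    exact Nat.eq_of_mul_eq_mul_left hpp'.pos h1
  subst hm'd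
  have hchar : CharP ↥K₀ r := (RingHom.charP_iff K₀.subtype K₀.subtype.injective r).2 inferInstance
  have hfin : Fintype ↥K₀ := Fintype.ofFinite _
  have hK₀' : Fintype.card ↥K₀ = (r ^ (p' * d)) ^ 2 := by rw [← Nat.card_eq_fintype_card, hK₀]
  obtain ⟨K₁, hK₁, hf₁⟩ := exists_sub6 (K := ↥K₀) hK₀' rfl hpp' hp2' hd (by ring)
  have hchar₁ : CharP ↥K₁ r := (RingHom.charP_iff K₁.subtype K₁.subtype.injective r).2 inferInstance
  have hfin₁ : Fintype ↥K₁ := Fintype.ofFinite _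
  have hK₁' : Fintype.card ↥K₁ = (r ^ d) ^ 2 := by rw [← Nat.card_eq_fintype_card, hK₁]
  have hq₁ : IsPrimePow (r ^ d) := (isPrimePow_nat_iff _).2 ⟨r, d, hr, hd, rfl⟩
  obtain ⟨φ₁, hφ₁, hqq₁⟩ := exists_frob hq₁ hK₁'
  obtain ⟨f₁, hf₁'⟩ : ∃ f₁ : ↥K₁ →+* KK r, f₁ = (f.comp K₀.subtype).comp K₁.subtype := ⟨_, rfl⟩
  have hy : y = 1 := by
    refine H522.FamTw.Six.eq_one_of_comm hφ₁ hqq₁ f₁ y fun b => ?_
    have h1 := hall _ ⟨res6 K₁.subtype hf₁ b, rfl⟩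
    rw [em_res6, em_res6, ← hf₁'] at h1
    have h2 : sig6 (KK r) r (d * p) (em (r ^ d) f₁ b) = em (r ^ d) f₁ b := by
      rw [← sig6_pow r hodd]
      exact H28.GenF.apply_pow (H522.FamTw.Six.sig6_em f₁ r hφ₁ hqq₁ rfl b) p
    rw [h2] at h1
    exact mul_inv_eq_iff_eq_mul.1 h1
  subst hy
  have h1 : p' * d ∣ d * p := by
    refine dvd6 hK₀' hm rfl fun t ht => ?_
    obtain ⟨a, ha⟩ := mem_range6 (q := r ^ (p' * d)) (f.comp K₀.subtype) (s := 46) (by simp) ht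
    have h2 := hall _ ⟨a, rfl⟩
    rw [em_res6, ha, one_mul, inv_one, mul_one, sig6_x (by simp), ← map_pow] at h2
    exact (f.comp K₀.subtype).injective (xc_inj e6T (by decide : 46 < 72) h2)
  have h2 : p' ∣ p := by
    rw [mul_comm p' d] at h1
    exact Nat.dvd_of_mul_dvd_mul_left hd h1
  exact hne ((Nat.prime_dvd_prime_iff_eq hpp' hpp).1 h2)

/-- inner-diagonal or of field type of odd order -/
def Ty6 (q : ℕ) (f : K →+* KK r) (n p : ℕ) (α : MulAut ↥(twistedE6 K q)) : Prop :=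
  α ∈ InD (em q f) ∨ (p ≠ 2 ∧ ∃ m, 0 < m ∧ m * p = n ∧ Fl (em q f) p (sig6 (KK r) r m) α)

include hq hK hn in
/-- automorphisms of odd prime order -/
theorem ty6_of_odd {p : ℕ} (hpp : p.Prime) (hp2 : p ≠ 2) {α : MulAut ↥(twistedE6 K q)} (hα : α ^ p = 1) :
    Ty6 q f n p α := by
  rcases cases_te6 hq hK hpp hp2 f hn hα with h | ⟨h1, h2, i, y, h3, h4⟩
  · exact Or.inl h
  · exact Or.inr ⟨hp2, n / p, h2, h1, i, y, h3, h4⟩

include hq hK hn in
/-- **`²E₆(q)`: a cover with members inner-diagonal or of field type, not all inner-diagonal, is impossible.** -/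
theorem field_te6 (hn0 : 0 < n)
    (hRC : ∀ (K₀ : Subfield K) (q₀ : ℕ), IsPrimePow q₀ → Nat.card ↥K₀ = q₀ ^ 2 → q₀ < q → RC ↥(twistedE6 ↥K₀ q₀))
    {G Ω ι : Type*} [Group G] [MulAction G Ω] [Nonempty Ω] [Finite ι] {N : Subgroup G} (hE : Env G Ω N)
    (e : N ≃* ↥(twistedE6 K q)) {x : ι → G} {s : ι → ℕ} (hx : PF x s) (hcov : Cov Ω x)
    (hT : ∀ j, Ty6 q f n (s j) (act hE e (x j))) {i₀ : ι} (hi₀ : act hE e (x i₀) ∉ InD (em q f)) : False := by
  obtain ⟨hp2, m, hm, hmn, hFl⟩ := (hT i₀).resolve_left hi₀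
  obtain ⟨K₀, hK₀, hf⟩ := exists_sub6 hK hn (hx.prime i₀) hp2 hm hmn
  have hr : r.Prime := Fact.out
  have hlv := lv_te6 hq hK f hn (hx.prime i₀) hp2 hm hmn hK₀ hf (hRC K₀ _
    ((isPrimePow_nat_iff _).2 ⟨r, m, hr, hm, rfl⟩) hK₀ (by
      rw [hn]
      refine Nat.pow_lt_pow_right hr.one_lt ?_
      rw [← hmn]
      calc m = m * 1 := (mul_one m).symm
        _ < m * s i₀ := Nat.mul_lt_mul_of_pos_left (hx.prime i₀).one_lt hm))
  refine field_abs (fr_te6 hq hK f hn) hlv hE e hx hcov rfl hFl fun j hj => ?_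
  rcases hT j with h | ⟨hp2', m', hm', hmn', hFl'⟩
  · exact Or.inl h
  · exact Or.inr ⟨_, hFl', no_cent6 f (hx.prime i₀) hp2 (hx.prime j) hp2' (fun h => hj (hx.inj h)) hmn hmn' hn0 hK₀ hf⟩

end Six

end Cfsg.Agent.H327.RG
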