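import Cfsg.Agent.H327.RG.TwFourC
import Cfsg.Agent.H327.RG.TwSix
import Cfsg.Agent.S1071

/-!
# S3509, field automorphisms of `³D₄(q)`

* `fixS` : the fixed points in `K₀` of an automorphism of `Y`; `exists_equiv_fixS`;
* `exists_gf` : finite fields inside `KK r`;
* `fix_range4` : the fixed points of `gr * Frob` are the image of `³D₄(q)`; `fr_te4` : the frame;
* `Ty4`, `ty4` : every automorphism of prime order is inner-diagonal, of field type (order `p ≠ 3`) or of graph type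
  (order 3);
* `cent4` : the centralizer of the fixed points of `gr ^ j * Frob`, `j` prime to 3;
* `lv_te4`, `field_te4`.
-/

set_option autoImplicit false
set_option linter.unusedSectionVars false
set_option maxHeartbeats 400000

namespace Cfsg.Agent.H327.RG

open CoxeterSystem Subgroup Cfsg Cfsg.Lie Cfsg.Lie.ChevalleyDatum
open Cfsg.Agent.ChevalleyStructure Cfsg.Agent.ChevalleyStructure.Elts Cfsg.Agent.ChevalleyStructure.CoxeterGeom
  Cfsg.Agent.ChevalleyStructure.CoxeterGeomTypes Cfsg.Agent.ChevalleyStructure.NPerm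
open Cfsg.Agent.Nodes.RGDChev Cfsg.Agent.KFacts.RgdChevCoord
open Cfsg.Agent.BpExc.TowChev Cfsg.Agent.BpExc.FamUntw Cfsg.Agent.BpExc.LangFr Cfsg.Agent.BpExc.FamField
  Cfsg.Agent.BpExc.RowsUntw
open Cfsg.Agent.ChevalleyStructure.GraphSymm (symmD4a)
open Cfsg.Agent.H522.FamTw.Frame (sig4 sig4_pow sig4_congr isFrob_sig4 fr_sig4)
open Cfsg.Agent.H28.FamFour (em em_injective coe_em sig_em)
open Cfsg.Agent.BpExc.FamTw.Gr
open Cfsg.Agent.CpAut.RgdTwD4 (symS)
open Cfsg.Agent.GpExc.Field (glMap emb coe_emb glMap_xG emb_injective coe_glMap glMap_injective)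
open Cfsg.Agent.H469.Exc Cfsg.Agent.H469.Exc.SigFr
open Cfsg.Agent.H28.GenF
open Cfsg.Agent.H46.Gen
open Cfsg.Agent.H106.RC
open scoped commutatorElement

/-! ### fixed points -/

section fix

variable {Y K₀ : Type*} [Group Y] [Group K₀]

/-- the fixed points in `K₀` of an automorphism of `Y` -/
def fixS (ι : K₀ →* Y) (Ψ : MulAut Y) : Subgroup K₀ := MonoidHom.eqLocus (Ψ.toMonoidHom.comp ι) ι

theorem mem_fixS {ι : K₀ →* Y} {Ψ : MulAut Y} {a : K₀} : a ∈ fixS ι Ψ ↔ Ψ (ι a) = ι a := Iff.rfl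

theorem exists_equiv_fixS {K₁ : Type*} [Group K₁] {ι : K₀ →* Y} (hι : Function.Injective ι) {Ψ : MulAut Y}
    (θ : K₁ →* Y) (hθ : Function.Injective θ) (h : ∀ y, Ψ y = y ↔ y ∈ θ.range) (h' : ∀ y, Ψ y = y → y ∈ ι.range) :
    ∃ e : K₁ ≃* ↥(fixS ι Ψ), ∀ b, ι (e b : K₀) = θ b := by
  have h1 : ∀ b, ∃ a, ι a = θ b := fun b => h' _ ((h _).2 ⟨b, rfl⟩)
  choose g hg using h1
  have hmem : ∀ b, g b ∈ fixS ι Ψ := fun b => by
    rw [mem_fixS, hg]
    exact (h _).2 ⟨b, rfl⟩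
  let φ : K₁ →* ↥(fixS ι Ψ) :=
    { toFun := fun b => ⟨g b, hmem b⟩
      map_one' := Subtype.ext (hι (by
        show ι (g 1) = ι 1
        rw [hg, map_one, map_one]))
      map_mul' := fun b c => Subtype.ext (hι (by
        show ι (g (b * c)) = ι (g b * g c)
        rw [map_mul, hg, hg, hg, map_mul])) }
  have hφ : ∀ b, ι (φ b : K₀) = θ b := hg
  refine ⟨MulEquiv.ofBijective φ ⟨fun b c hbc => hθ ?_, fun a => ?_⟩, hg⟩
  · rw [← hφ, ← hφ, hbc]
  · obtain ⟨b, hb⟩ := (h _).1 (mem_fixS.1 a.2)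
    exact ⟨b, Subtype.ext (hι (by rw [hφ, hb]))⟩

end fix

/-- finite fields inside `KK r` -/
theorem exists_gf {r : ℕ} [Fact r.Prime] {n : ℕ} (hn : n ≠ 0) : ∃ (K₁ : Type) (_ : Field K₁) (_ : Fintype K₁)
    (_ : CharP K₁ r) (_ : K₁ →+* KK r), Fintype.card K₁ = r ^ n := by
  have h1 : Finite (GaloisField r n) := inferInstance
  have h2 : Fintype (GaloisField r n) := Fintype.ofFinite _
  have h3 : Algebra.IsAlgebraic (ZMod r) (GaloisField r n) := Algebra.IsAlgebraic.of_finite _ _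
  refine ⟨GaloisField r n, inferInstance, h2, inferInstance,
    (IsAlgClosed.lift : GaloisField r n →ₐ[ZMod r] AlgebraicClosure (ZMod r)).toRingHom, ?_⟩
  rw [← Nat.card_eq_fintype_card]
  exact GaloisField.card r n hn

section Four

variable {r : ℕ} [Fact r.Prime]

/-- the embedding of `³D₄(q)` is fixed -/
theorem sig4_em {K : Type} [Field K] [Fintype K] [CharP K r] {q : ℕ} (hq : IsPrimePow q)
    (hK : Fintype.card K = q ^ 3) (f : K →+* KK r) {n : ℕ} (hn : q = r ^ n) (a : ↥(twistedD4 K q)) :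
    sig4 (KK r) r 1 n (em q f a) = em q f a := by
  obtain ⟨φ, hφ⟩ := D4Fixed.exists_frob hq hK
  have h1 := sig_em hφ hK f (Φ := frb (KK r) r n) (fun a => by rw [frb_apply, hφ, map_pow, hn]) a
  rw [MulAut.mul_apply, pow_one]
  exact h1

/-- **The fixed points of `gr * Frob` are the image of `³D₄(q)`.** -/
theorem fix_range4 {K : Type} [Field K] [Fintype K] [CharP K r] {q : ℕ}
    (hK : Fintype.card K = q ^ 3) (f : K →+* KK r) {n : ℕ} (hn0 : 0 < n) (hn : q = r ^ n)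
    {y : ↥(chevD4.group (KK r))} (hy : sig4 (KK r) r 1 n y = y) : y ∈ (em q f).range := by
  have hrp : r.Prime := Fact.out
  have hq : IsPrimePow q := (isPrimePow_nat_iff _).2 ⟨r, n, hrp, hn0, hn.symm⟩
  have h1 : H720.TwFr.sig4 (KK r) r n y = y := by
    rw [H720.TwFr.sig4, MulAut.mul_apply]
    rw [MulAut.mul_apply, pow_one] at hy
    exact hy
  obtain ⟨a, ha⟩ := H720.TwFr.desc4 f r (H720.TwFr.tw4_le hq hK) (locFin r) hn0 hn hK h1
  exact ⟨a, ha⟩

/-- the centralizer of `³D₄(q)` -/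
theorem eq_one4 {K : Type} [Field K] [Fintype K] [CharP K r] {q : ℕ} (hq : IsPrimePow q)
    (hK : Fintype.card K = q ^ 3) (f : K →+* KK r) {z : ↥(chevD4.group (KK r))}
    (hz : ∀ a : ↥(twistedD4 K q), z * em q f a = em q f a * z) : z = 1 := by
  obtain ⟨φ, hφ⟩ := D4Fixed.exists_frob hq hK
  exact H28.FamFour.eq_one_of_comm hφ hK f hz

/-- the frame of `³D₄(q)` -/
theorem fr_te4 {K : Type} [Field K] [Fintype K] [CharP K r] {q : ℕ} (hq : IsPrimePow q)
    (hK : Fintype.card K = q ^ 3) (f : K →+* KK r) {n : ℕ} (hn0 : 0 < n) (hn : q = r ^ n) :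
    Fr (em q f) (sig4 (KK r) r 1 n) where
  inj := em_injective f
  cent z hz := eq_one4 hq hK f hz
  fixι a := sig4_em hq hK f hn a
  norm y hy a := by
    obtain ⟨b, rfl⟩ := fix_range4 hK f hn0 hn hy
    exact ⟨b * a * b⁻¹, by rw [map_mul, map_mul, map_inv]⟩

/-- inner-diagonal, of field type, or of graph type (order 3) -/
def Ty4 {K : Type} [Field K] (q : ℕ) (f : K →+* KK r) (n p : ℕ) (α : MulAut ↥(twistedD4 K q)) : Prop :=
  α ∈ InD (em q f) ∨
  (p ≠ 3 ∧ ∃ m j, 0 < m ∧ m * p = n ∧ (j * p) % 3 = 1 ∧ Fl (em q f) p (sig4 (KK r) r j m) α) ∨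
  (p = 3 ∧ Fl (em q f) p (phi chevD4 (KK r) r n) α)

/-- **The automorphisms of prime order.** -/
theorem ty4 {K : Type} [Field K] [Fintype K] [CharP K r] {q : ℕ} (hq : IsPrimePow q)
    (hK : Fintype.card K = q ^ 3) (f : K →+* KK r) {n : ℕ} (hn : q = r ^ n) {p : ℕ} (hpp : p.Prime)
    {α : MulAut ↥(twistedD4 K q)} (hα : α ^ p = 1) : Ty4 q f n p α := by
  have hr : r.Prime := Fact.out
  by_cases hp3 : p = 3
  · subst hp3
    rcases Four.lift3 (L := KK r) hq hK f r hn hα with ⟨y, hy⟩ | ⟨i, y, hi, hy⟩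
    · exact Or.inl ⟨y, hy⟩
    · exact Or.inr (Or.inr ⟨rfl, i, y, hi, hy⟩)
  · rcases Four.famX (L := KK r) hq hK f r (Φ := frb (KK r) r n) (fun a => by rw [frb_apply, hn]) hpp hp3 α hα with
      ⟨y, hy⟩ | ⟨i, c, j, m, hi, hm, hqm, hj, hc⟩
    · exact Or.inl ⟨y, hy⟩
    · refine Or.inr (Or.inl ⟨hp3, m, j, hm, ?_, hj, i, c, hi, hc⟩)
      rw [hn] at hqm
      exact (Nat.pow_right_injective hr.two_le hqm).symm

/-! ### the graph automorphism of order 2 -/

theorem rel4 : ∀ s : Fin chevD4.nroots, symS.σ (symmD4a.σ s) = symmD4a.σ (symmD4a.σ (symS.σ s)) ∧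
    symS.ε (symmD4a.σ s) * symmD4a.ε s =
      symmD4a.ε (symmD4a.σ (symS.σ s)) * (symmD4a.ε (symS.σ s) * symS.ε s) := by decide +kernel

/-- `δ γ = γ² δ` for the graph automorphisms of order 2 and 3 -/
theorem delta_gamma {k : Type} [Field k] : gr (L := k) hD4 symS * gr (L := k) hD4 symmD4a =
    gr (L := k) hD4 symmD4a ^ 2 * gr (L := k) hD4 symS := by
  apply aut_ext hD4
  intro s t
  obtain ⟨h1, h2⟩ := rel4 s
  rw [MulAut.mul_apply, MulAut.mul_apply, pow_two, MulAut.mul_apply]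
  rw [gr_xg hD4 symmD4a s, gr_xg hD4 symS (symmD4a.σ s), gr_xg hD4 symS s, gr_xg hD4 symmD4a (symS.σ s),
    gr_xg hD4 symmD4a (symmD4a.σ (symS.σ s)), h1]
  congr 1
  have h3 := congrArg (fun z : ℤ => (z : k)) h2
  push_cast at h3
  calc ((symS.ε (symmD4a.σ s) : ℤ) : k) * (((symmD4a.ε s : ℤ) : k) * t)
      = (((symS.ε (symmD4a.σ s) : ℤ) : k) * ((symmD4a.ε s : ℤ) : k)) * t := by ring
    _ = _ := by rw [h3]; ring

/-- `gr ^ j * Frob` is conjugate to `gr * Frob` -/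
theorem exists_delta {j : ℕ} (hj : j % 3 ≠ 0) (m : ℕ) : ∃ δ : MulAut ↥(chevD4.group (KK r)),
    sig4 (KK r) r j m * δ = δ * sig4 (KK r) r 1 m ∧ phi chevD4 (KK r) r m * δ = δ * phi chevD4 (KK r) r m := by
  have h1 : j % 3 = 1 ∨ j % 3 = 2 := by omega
  rcases h1 with h1 | h1
  · exact ⟨1, by rw [sig4_congr r (j' := 1) (by omega), mul_one, one_mul], by rw [mul_one, one_mul]⟩
  · have h2 : gr (L := KK r) hD4 symS * phi chevD4 (KK r) r m = phi chevD4 (KK r) r m * gr (L := KK r) hD4 symS :=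
      gr_mul_fld hD4 symS _
    refine ⟨gr (L := KK r) hD4 symS, ?_, h2.symm⟩
    rw [sig4_congr r (j' := 2) (by omega)]
    show gr (L := KK r) hD4 symmD4a ^ 2 * phi chevD4 (KK r) r m * gr (L := KK r) hD4 symS =
      gr (L := KK r) hD4 symS * (gr (L := KK r) hD4 symmD4a ^ 1 * phi chevD4 (KK r) r m)
    rw [pow_one, ← mul_assoc, delta_gamma, mul_assoc, mul_assoc, h2]

/-- the fixed points of `gr ^ j * Frob` -/
theorem fix4_iff {K : Type} [Field K] [Fintype K] [CharP K r] {q : ℕ} (hq : IsPrimePow q)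
    (hK : Fintype.card K = q ^ 3) (f : K →+* KK r) {m : ℕ} (hm0 : 0 < m) (hm : q = r ^ m) {j : ℕ}
    {δ : MulAut ↥(chevD4.group (KK r))} (hδ : sig4 (KK r) r j m * δ = δ * sig4 (KK r) r 1 m)
    (y : ↥(chevD4.group (KK r))) : sig4 (KK r) r j m y = y ↔ y ∈ (δ.toMonoidHom.comp (em q f)).range := by
  constructor
  · intro hy
    have h1 : sig4 (KK r) r 1 m (δ⁻¹ y) = δ⁻¹ y := by
      apply δ.injective
      have h2 : sig4 (KK r) r j m (δ (δ⁻¹ y)) = δ (sig4 (KK r) r 1 m (δ⁻¹ y)) := DFunLike.congr_fun hδ (δ⁻¹ y)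
      rw [MulAut.apply_inv_self, hy] at h2
      rw [← h2, MulAut.apply_inv_self]
    obtain ⟨b, hb⟩ := fix_range4 hK f hm0 hm h1
    refine ⟨b, ?_⟩
    show δ (em q f b) = y
    rw [hb, MulAut.apply_inv_self]
  · rintro ⟨b, rfl⟩
    have h2 : sig4 (KK r) r j m (δ (em q f b)) = δ (sig4 (KK r) r 1 m (em q f b)) := DFunLike.congr_fun hδ (em q f b)
    show sig4 (KK r) r j m (δ (em q f b)) = δ (em q f b)
    rw [h2, sig4_em hq hK f hm]

/-- **The centralizer of the fixed points of `gr ^ j * Frob`.** -/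
theorem cent4 {j m : ℕ} (hj : j % 3 ≠ 0) (hm0 : 0 < m) {y : ↥(chevD4.group (KK r))}
    (hy : ∀ z, sig4 (KK r) r j m z = z → y * z = z * y) : y = 1 := by
  have hr : r.Prime := Fact.out
  obtain ⟨δ, hδ, -⟩ := exists_delta (r := r) hj m
  obtain ⟨K₁, i1, i2, i3, f₁, hK₁⟩ := exists_gf (r := r) (n := m * 3) (by omega)
  rw [pow_mul] at hK₁
  have hq₁ : IsPrimePow (r ^ m) := (isPrimePow_nat_iff _).2 ⟨r, m, hr, hm0, rfl⟩
  have h1 : δ⁻¹ y = 1 := by
    refine eq_one4 hq₁ hK₁ f₁ fun a => ?_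
    have h2 := hy (δ (em (r ^ m) f₁ a)) ((fix4_iff hq₁ hK₁ f₁ hm0 rfl hδ _).2 ⟨a, rfl⟩)
    apply δ.injective
    rw [map_mul, map_mul, MulAut.apply_inv_self, h2]
  have h2 := congrArg δ h1
  rwa [MulAut.apply_inv_self, map_one] at h2

/-! ### root elements -/

theorem pr4 : Pr chevD4 4 (vec chevD4 4 14) (vec chevD4 4 22) where
  ra := ⟨14, by decide +kernel, rfl⟩
  rb := ⟨22, by decide +kernel, rfl⟩
  rs := by unfold Rt; decide +kernel
  nd := by unfold Rt; decide +kernel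
  n1 := by unfold Rt; decide +kernel
  n2 := by unfold Rt; decide +kernel

/-- `gr` on the long root elements -/
theorem gr4_x {s : ℕ} (hs : s ∈ [14, 22]) (j : ℕ) (t : KK r) :
    (gr (L := KK r) hD4 symmD4a ^ j) (xc Nodes.RGDTwD4.hp (vec chevD4 4 s) t) =
      xc Nodes.RGDTwD4.hp (vec chevD4 4 s) t := by
  have key : ∀ s : Fin 24, s.val ∈ [14, 22] → (symmD4a.σ ⟨s.val, s.2⟩).val = s.val ∧ symmD4a.ε ⟨s.val, s.2⟩ = 1 := by
    decide +kernel
  have hs24 : s < 24 := by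
    simp only [List.mem_cons, List.not_mem_nil, or_false] at hs
    omega
  obtain ⟨h1, h2⟩ := key ⟨s, hs24⟩ hs
  have h3 : xc Nodes.RGDTwD4.hp (vec chevD4 4 s) t = xg hD4 s t :=
    Subtype.ext (coe_xc Nodes.RGDTwD4.hp hs24 _)
  rw [h3]
  induction j with
  | zero => rfl
  | succ j ih => rw [pow_succ, MulAut.mul_apply, gr_xg hD4 symmD4a ⟨s, hs24⟩, h1, h2, Int.cast_one, one_mul, ih]

theorem sig4_x {s : ℕ} (hs : s ∈ [14, 22]) (j m : ℕ) (t : KK r) :
    sig4 (KK r) r j m (xc Nodes.RGDTwD4.hp (vec chevD4 4 s) t) = xc Nodes.RGDTwD4.hp (vec chevD4 4 s) (t ^ r ^ m) := by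
  have hs24 : s < 24 := by
    simp only [List.mem_cons, List.not_mem_nil, or_false] at hs
    omega
  rw [MulAut.mul_apply, H378.TorChar.phi_xc Nodes.RGDTwD4.hp r hs24]
  exact gr4_x hs j _

/-- the Frobenius on the fixed field -/
theorem dvd4 {n : ℕ} (hn0 : 0 < n) {m : ℕ} (h : ∀ t : KK r, t ^ r ^ n = t → t ^ r ^ m = t) : n ∣ m := by
  have hr : r.Prime := Fact.out
  obtain ⟨K₁, i1, i2, i3, f₁, hK₁⟩ := exists_gf (r := r) (n := n) (by omega)
  rw [← Nat.card_eq_fintype_card] at hK₁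
  rw [← forall_pow_iff (F := K₁) r hK₁ m]
  intro t
  have h2 := h (f₁ t) (by
    have h3 := (forall_pow_iff (F := K₁) r hK₁ n).2 dvd_rfl t
    rw [← map_pow, h3])
  exact f₁.injective (by rw [map_pow, h2])

/-- elements over the prime field -/
theorem phi_emG {K₁ : Type} [Field K₁] [Fintype K₁] [CharP K₁ r] (f₁ : K₁ →+* KK r) (h : Fintype.card K₁ = r ^ 1)
    (m : ℕ) (b : ↥(twistedD4 K₁ 1)) : phi chevD4 (KK r) r m (em 1 f₁ b) = em 1 f₁ b := by
  rw [← Nat.card_eq_fintype_card] at h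
  have h1 := H28.FamFour.fld_em f₁ (τ := (1 : K₁ ≃+* K₁)) (τ' := frb (KK r) r m) (fun a => by
    rw [frb_apply, ← map_pow, (forall_pow_iff (F := K₁) r h m).2 (one_dvd m) a]
    rfl) b
  rw [H28.FamFour.st_one] at h1
  exact h1

/-- **An automorphism of graph type (order 3) does not centralise the level.** -/
theorem no_cent_graph4 {K : Type} [Field K] [Fintype K] [CharP K r] {q : ℕ}
    (hK : Fintype.card K = q ^ 3) (f : K →+* KK r) {n : ℕ} (hn0 : 0 < n) (hn : q = r ^ n) {p : ℕ}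
    {m j : ℕ} (hm : 0 < m) (hpow : sig4 (KK r) r j m ^ p = sig4 (KK r) r 1 n) (hj3 : j % 3 ≠ 0)
    (y : ↥(chevD4.group (KK r))) :
    ¬ ∀ a ∈ fixS (em q f) (sig4 (KK r) r j m), y * phi chevD4 (KK r) r n (em q f a) * y⁻¹ = em q f a := by
  intro hall
  have hr : r.Prime := Fact.out
  have hfixn : ∀ z, sig4 (KK r) r j m z = z → sig4 (KK r) r 1 n z = z := by
    intro z hz
    rw [← hpow]
    exact H28.GenF.apply_pow hz _
  have hall' : ∀ z, sig4 (KK r) r j m z = z → y * phi chevD4 (KK r) r n z * y⁻¹ = z := by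
    intro z hz
    obtain ⟨a, rfl⟩ := fix_range4 hK f hn0 hn (hfixn z hz)
    exact hall a hz
  have hgrj : ∀ z, gr (L := KK r) hD4 symmD4a z = z → ∀ i : ℕ, (gr (L := KK r) hD4 symmD4a ^ i) z = z := by
    intro z hz i
    exact H28.GenF.apply_pow hz i
  have hy : y = 1 := by
    obtain ⟨K₁, i1, i2, i3, f₁, hK₁⟩ := exists_gf (r := r) (n := 1) (by omega)
    refine Four.eq_one_G f₁ fun b => ?_
    have h1 : sig4 (KK r) r j m (em 1 f₁ b) = em 1 f₁ b := by
      have h2 : (gr (L := KK r) hD4 symmD4a ^ j) (phi chevD4 (KK r) r m (em 1 f₁ b)) = em 1 f₁ b := by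
        rw [phi_emG f₁ hK₁]
        exact hgrj _ (Four.gr_emG f₁ b) j
      exact h2
    have h2 := hall' _ h1
    rw [phi_emG f₁ hK₁] at h2
    exact mul_inv_eq_iff_eq_mul.1 h2
  subst hy
  obtain ⟨δ, hδ, hδ'⟩ := exists_delta (r := r) hj3 m
  obtain ⟨K₁, i1, i2, i3, f₁, hK₁⟩ := exists_gf (r := r) (n := m * 3) (by omega)
  have hK₁' : Nat.card K₁ = r ^ (m * 3) := by rw [Nat.card_eq_fintype_card, hK₁]
  rw [pow_mul] at hK₁
  have hq₁ : IsPrimePow (r ^ m) := (isPrimePow_nat_iff _).2 ⟨r, m, hr, hm, rfl⟩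
  have key : ∀ b, phi chevD4 (KK r) r m (em (r ^ m) f₁ b) = em (r ^ m) f₁ b := by
    intro b
    have h1 : sig4 (KK r) r j m (δ (em (r ^ m) f₁ b)) = δ (em (r ^ m) f₁ b) :=
      (fix4_iff hq₁ hK₁ f₁ hm rfl hδ _).2 ⟨b, rfl⟩
    have h2 := hall' _ h1
    rw [one_mul, inv_one, mul_one] at h2
    have h3 := hfixn _ h1
    rw [MulAut.mul_apply, h2, pow_one] at h3
    have h4 : (gr (L := KK r) hD4 symmD4a ^ j) (phi chevD4 (KK r) r m (δ (em (r ^ m) f₁ b))) = δ (em (r ^ m) f₁ b) := h1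
    have h5 : phi chevD4 (KK r) r m (δ (em (r ^ m) f₁ b)) = δ (em (r ^ m) f₁ b) :=
      (gr (L := KK r) hD4 symmD4a ^ j).injective (h4.trans (hgrj _ h3 j).symm)
    have h6 : phi chevD4 (KK r) r m (δ (em (r ^ m) f₁ b)) = δ (phi chevD4 (KK r) r m (em (r ^ m) f₁ b)) :=
      DFunLike.congr_fun hδ' _
    rw [h6] at h5
    exact δ.injective h5
  have h1 : m * 3 ∣ m := by
    rw [← forall_pow_iff (F := K₁) r hK₁' m]
    intro t
    obtain ⟨b, hb⟩ : ∃ b : ↥(twistedD4 K₁ (r ^ m)), (b : GL chevD4.Idx K₁) =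
        wordG hD4 [(18, t), (13, t ^ (r ^ m)), (12, t ^ ((r ^ m) ^ 2))] := by
      refine ⟨⟨_, CpAut.RgdTwD4.triple_mem t (rs := (18, 13, 12)) (by simp)⟩, ?_⟩
      rw [wordG_cons, wordG_cons, wordG_cons, wordG_nil, mul_one]
    have h2 := congrArg Subtype.val (key b)
    have h3 : ((phi chevD4 (KK r) r m (em (r ^ m) f₁ b) : ↥(chevD4.group (KK r))) : GL chevD4.Idx (KK r)) =
        glMap chevD4 ((frb (KK r) r m : KK r ≃+* KK r) : KK r →+* KK r) (glMap chevD4 f₁ (b : GL chevD4.Idx K₁)) := rfl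
    rw [h3, coe_em, hb, BpExc.Emb.glMap_wordG, BpExc.Emb.glMap_wordG] at h2
    simp only [List.map_cons, List.map_nil] at h2
    have h4 := Four.eq_of_triple h2
    have h5 : (f₁ t) ^ r ^ m = f₁ t := by
      rw [← frb_apply]
      exact h4
    exact f₁.injective (by rw [map_pow, h5])
  have h2 := Nat.le_of_dvd hm h1
  omega

/-- **The level of a field automorphism of `³D₄(q)`.** -/
theorem lv_te4 {K : Type} [Field K] [Fintype K] [CharP K r] {q : ℕ}
    (hK : Fintype.card K = q ^ 3) (f : K →+* KK r) {n : ℕ} (hn : q = r ^ n) {p : ℕ} (hpp : p.Prime)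
    {m j : ℕ} (hm : 0 < m) (hmn : m * p = n) (hj : (j * p) % 3 = 1)
    (hRC : ∀ (K₁ : Type) [Field K₁] [Fintype K₁], Fintype.card K₁ = (r ^ m) ^ 3 → RC ↥(twistedD4 K₁ (r ^ m))) :
    Lv (em q f) (sig4 (KK r) r 1 n) p (sig4 (KK r) r j m) (fixS (em q f) (sig4 (KK r) r j m)) := by
  have hr : r.Prime := Fact.out
  have hj3 : j % 3 ≠ 0 := by
    intro h
    have h1 : (j * p) % 3 = ((j % 3) * (p % 3)) % 3 := Nat.mul_mod _ _ _
    rw [h, zero_mul] at h1
    omega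
  have hn0 : 0 < n := by rw [← hmn]; exact Nat.mul_pos hm hpp.pos
  have hpow : sig4 (KK r) r j m ^ p = sig4 (KK r) r 1 n := by
    rw [sig4_pow, hmn, sig4_congr r (j' := 1) (by omega)]
  have hrange : ∀ y, sig4 (KK r) r j m y = y → y ∈ (em q f).range := by
    intro y hy
    refine fix_range4 hK f hn0 hn ?_
    rw [← hpow]
    exact H28.GenF.apply_pow hy p
  obtain ⟨δ, hδ, -⟩ := exists_delta (r := r) hj3 m
  obtain ⟨K₁, i1, i2, i3, f₁, hK₁⟩ := exists_gf (r := r) (n := m * 3) (by omega)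
  rw [pow_mul] at hK₁
  have hq₁ : IsPrimePow (r ^ m) := (isPrimePow_nat_iff _).2 ⟨r, m, hr, hm, rfl⟩
  obtain ⟨eL, -⟩ := exists_equiv_fixS (em_injective f) (δ.toMonoidHom.comp (em (r ^ m) f₁))
    (δ.injective.comp (em_injective f₁)) (fix4_iff hq₁ hK₁ f₁ hm rfl hδ) hrange
  obtain ⟨hs0, hs0'⟩ := Cfsg.Agent.S1071.result hq₁ hK₁
  have hs1 : IsSimpleGroup ↥(fixS (em q f) (sig4 (KK r) r j m)) := isSimple_cgr0 eL hs0
  have hs2 : ¬ IsMulCommutative ↥(fixS (em q f) (sig4 (KK r) r j m)) := fun hc => hs0' ⟨⟨fun a b => by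
    apply eL.injective
    rw [map_mul, map_mul]
    exact hc.is_comm.comm _ _⟩⟩
  have hder := perfect_of_simple hs1 hs2
  refine
    { pow := hpow
      lang := fun h => ?_
      fixL := fun a ha => ha
      charL := fun α hα a ha => hα a ha
      centL := fun y hy => cent4 hj3 hm fun z hz => by
        obtain ⟨a, rfl⟩ := hrange z hz
        exact hy a hz
      simple := by rw [hder]; exact hs1
      ncomm := by rw [hder]; exact hs2
      rc := by rw [hder]; exact (hRC K₁ hK₁).congr eL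
      fin := fun β hβ => ?_ }
  · obtain ⟨g', hg'⟩ := fr_sig4 (locFin r) r Nodes.RGDTwD4.hp coxeterD4.toCoxeterSystem j m
    obtain ⟨z, hz⟩ := lang_all Nodes.RGDTwD4.hp coxeterD4.toCoxeterSystem hm (isFrob_sig4 r j m) hg' 1 h
    rw [map_one, one_mul] at hz
    exact ⟨z, hz⟩
  · obtain ⟨t, ht, ht'⟩ : ∃ t : KK r, t ^ r ^ n = t ∧ t ^ r ^ m ≠ t := by
      by_contra hcon
      push Not at hcon
      have h1 := Nat.le_of_dvd hm (dvd4 hn0 hcon)
      have h2 : m * 1 < m * p := Nat.mul_lt_mul_of_pos_left hpp.one_lt hm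
      omega
    have hmem : ∀ {s : ℕ}, s ∈ [14, 22] → ∀ t : KK r, t ^ r ^ n = t → xc Nodes.RGDTwD4.hp (vec chevD4 4 s) t ∈
        (em q f).range := by
      intro s hs t ht
      refine fix_range4 hK f hn0 hn ?_
      rw [sig4_x hs, ht]
    have h1 : ∀ {s : ℕ}, s ∈ [14, 22] → ∃ a ∈ fixS (em q f) (sig4 (KK r) r j m),
        em q f a = xc Nodes.RGDTwD4.hp (vec chevD4 4 s) 1 := by
      intro s hs
      obtain ⟨a, ha⟩ := hmem hs 1 (one_pow _)
      refine ⟨a, ?_, ha⟩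
      rw [mem_fixS, ha, sig4_x hs, one_pow]
    refine fin_pair Nodes.RGDTwD4.hp (em_injective f) pr4 (t := t) (t' := t ^ r ^ m) (fun h => ht' h)
      (sig4_x (by simp) j m t) (hmem (by simp) t ht) (hmem (by simp) _ ?_) (h1 (by simp)) (h1 (by simp)) hβ
    rw [inv_pow, sub_pow_char_pow, ← pow_mul, mul_comm, pow_mul, ht]

/-- **`³D₄(q)`: a cover with a member of field type is impossible.** -/
theorem field_te4 {K : Type} [Field K] [Fintype K] [CharP K r] {q : ℕ} (hq : IsPrimePow q)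
    (hK : Fintype.card K = q ^ 3) (f : K →+* KK r) {n : ℕ} (hn0 : 0 < n) (hn : q = r ^ n)
    (hRC : ∀ (K₁ : Type) [Field K₁] [Fintype K₁] (q₀ : ℕ), IsPrimePow q₀ → Fintype.card K₁ = q₀ ^ 3 → q₀ < q →
      RC ↥(twistedD4 K₁ q₀))
    {G Ω ι : Type*} [Group G] [MulAction G Ω] [Nonempty Ω] [Finite ι] {N : Subgroup G} (hE : Env G Ω N)
    (e : N ≃* ↥(twistedD4 K q)) {x : ι → G} {s : ι → ℕ} (hx : PF x s) (hcov : Cov Ω x) {i₀ : ι} (h3 : s i₀ ≠ 3)
    (hi₀ : act hE e (x i₀) ∉ InD (em q f)) : False := by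
  have hr : r.Prime := Fact.out
  have hT : ∀ j, Ty4 q f n (s j) (act hE e (x j)) := fun j => ty4 hq hK f hn (hx.prime j) (by
    rw [← map_pow, hx.pow, map_one])
  obtain ⟨-, m, j₀, hm, hmn, hj₀, hFl⟩ : s i₀ ≠ 3 ∧ ∃ m j, 0 < m ∧ m * s i₀ = n ∧ (j * s i₀) % 3 = 1 ∧
      Fl (em q f) (s i₀) (sig4 (KK r) r j m) (act hE e (x i₀)) := by
    rcases hT i₀ with h | h | ⟨h, -⟩
    · exact absurd h hi₀
    · exact h
    · exact absurd h h3
  have hpp := hx.prime i₀
  have hlv := lv_te4 hK f hn hpp hm hmn hj₀ (fun K₁ _ _ hK₁ => hRC K₁ (r ^ m)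
    ((isPrimePow_nat_iff _).2 ⟨r, m, hr, hm, rfl⟩) hK₁ (by
      rw [hn]
      refine Nat.pow_lt_pow_right hr.one_lt ?_
      rw [← hmn]
      calc m = m * 1 := (mul_one m).symm
        _ < m * s i₀ := Nat.mul_lt_mul_of_pos_left hpp.one_lt hm))
  refine field_abs (fr_te4 hq hK f hn0 hn) hlv hE e hx hcov rfl hFl fun j hj => ?_
  have hne : s j ≠ s i₀ := fun h => hj (hx.inj h)
  have hj3 : j₀ % 3 ≠ 0 := by
    intro h
    have h1 : (j₀ * s i₀) % 3 = ((j₀ % 3) * (s i₀ % 3)) % 3 := Nat.mul_mod _ _ _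
    rw [h, zero_mul] at h1
    omega
  have hrange : ∀ y, sig4 (KK r) r j₀ m y = y → y ∈ (em q f).range := by
    intro y hy
    refine fix_range4 hK f hn0 hn ?_
    have hpow : sig4 (KK r) r j₀ m ^ s i₀ = sig4 (KK r) r 1 n := by
      rw [sig4_pow, hmn, sig4_congr r (j' := 1) (by omega)]
    rw [← hpow]
    exact H28.GenF.apply_pow hy _
  -- the end: `Ψ'` moves a root element of the level
  have hend : ∀ {Ψ' : MulAut ↥(chevD4.group (KK r))} {m' : ℕ} {y : ↥(chevD4.group (KK r))}, ¬ m ∣ m' → y = 1 →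
      (∀ t, Ψ' (xc Nodes.RGDTwD4.hp (vec chevD4 4 14) t) = xc Nodes.RGDTwD4.hp (vec chevD4 4 14) (t ^ r ^ m')) →
      ¬ ∀ a ∈ fixS (em q f) (sig4 (KK r) r j₀ m), y * Ψ' (em q f a) * y⁻¹ = em q f a := by
    intro Ψ' m' y hmm hy hΨ hall
    subst hy
    refine hmm (dvd4 (r := r) hm fun t ht => ?_)
    have h1 : sig4 (KK r) r j₀ m (xc Nodes.RGDTwD4.hp (vec chevD4 4 14) t) = xc Nodes.RGDTwD4.hp (vec chevD4 4 14) t := by
      rw [sig4_x (by simp), ht]
    obtain ⟨a, ha⟩ := hrange _ h1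
    have h2 := hall a (by rw [mem_fixS, ha, h1])
    rw [one_mul, inv_one, mul_one, ha, hΨ] at h2
    exact xc_inj Nodes.RGDTwD4.hp (by decide : 14 < 24) h2
  rcases hT j with h | ⟨hp3', m', j', hm', hmn', hj', hFl'⟩ | ⟨h3', hFl'⟩
  · exact Or.inl h
  · refine Or.inr ⟨_, hFl', fun y hall => ?_⟩
    have hpp' := hx.prime j
    -- the common level
    have hpm : s j ∣ m := by
      have h1 : s j ∣ m * s i₀ := by rw [hmn, ← hmn']; exact dvd_mul_left _ _
      exact (Nat.Coprime.dvd_of_dvd_mul_right ((Nat.coprime_primes hpp' hpp).2 hne) h1)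
    obtain ⟨d, rfl⟩ := hpm
    have hd : 0 < d := Nat.pos_of_mul_pos_left hm
    have hm'd : m' = d * s i₀ := by
      have h1 : s j * m' = s j * (d * s i₀) := by
        rw [mul_comm (s j) m', hmn', ← hmn]; ring
      exact Nat.eq_of_mul_eq_mul_left hpp'.pos h1
    -- the exponent of the graph automorphism
    have hmod : ∀ a b : ℕ, (a * b) % 3 = ((a % 3) * (b % 3)) % 3 := fun a b => Nat.mul_mod _ _ _
    obtain ⟨P, hP⟩ : ∃ P, P = s i₀ := ⟨_, rfl⟩
    obtain ⟨P', hP'⟩ : ∃ P', P' = s j := ⟨_, rfl⟩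
    rw [← hP] at hj₀ hm'd hmn
    rw [← hP'] at hj' hmn' hm hpp'
    have hP3 : P % 3 = 1 ∨ P % 3 = 2 := by
      have h1 := hmod j₀ P
      have h2 : P % 3 < 3 := Nat.mod_lt _ (by norm_num)
      rcases Nat.lt_or_ge (P % 3) 1 with h3 | h3
      · rw [show P % 3 = 0 by omega, mul_zero] at h1; omega
      · omega
    have hP3' : P' % 3 = 1 ∨ P' % 3 = 2 := by
      have h1 := hmod j' P'
      have h2 : P' % 3 < 3 := Nat.mod_lt _ (by norm_num)
      rcases Nat.lt_or_ge (P' % 3) 1 with h3 | h3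
      · rw [show P' % 3 = 0 by omega, mul_zero] at h1; omega
      · omega
    have hjj : j₀ % 3 = P % 3 := by
      have h1 := hmod j₀ P
      have h2 : j₀ % 3 < 3 := Nat.mod_lt _ (by norm_num)
      have h3 : j₀ % 3 = 1 ∨ j₀ % 3 = 2 := by omega
      rcases hP3 with h | h <;> rcases h3 with h' | h' <;> rw [h, h'] at h1 <;> omega
    have hjj' : j' % 3 = P' % 3 := by
      have h1 := hmod j' P'
      have h2 : j' % 3 < 3 := Nat.mod_lt _ (by norm_num)
      have h3 : j' % 3 = 1 ∨ j' % 3 = 2 := by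
        rcases Nat.lt_or_ge (j' % 3) 1 with h3 | h3
        · rw [show j' % 3 = 0 by omega, zero_mul] at h1; omega
        · omega
      rcases hP3' with h | h <;> rcases h3 with h' | h' <;> rw [h, h'] at h1 <;> omega
    obtain ⟨J, hJ3, hJ1, hJ2⟩ : ∃ J : ℕ, J % 3 ≠ 0 ∧ (J * P') % 3 = j₀ % 3 ∧ (J * P) % 3 = j' % 3 := by
      rcases hP3 with h | h <;> rcases hP3' with h' | h'
      · exact ⟨1, by omega, by rw [hmod, h', hjj, h], by rw [hmod, h, hjj', h']⟩
      · exact ⟨2, by omega, by rw [hmod, h', hjj, h], by rw [hmod, h, hjj', h']⟩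
      · exact ⟨2, by omega, by rw [hmod, h', hjj, h], by rw [hmod, h, hjj', h']⟩
      · exact ⟨1, by omega, by rw [hmod, h', hjj, h], by rw [hmod, h, hjj', h']⟩
    have hy : y = 1 := by
      refine cent4 hJ3 hd fun z hz => ?_
      have h1 : sig4 (KK r) r j₀ (s j * d) z = z := by
        have h2 : sig4 (KK r) r J d ^ s j = sig4 (KK r) r j₀ (s j * d) := by
          rw [sig4_pow, sig4_congr r (j' := j₀) (by rw [← hP']; exact hJ1), mul_comm d]
        rw [← h2]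
        exact H28.GenF.apply_pow hz _
      have h1' : sig4 (KK r) r j' m' z = z := by
        have h2 : sig4 (KK r) r J d ^ s i₀ = sig4 (KK r) r j' m' := by
          rw [sig4_pow, sig4_congr r (j' := j') (by rw [← hP]; exact hJ2), hm'd, hP]
        rw [← h2]
        exact H28.GenF.apply_pow hz _
      obtain ⟨a, rfl⟩ := hrange z h1
      have h3 := hall a h1
      rw [h1'] at h3
      exact mul_inv_eq_iff_eq_mul.1 h3
    refine hend (m' := m') (fun hdv => ?_) hy (sig4_x (by simp) j' m') hall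
    rw [hm'd, hP, mul_comm d] at hdv
    have h2 : s j ∣ s i₀ := Nat.dvd_of_mul_dvd_mul_right hd hdv
    exact hne ((Nat.prime_dvd_prime_iff_eq (hx.prime j) hpp).1 h2)
  · exact Or.inr ⟨_, hFl', fun y => no_cent_graph4 hK f hn0 hn hm (by
      rw [sig4_pow, hmn, sig4_congr r (j' := 1) (by omega)]) hj3 y⟩

end Four

end Cfsg.Agent.H327.RG
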