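import Cfsg.Agent.H327.RG.LvU
import Cfsg.Agent.H296.ESixGF
import Cfsg.Agent.S2156

/-!
# S3509: automorphisms of `E₆(q)`, the types

* `eq_one1`, `gr_em1`, `phi_em1`, `sig_em1` : the group `twistedE6 K 1` (fixed points of the graph automorphism);
* `sig6_56`, `no_fix56` : `sig6` moves a simple root element;
* `form6` : every automorphism of `E₆(F)` is induced by `conj z * phi m` or `conj z * sig6 m`;
* `Ty6u`, `ty6u` : the automorphisms of prime order.
-/

set_option autoImplicit false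
set_option linter.unusedSectionVars false

namespace Cfsg.Agent.H327.RG

open CoxeterSystem Subgroup Cfsg Cfsg.Lie Cfsg.Lie.ChevalleyDatum
open Cfsg.Agent.ChevalleyStructure Cfsg.Agent.ChevalleyStructure.Elts Cfsg.Agent.ChevalleyStructure.CoxeterGeom
  Cfsg.Agent.ChevalleyStructure.CoxeterGeomTypes Cfsg.Agent.ChevalleyStructure.NPerm
open Cfsg.Agent.Nodes.RGDChev Cfsg.Agent.KFacts.RgdChevCoord
open Cfsg.Agent.BpExc.TowChev Cfsg.Agent.BpExc.FamUntw Cfsg.Agent.BpExc.LangFr Cfsg.Agent.BpExc.FamField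
  Cfsg.Agent.BpExc.RowsUntw Cfsg.Agent.BpExc.FamInst
open Cfsg.Agent.ChevalleyStructure.GraphSymm (symmE6)
open Cfsg.Agent.ChevalleyStructure.TwE6Basic (hE6 single_mem pair_mem twisted_le_iff exists_frob)
open Cfsg.Agent.H522.FamTw.Frame (sig6 sig6_pow sig6_sq isFrob_sig6 fr_sig6)
open Cfsg.Agent.BpExc.FamTw.Six (em em_injective coe_em)
open Cfsg.Agent.BpExc.FamTw.Gr
open Cfsg.Agent.GpExc.Field (glMap emb coe_emb glMap_xG emb_injective coe_glMap glMap_injective)
open Cfsg.Agent.CpAut.RgdUntw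
open Cfsg.Agent.H469.Exc Cfsg.Agent.H469.Exc.SigFr
open Cfsg.Agent.H28.GenF
open Cfsg.Agent.H46.Gen
open Cfsg.Agent.H106.RC
open scoped commutatorElement

section Prime

variable {r : ℕ} [Fact r.Prime]

theorem eq_one1 {K₁ : Type} [Field K₁] [Fintype K₁] (f₁ : K₁ →+* KK r) {z : ↥(chevE6.group (KK r))}
    (hz : ∀ g : ↥(twistedE6 K₁ 1), z * em 1 f₁ g = em 1 f₁ g * z) : z = 1 :=
  H522.FamTw.Six.eq_one_of_comm (φ := RingHom.id K₁) (q := 1) (fun x => by rw [pow_one]; rfl)
    (fun t => by rw [pow_one, pow_one]) f₁ z hz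

theorem gr_em1 {K₁ : Type} [Field K₁] [Fintype K₁] (f₁ : K₁ →+* KK r) (g : ↥(twistedE6 K₁ 1)) :
    gr (L := KK r) hE6 symmE6 (em 1 f₁ g) = em 1 f₁ g := by
  have h1 := BpExc.FamTw.Six.sig_em (φ := RingHom.id K₁) (q := 1) (fun x => by rw [pow_one]; rfl)
    (fun t => by rw [pow_one, pow_one]) f₁ (Φ := (1 : KK r ≃+* KK r)) (fun a => rfl) g
  have h2 : fld chevE6 (1 : KK r ≃+* KK r) (em 1 f₁ g) = em 1 f₁ g := by
    rw [fld_one]
    rfl
  rwa [h2] at h1

/-- `em` through an embedding of the untwisted group -/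
theorem emb_em6 {K L k : Type} [Field K] [Field L] [Field k] {q : ℕ} (f : K →+* L) (g : L →+* k)
    (b : ↥(twistedE6 K q)) : emb e6T.inList g (em q f b) = em q (g.comp f) b := by
  apply Subtype.ext
  apply Units.ext
  rw [coe_emb, coe_em, coe_em, coe_glMap, coe_glMap, coe_glMap, Matrix.map_map]
  rfl

theorem emb_em6_id {K k : Type} [Field K] [Field k] {q : ℕ} (g : K →+* k)
    (b : ↥(twistedE6 K q)) : emb e6T.inList g (em q (RingHom.id K) b) = em q g b := by
  rw [emb_em6, RingHom.comp_id]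

/-- elements over the prime field -/
theorem phi_em1 (m : ℕ) (b : ↥(twistedE6 (ZMod r) 1)) :
    phi chevE6 (KK r) r m (em 1 (algebraMap (ZMod r) (KK r)) b) = em 1 (algebraMap (ZMod r) (KK r)) b := by
  rw [← emb_em6_id, phi_prime e6T]

theorem sig_em1 (m : ℕ) (b : ↥(twistedE6 (ZMod r) 1)) :
    sig6 (KK r) r m (em 1 (algebraMap (ZMod r) (KK r)) b) = em 1 (algebraMap (ZMod r) (KK r)) b := by
  show gr (L := KK r) hE6 symmE6 (phi chevE6 (KK r) r m (em 1 (algebraMap (ZMod r) (KK r)) b)) = _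
  rw [phi_em1, gr_em1]

/-- `sig6` on a simple root element -/
theorem sig6_56 (m : ℕ) (t : KK r) :
    sig6 (KK r) r m (xc e6T (vec chevE6 6 56) t) = xc e6T (vec chevE6 6 36) (t ^ r ^ m) := by
  have key : (symmE6.σ ⟨56, by decide +kernel⟩).val = 36 ∧ symmE6.ε ⟨56, by decide +kernel⟩ = 1 := by decide +kernel
  obtain ⟨h1, h2⟩ := key
  rw [MulAut.mul_apply, H378.TorChar.phi_xc e6T r (by decide : 56 < 72)]
  have h3 : xc e6T (vec chevE6 6 56) (t ^ r ^ m) = xg H522.FamTw.Frame.inListE6 56 (t ^ r ^ m) :=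
    Subtype.ext (coe_xc e6T (by decide : 56 < 72) _)
  have h4 : xc e6T (vec chevE6 6 36) (t ^ r ^ m) = xg H522.FamTw.Frame.inListE6 36 (t ^ r ^ m) :=
    Subtype.ext (coe_xc e6T (by decide : 36 < 72) _)
  rw [h3, h4, gr_xg H522.FamTw.Frame.inListE6 symmE6 ⟨56, by decide +kernel⟩, h1, h2, Int.cast_one, one_mul]

theorem x56_ne {L : Type} [Field L] {t u : L} (ht : t ≠ 0) :
    xc e6T (vec chevE6 6 56) t ≠ xc e6T (vec chevE6 6 36) u := by
  intro h
  have h0 : xG hE6 56 t = xG hE6 36 u := by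
    have h1 := congrArg Subtype.val h
    rwa [coe_xc e6T (by decide : 56 < 72), coe_xc e6T (by decide : 36 < 72)] at h1
  have p1 : chevE6.IsPosRoot 56 := by decide +kernel
  have p2 : chevE6.IsPosRoot 36 := by decide +kernel
  have hs : chevE6.simple 0 = 56 := by decide +kernel
  have h1 := H522.FamTw.Cent.co_word (hD := hE6) (F := L) (i := 0) (by decide +kernel) [(56, t)] (by
    intro x hx; rw [List.mem_singleton] at hx; subst hx; exact p1)
  have h2 := H522.FamTw.Cent.co_word (hD := hE6) (F := L) (i := 0) (by decide +kernel) [(36, u)] (by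
    intro x hx; rw [List.mem_singleton] at hx; subst hx; exact p2)
  have e : wordG hE6 [(56, t)] = wordG hE6 [(36, u)] := by
    rw [wordG_cons, wordG_cons, h0]
  rw [e] at h1
  have h3 := H522.FamTw.Cent.Co.unique (by decide +kernel) h1 h2
  rw [hs] at h3
  apply ht
  simpa using h3

/-- **`sig6 m` is not inner-diagonal on a level.** -/
theorem no_cent_sig {F : Type} [Field F] [Fintype F] [CharP F r] (f : F →+* KK r) (F₀ : Subfield F) (m : ℕ)
    (y : ↥(chevE6.group (KK r))) :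
    ¬ ∀ a ∈ L0 e6T F₀, y * sig6 (KK r) r m (emb e6T.inList f a) * y⁻¹ = emb e6T.inList f a := by
  intro hall
  have hchar : CharP ↥F₀ r := (RingHom.charP_iff F₀.subtype F₀.subtype.injective r).2 inferInstance
  have hy : y = 1 := by
    refine eq_one1 (algebraMap (ZMod r) (KK r)) fun b => ?_
    obtain ⟨a, ha, e⟩ := prime_mem e6T f F₀ (em 1 (RingHom.id (ZMod r)) b)
    rw [emb_em6_id] at e
    have h2 := hall a ha
    rw [e, sig_em1] at h2
    exact mul_inv_eq_iff_eq_mul.1 h2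
  subst hy
  have h2 := hall _ ⟨xc e6T (vec chevE6 6 56) 1, rfl⟩
  rw [H28.GenF.emb_comp e6T, BpExc.TowChev.emb_xc e6T, map_one, one_mul, inv_one, mul_one, sig6_56] at h2
  exact x56_ne one_ne_zero h2.symm

end Prime

section Form

variable {r : ℕ} [Fact r.Prime] {F : Type} [Field F] [Fintype F] [CharP F r]

/-- the graph automorphism over `F` and over `KK r` -/
theorem gr_emb (f : F →+* KK r) (a : ↥(chevE6.group F)) :
    emb e6T.inList f (gr e6T.inList symmE6 a) = gr (L := KK r) e6T.inList symmE6 (emb e6T.inList f a) := by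
  apply Subtype.ext
  rw [coe_gr, coe_emb, coe_emb, coe_gr, map_mul, map_mul, map_inv, glMap_P]

/-- **Every automorphism of `E₆(F)`.** -/
theorem form6 (f : F →+* KK r) (α : MulAut ↥(chevE6.group F)) : ∃ (m : ℕ) (z : ↥(chevE6.group (KK r))),
    (∀ a, emb e6T.inList f (α a) = z * phi chevE6 (KK r) r m (emb e6T.inList f a) * z⁻¹) ∨
    ∀ a, emb e6T.inList f (α a) = z * sig6 (KK r) r m (emb e6T.inList f a) * z⁻¹ := by
  obtain ⟨x, d, g, φ, hd, hg, hφ, h⟩ := Cfsg.Agent.S2156.result chevE6 (by simp) (α : ↥(chevE6.group F) ≃* _)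
  obtain ⟨τ, rfl⟩ := H296.ESixGF.eq_fld e6T hφ
  obtain ⟨m, hm⟩ := exists_pow_eq r τ
  obtain ⟨t, -, ht⟩ := H296.Core.diag_ext e6T f inv_E6 (by norm_num : (3 : ℕ) ≠ 0)
    (fun c _ => IsAlgClosed.exists_pow_nat_eq _ (by norm_num)) hd
  have hfld : ∀ a, emb e6T.inList f (fld chevE6 τ a) = phi chevE6 (KK r) r m (emb e6T.inList f a) := fun a =>
    (BpExc.FamExt.fld_emb e6T f (τ := τ) (τ' := frb (KK r) r m) (fun b => by rw [frb_apply, hm, map_pow]) a).symm
  refine ⟨m, emb e6T.inList f x * t, ?_⟩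
  have h0 : ∀ a, emb e6T.inList f (α a) =
      (emb e6T.inList f x * t) * emb e6T.inList f (g (fld chevE6 τ a)) * (emb e6T.inList f x * t)⁻¹ := by
    intro a
    have h1 : α a = x * d (g (fld chevE6 τ a)) * x⁻¹ := h a
    rw [h1, map_mul, map_mul, map_inv, ht]
    group
  by_cases hg1 : g = 1
  · left
    intro a
    rw [h0, hg1, ← hfld]
    rfl
  · right
    intro a
    have h2 : g = gr e6T.inList symmE6 := H296.ESixGF.eq_gr hg hg1
    rw [h0, h2, gr_emb, hfld]
    rfl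

/-- the graph type -/
def IsGr (f : F →+* KK r) (α : MulAut ↥(chevE6.group F)) : Prop :=
  ∃ y : ↥(chevE6.group (KK r)), ∀ a, emb e6T.inList f (α a) = y * gr (L := KK r) e6T.inList symmE6 (emb e6T.inList f a) * y⁻¹

/-- the types of the automorphisms of prime order of `E₆(F)` -/
def Ty6u (f : F →+* KK r) (n p : ℕ) (α : MulAut ↥(chevE6.group F)) : Prop :=
  (α ∈ InD (emb e6T.inList f) ∨ (p = 2 ∧ IsGr f α)) ∨
    (∃ m, 0 < m ∧ m * p = n ∧ Fl (emb e6T.inList f) p (phi chevE6 (KK r) r m) α) ∨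
    (p = 2 ∧ ∃ m, 0 < m ∧ m * 2 = n ∧ Fl (emb e6T.inList f) 2 (sig6 (KK r) r m) α)

theorem sig6_zero : sig6 (KK r) r 0 = gr (L := KK r) e6T.inList symmE6 := by
  show gr (L := KK r) hE6 symmE6 * phi chevE6 (KK r) r 0 = _
  rw [H296.ESixGF.phi_zero, mul_one]

/-- the Frobenius depends on the exponent modulo `n` -/
theorem phi_mod (f : F →+* KK r) {n : ℕ} (hn : Nat.card F = r ^ n) (m c : ℕ) (a : ↥(chevE6.group F)) :
    phi chevE6 (KK r) r (m + n * c) (emb e6T.inList f a) = phi chevE6 (KK r) r m (emb e6T.inList f a) := by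
  have h1 : phi chevE6 (KK r) r (n * c) (emb e6T.inList f a) = emb e6T.inList f a := by
    rw [← phi_pow]
    exact H28.GenF.apply_pow (phi_emb e6T r f hn a) c
  rw [← H296.Core.phi_mul, MulAut.mul_apply, h1]

/-- **Involutory automorphisms of `E₆(F)`.** -/
theorem ty6u_two (f : F →+* KK r) {n : ℕ} (hn : Nat.card F = r ^ n) (hn0 : 0 < n) {α : MulAut ↥(chevE6.group F)}
    (hα : α ^ 2 = 1) : Ty6u f n 2 α := by
  obtain ⟨m, z, h⟩ := form6 f α
  -- the square
  have hsq : ∀ (Γ : MulAut ↥(chevE6.group (KK r))), Γ ^ 2 = phi chevE6 (KK r) r (m * 2) →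
      (∀ b, Γ (em 1 (algebraMap (ZMod r) (KK r)) b) = em 1 (algebraMap (ZMod r) (KK r)) b) →
      (∀ a, emb e6T.inList f (α a) = z * Γ (emb e6T.inList f a) * z⁻¹) → n ∣ m * 2 := by
    intro Γ hΓ hΓ1 hz
    have h1 : ∀ a, (z * Γ z) * phi chevE6 (KK r) r (m * 2) (emb e6T.inList f a) * (z * Γ z)⁻¹ =
        emb e6T.inList f a := by
      intro a
      have h2 : (α ^ 2) a = a := by rw [hα]; rfl
      rw [pow_two, MulAut.mul_apply] at h2
      have h3 := hz (α a)
      rw [h2, hz, map_mul, map_mul, map_inv] at h3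
      conv_rhs => rw [h3]
      rw [← hΓ, pow_two, MulAut.mul_apply]
      group
    have h2 : z * Γ z = 1 := by
      refine eq_one1 (algebraMap (ZMod r) (KK r)) fun b => ?_
      obtain ⟨a, -, e⟩ := prime_mem e6T f (⊤ : Subfield F) (em 1 (RingHom.id (ZMod r)) b)
      rw [emb_em6_id] at e
      have h2 := h1 a
      rw [e, phi_em1] at h2
      exact mul_inv_eq_iff_eq_mul.1 h2
    rw [h2] at h1
    rw [← forall_pow_iff (F := F) r hn (m * 2)]
    intro t
    have h3 := h1 (xc e6T (vec chevE6 6 46) t)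
    rw [BpExc.TowChev.emb_xc e6T, one_mul, inv_one, mul_one, H378.TorChar.phi_xc e6T r (by decide : 46 < 72), ← map_pow] at h3
    exact f.injective (xc_inj e6T (by decide : 46 < 72) h3)
  have hdvd : n ∣ m * 2 := by
    rcases h with h | h
    · exact hsq _ (phi_pow r m 2) (fun b => phi_em1 m b) h
    · exact hsq _ (sig6_sq r m) (fun b => sig_em1 m b) h
  obtain ⟨c, hc⟩ := hdvd
  -- reduce `m`
  obtain ⟨m', c', hm, hm'⟩ : ∃ m' c', m = m' + n * c' ∧ (m' = 0 ∨ (0 < m' ∧ m' * 2 = n)) := by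
    rcases Nat.even_or_odd' c with ⟨c', rfl | rfl⟩
    · exact ⟨0, c', by rw [zero_add]; apply Nat.eq_of_mul_eq_mul_right (by norm_num : 0 < 2); rw [hc]; ring, Or.inl rfl⟩
    · have h2 : (m - n * c') * 2 = n := by
        have : m * 2 = n * c' * 2 + n := by rw [hc]; ring
        omega
      refine ⟨m - n * c', c', by
        have : m * 2 = n * c' * 2 + n := by rw [hc]; ring
        omega, Or.inr ⟨by omega, h2⟩⟩
  rcases h with h | h
  · have h' : ∀ a, emb e6T.inList f (α a) = z * phi chevE6 (KK r) r m' (emb e6T.inList f a) * z⁻¹ := by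
      intro a
      rw [h, hm, phi_mod f hn]
    rcases hm' with rfl | ⟨h1, h2⟩
    · left; left
      refine ⟨z, fun a => ?_⟩
      rw [h', H296.ESixGF.phi_zero]
      rfl
    · right; left
      exact ⟨m', h1, h2, 1, z, Nat.coprime_one_left 2, fun a => by rw [pow_one, h']; rfl⟩
  · have h' : ∀ a, emb e6T.inList f (α a) = z * sig6 (KK r) r m' (emb e6T.inList f a) * z⁻¹ := by
      intro a
      rw [h]
      show z * gr (L := KK r) hE6 symmE6 (phi chevE6 (KK r) r m (emb e6T.inList f a)) * z⁻¹ = _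
      rw [hm, phi_mod f hn]
      rfl
    rcases hm' with rfl | ⟨h1, h2⟩
    · left; right
      refine ⟨rfl, z, fun a => ?_⟩
      rw [h', sig6_zero]
    · right; right
      exact ⟨rfl, m', h1, h2, 1, z, Nat.coprime_one_left 2, fun a => by rw [pow_one, h']; rfl⟩

/-- **The automorphisms of prime order of `E₆(F)`.** -/
theorem ty6u (f : F →+* KK r) {n p : ℕ} (hn : Nat.card F = r ^ n) (hn0 : 0 < n) (hpp : p.Prime)
    {α : MulAut ↥(chevE6.group F)} (hα : α ^ p = 1) : Ty6u f n p α := by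
  by_cases hp2 : p = 2
  · subst hp2
    exact ty6u_two f hn hn0 hα
  · rcases cases_untw e6T inv_E6 three_ne_zero symTwo_E6 (S1054.result chevE6 (by simp))
      (S1054.result chevE6 (by simp)) hpp hp2 f hn hα with h | ⟨h1, h2, i, y, h3, h4⟩
    · exact Or.inl (Or.inl h)
    · exact Or.inr (Or.inl ⟨n / p, h2, h1, i, y, h3, h4⟩)

end Form

end Cfsg.Agent.H327.RG
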