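import Cfsg.Agent.H327.RG.LangGen
import Cfsg.Agent.H327.RG.SixA
import Cfsg.Agent.H78.E6Cent
import Cfsg.Agent.H91.E6F4Iso

/-!
# The fixed points of the graph automorphism of `E₆(k)`, characteristic 2

`k = KK 2`, `γ` the graph automorphism of `Y = E₆(k)`.
* `lang_tw1` : Lang's theorem for `twistedE6 k 1`; `lang_fix` : for `C_Y(γ)`;
* `exists_tw1` : an element of `C_Y(γ)` comes from `twistedE6 E 1`, `E` finite;
* `fix_F4` : an element of `C_Y(γ)` fixed by the Frobenius comes from `twistedE6 F 1`.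
-/

set_option autoImplicit false
set_option linter.unusedSectionVars false

namespace Cfsg.Agent.H327.RG

open CoxeterSystem Subgroup Cfsg Cfsg.Lie Cfsg.Lie.ChevalleyDatum
open Cfsg.Agent.ChevalleyStructure Cfsg.Agent.ChevalleyStructure.Elts Cfsg.Agent.ChevalleyStructure.CoxeterGeom
  Cfsg.Agent.ChevalleyStructure.CoxeterGeomTypes Cfsg.Agent.ChevalleyStructure.NPerm
open Cfsg.Agent.Nodes.RGDChev Cfsg.Agent.KFacts.RgdChevCoord
open Cfsg.Agent.BpExc.TowChev Cfsg.Agent.BpExc.FamUntw Cfsg.Agent.BpExc.LangFr Cfsg.Agent.BpExc.FamField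
  Cfsg.Agent.BpExc.RowsUntw Cfsg.Agent.BpExc.FamInst
open Cfsg.Agent.ChevalleyStructure.GraphSymm (symmE6)
open Cfsg.Agent.ChevalleyStructure.TwE6Basic (hE6 single_mem pair_mem twisted_le_iff exists_frob)
open Cfsg.Agent.H522.FamTw.Frame (sig6 sig6_pow sig6_sq isFrob_sig6 fr_sig6)
open Cfsg.Agent.BpExc.FamTw.Six (em em_injective coe_em)
open Cfsg.Agent.BpExc.FamTw.Gr
open Cfsg.Agent.GpExc.Field (glMap emb coe_emb glMap_xG emb_injective coe_glMap glMap_injective)
open Cfsg.Agent.CpAut.RgdUntw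
open Cfsg.Agent.H469.Exc Cfsg.Agent.H469.Exc.SigFr
open Cfsg.Agent.H28.GenF
open Cfsg.Agent.H46.Gen
open Cfsg.Agent.LangThm (frob)
open Cfsg.Agent.H91.E6F4Rel (Rel cI)

section tw1

/-- the words -/
def w6 : Set (List ℕ) := {[46], [25], [39], [32], [56, 36], [15, 35], [42, 37], [29, 34]}

theorem lang_tw1 {k : Type} [Field k] [IsAlgClosed k] (p e : ℕ) [Fact p.Prime] [CharP k p] (he : 0 < e)
    {m : GL chevE6.Idx k} (hm : m ∈ twistedE6 k 1) : ∃ y ∈ twistedE6 k 1, m = y⁻¹ * frob p e y := by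
  refine lang_words hE6 p e he w6 (fun w hw t => ?_) (fun H' hH => ?_) hm
  · simp only [w6, Set.mem_insert_iff, Set.mem_singleton_iff] at hw
    unfold wx
    rcases hw with rfl | rfl | rfl | rfl | rfl | rfl | rfl | rfl
    iterate 4
      · rw [List.map_cons, List.map_nil, List.prod_cons, List.prod_nil, mul_one]
        exact single_mem (pow_one t) (by simp)
    all_goals
      rw [List.map_cons, List.map_cons, List.map_nil, List.prod_cons, List.prod_cons, List.prod_nil, mul_one]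
      first
      | have h := pair_mem (q := 1) t (rs := (56, 36)) (by simp); rwa [pow_one] at h
      | have h := pair_mem (q := 1) t (rs := (15, 35)) (by simp); rwa [pow_one] at h
      | have h := pair_mem (q := 1) t (rs := (42, 37)) (by simp); rwa [pow_one] at h
      | have h := pair_mem (q := 1) t (rs := (29, 34)) (by simp); rwa [pow_one] at h
  · rw [twisted_le_iff]
    constructor
    · intro t _ r hr
      simp only [List.mem_cons, List.not_mem_nil, or_false] at hr
      have key : ∀ r : ℕ, [r] ∈ w6 → xG hE6 r t ∈ H' := by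
        intro r hr
        have h := hH [r] hr t
        unfold wx at h
        rwa [List.map_cons, List.map_nil, List.prod_cons, List.prod_nil, mul_one] at h
      rcases hr with rfl | rfl | rfl | rfl
      all_goals exact key _ (by simp [w6])
    · intro t rs hr
      simp only [List.mem_cons, List.not_mem_nil, or_false] at hr
      rw [pow_one]
      have key : ∀ r s : ℕ, [r, s] ∈ w6 → xG hE6 r t * xG hE6 s t ∈ H' := by
        intro r s hr
        have h := hH [r, s] hr t
        unfold wx at h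
        rwa [List.map_cons, List.map_cons, List.map_nil, List.prod_cons, List.prod_cons, List.prod_nil, mul_one] at h
      rcases hr with rfl | rfl | rfl | rfl
      all_goals exact key _ _ (by simp [w6])

end tw1

section gamma

theorem coe_gr_sg {k : Type} [Field k] (y : ↥(chevE6.group k)) :
    ((gr (L := k) hE6 symmE6 y : ↥(chevE6.group k)) : GL chevE6.Idx k) = TwE6Basic.sg (RingHom.id k) (y : GL chevE6.Idx k) := by
  have h1 : ((gr (L := k) hE6 symmE6 (fld chevE6 (1 : k ≃+* k) y) : ↥(chevE6.group k)) : GL chevE6.Idx k) =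
      TwE6Basic.sg ((1 : k ≃+* k) : k →+* k) (y : GL chevE6.Idx k) := rfl
  rwa [fld_one] at h1

/-- `twistedE6 k 1` is fixed by the graph automorphism -/
theorem gr_of_tw1 {k : Type} [Field k] {y : ↥(chevE6.group k)} (hy : (y : GL chevE6.Idx k) ∈ twistedE6 k 1) :
    gr (L := k) hE6 symmE6 y = y := by
  apply Subtype.ext
  rw [coe_gr_sg]
  exact TwE6Basic.twisted_le_fix (RingHom.id k) (q := 1) (fun t => by rw [pow_one]; rfl)
    (fun t => by rw [pow_one, pow_one]) hy

variable {r : ℕ} [Fact r.Prime]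

/-- **An element of `C_Y(γ)` comes from a finite level.** -/
theorem exists_tw1 {y : ↥(chevE6.group (KK r))} (hy : gr (L := KK r) hE6 symmE6 y = y) :
    ∃ E : Lev (KK r), ∀ E' : Lev (KK r), E ≤ E' → ∃ b : ↥(twistedE6 ↥E'.1 1), em 1 E'.1.subtype b = y := by
  obtain ⟨E, hE⟩ := exists_level e6T (locFin r) y
  refine ⟨E, fun E' hE' => ?_⟩
  obtain ⟨a, rfl⟩ := hE E' hE'
  have hfin : Fintype ↥E'.1 := Fintype.ofFinite _
  have h1 : gr (L := ↥E'.1) e6T.inList symmE6 a = a := by
    apply emb_injective e6T.inList E'.1.subtype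
    apply Subtype.ext
    rw [coe_emb, coe_gr, map_mul, map_mul, map_inv, glMap_P]
    have h2 := congrArg Subtype.val hy
    rw [coe_gr, coe_emb] at h2
    rw [coe_emb]
    exact h2
  have h2 : (a : GL chevE6.Idx ↥E'.1) ∈ twistedE6 ↥E'.1 1 := by
    rw [← H91.E6Fix.group_inf_fix (φ := RingHom.id ↥E'.1) (q := 1) (fun t => by rw [pow_one]; rfl) (fun _ => rfl)]
    refine ⟨a.2, ?_⟩
    have h3 := congrArg Subtype.val h1
    have h4 := coe_gr_sg a
    exact h4.symm.trans h3
  refine ⟨⟨a, h2⟩, ?_⟩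
  apply Subtype.ext
  rw [coe_em, coe_emb]

theorem mem_tw1 {y : ↥(chevE6.group (KK r))} (hy : gr (L := KK r) hE6 symmE6 y = y) :
    (y : GL chevE6.Idx (KK r)) ∈ twistedE6 (KK r) 1 := by
  obtain ⟨E, hE⟩ := exists_tw1 hy
  obtain ⟨b, rfl⟩ := hE E le_rfl
  rw [coe_em]
  exact tw6_le E.1.subtype (q₀ := 1) (q := 1) (fun t => by rw [pow_one, pow_one]) b.2

/-- **Lang's theorem for `C_Y(γ)`.** -/
theorem lang_fix {n : ℕ} (hn : 0 < n) {w : ↥(chevE6.group (KK r))} (hw : gr (L := KK r) hE6 symmE6 w = w) :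
    ∃ f : ↥(chevE6.group (KK r)), gr (L := KK r) hE6 symmE6 f = f ∧ w = f⁻¹ * phi chevE6 (KK r) r n f := by
  obtain ⟨y, hy, e⟩ := lang_tw1 r n hn (mem_tw1 hw)
  have hyG : y ∈ chevE6.group (KK r) := H91.E6Fix.twistedE6_le_group _ _ hy
  refine ⟨⟨y, hyG⟩, gr_of_tw1 hy, Subtype.ext ?_⟩
  rw [Subgroup.coe_mul, Subgroup.coe_inv, phi_frob]
  exact e

end gamma

section rel

variable {K L : Type} [Field K] [Field L]

theorem bvec_map (D : ChevalleyDatum) (f : K →+* L) (k : ℕ) : SparseEng.bvec D L k = f ∘ SparseEng.bvec D K k := by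
  funext i
  rcases i with i | s
  · simp only [SparseEng.bvec, Function.comp]
    split_ifs
    · exact (map_one f).symm
    · exact (map_zero f).symm
  · simp only [SparseEng.bvec, Function.comp]
    split_ifs
    · exact (map_one f).symm
    · exact (map_zero f).symm

theorem mulVec_glMap (D : ChevalleyDatum) (f : K →+* L) (g : GL D.Idx K) (v : D.Idx → K) :
    ((glMap D f g : GL D.Idx L) : Matrix D.Idx D.Idx L).mulVec (f ∘ v) =
      f ∘ ((g : Matrix D.Idx D.Idx K).mulVec v) := by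
  funext i
  rw [coe_glMap]
  simp only [Matrix.mulVec, dotProduct, Matrix.map_apply, Function.comp, map_sum, map_mul]

theorem rel_glMap (f : K →+* L) {g : GL chevE6.Idx K} {g' : GL chevF4.Idx K} (h : Rel g g') :
    Rel (glMap chevE6 f g) (glMap chevF4 f g') := by
  refine H91.E6F4Rel.mulVec_ext _ _ fun k _ => ?_
  rw [bvec_map chevF4 f]
  have h1 : (f ∘ SparseEng.bvec chevF4 K k) ∘ cI = f ∘ (SparseEng.bvec chevF4 K k ∘ cI) := rfl
  rw [h1, mulVec_glMap, mulVec_glMap, h]
  rfl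

theorem rel_of_glMap (f : K →+* L) {g : GL chevE6.Idx K} {g' : GL chevF4.Idx K}
    (h : Rel (glMap chevE6 f g) (glMap chevF4 f g')) : Rel g g' := by
  intro v
  have h1 := h (f ∘ v)
  have h2 : (f ∘ v) ∘ cI = f ∘ (v ∘ cI) := rfl
  rw [h2, mulVec_glMap, mulVec_glMap] at h1
  funext i
  exact f.injective (congrFun h1 i)

end rel

section F4

theorem eq_one_of_rel {w : ↥(chevE6.group (KK 2))} (hw : gr (L := KK 2) hE6 symmE6 w = w)
    (h : Rel (w : GL chevE6.Idx (KK 2)) 1) : w = 1 := by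
  obtain ⟨E, hE⟩ := exists_tw1 hw
  obtain ⟨b, rfl⟩ := hE E le_rfl
  have hfin : Fintype ↥E.1 := Fintype.ofFinite _
  have hchar : CharP ↥E.1 2 := charP_lev 2 E.1
  rw [coe_em] at h
  have h1 : Rel (b : GL chevE6.Idx ↥E.1) 1 := by
    refine rel_of_glMap E.1.subtype ?_
    rw [map_one]
    exact h
  have h2 : b = 1 := Subtype.ext (H91.E6F4Iso.eq_one_of_rel_one b.2 h1)
  rw [h2, map_one]

/-- **The elements of `C_Y(γ)` fixed by the Frobenius.** -/
theorem fix_F4 {F : Type} [Field F] [Fintype F] [CharP F 2] (f : F →+* KK 2) {n : ℕ} (hn : Nat.card F = 2 ^ n)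
    {y : ↥(chevE6.group (KK 2))} (hy : gr (L := KK 2) hE6 symmE6 y = y) (hy2 : phi chevE6 (KK 2) 2 n y = y) :
    ∃ b : ↥(twistedE6 F 1), em 1 f b = y := by
  obtain ⟨y', hy', hrel⟩ := H91.E6F4Iso.exists_partner (mem_tw1 hy)
  obtain ⟨z, hz⟩ : ∃ z : ↥(chevF4.group (KK 2)), z = ⟨y', hy'⟩ := ⟨_, rfl⟩
  -- the partner is fixed by the Frobenius
  have hz2 : phi chevF4 (KK 2) 2 n z = z := by
    apply Subtype.ext
    have h1 : Rel (frob 2 n (y : GL chevE6.Idx (KK 2))) (frob 2 n y') :=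
      rel_glMap (iterateFrobenius (KK 2) 2 n) hrel
    rw [← phi_frob, hy2] at h1
    rw [phi_frob, hz]
    exact h1.unique hrel
  obtain ⟨c, hc⟩ := H378.TorFin.fix_mem (r := 2) f4T f hn inv_F4 hz2
  obtain ⟨b, hb, hb'⟩ := H91.E6F4Iso.exists_copartner c.2
  refine ⟨⟨b, hb⟩, ?_⟩
  have h1 : Rel (glMap chevE6 f b) (glMap chevF4 f c) := rel_glMap f hb'
  have h2 : glMap chevF4 f c = y' := by
    have h3 := congrArg Subtype.val hc
    rw [coe_emb, hz] at h3
    exact h3
  rw [h2] at h1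
  have h3 : (em 1 f ⟨b, hb⟩)⁻¹ * y = 1 := by
    refine eq_one_of_rel ?_ ?_
    · rw [map_mul, map_inv, hy, gr_em1]
    · have h4 := h1.inv.mul hrel
      rw [inv_mul_cancel] at h4
      rw [Subgroup.coe_mul, Subgroup.coe_inv, coe_em]
      exact h4
  exact inv_mul_eq_one.1 h3

end F4

end Cfsg.Agent.H327.RG
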