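import Cfsg.Agent.H327.RG.GrFourC

/-!
# S3509: a member of graph type (order 3) of `³D₄(q)`

* `tw_killp` : `tw_kill` for a power;
* `exists_gm`, `gm_cube3` : a member of graph type;
* `kill1` : type I; `kill_t` : the twisted type.
-/

set_option autoImplicit false
set_option linter.unusedSectionVars false

namespace Cfsg.Agent.H327.RG

open MulAction Subgroup Cfsg.Agent.H106.RC
open Cfsg.Agent.H28.GenF (InD)

section abs

variable {Y K₀ : Type*} [Group Y] [Group K₀] {ι : K₀ →* Y} {Ψ : MulAut Y} {L : Subgroup K₀}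

/-- **A cover with one member a power of which is `conj t * Ψ`, `t ≠ 1`.** -/
theorem tw_killp (hι : Function.Injective ι) (hcen : ∀ z, (∀ a, z * ι a = ι a * z) → z = 1) (hL : Lw ι Ψ L)
    {t : Y} (ht : Ψ t = t) (ht1 : t ≠ 1) (hC : ∀ w, w * t = t * Ψ w → Ψ w = w)
    {G Ω κ : Type*} [Group G] [MulAction G Ω] [Nonempty Ω] [Finite κ] {N : Subgroup G} (hE : Env G Ω N)
    (e : N ≃* K₀) {x : κ → G} {q : κ → ℕ} (hx : PF x q) (hcov : Cov Ω x) {i₀ : κ} {i : ℕ} (hi : i.Coprime (q i₀))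
    (hstd : ∃ γ : MulAut K₀, γ ∈ InD ι ∧ ∀ a, ι ((γ * act hE e (x i₀) ^ i * γ⁻¹) a) = t * Ψ (ι a) * t⁻¹)
    (hT : ∀ j, j ≠ i₀ → act hE e (x j) ∈ InD ι) : False := by
  obtain ⟨γ, hγ, hγ'⟩ := hstd
  have hact : ∀ g, act hE (e.trans γ) g = γ * act hE e g * γ⁻¹ := act_conj hE e γ
  have hT' : ∀ j, j ≠ i₀ → act hE (e.trans γ) (x j) ∈ InD ι := fun j hj => by
    rw [hact]
    exact mul_mem (mul_mem hγ (hT j hj)) (inv_mem hγ)
  obtain ⟨e', he'⟩ : ∃ e' : N ≃* K₀, e' = e.trans γ := ⟨_, rfl⟩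
  rw [← he'] at hact hT'
  obtain ⟨b, hb⟩ : ∃ b, b = act hE e' (x i₀) ^ i := ⟨_, rfl⟩
  have hβ : ∀ a, ι (b a) = t * Ψ (ι a) * t⁻¹ := by
    intro a
    rw [hb, hact, conj_pow, hγ']
  have hbL : ∀ a ∈ L, b a ∈ L := by
    refine hL.charL _ fun a ha => ?_
    rw [hβ, ha, map_mul, map_mul, map_inv, ht, ha]
  have hbp : ∀ m : ℕ, ∀ a ∈ L, (b ^ m) a ∈ L := by
    intro m
    induction m with
    | zero => intro a ha; exact ha
    | succ m ih => intro a ha; rw [pow_succ, MulAut.mul_apply]; exact ih _ (hbL a ha)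
  have hpres : ∀ j, ∀ a ∈ L, act hE e' (x j) a ∈ L := by
    intro j
    by_cases hj : j = i₀
    · subst hj
      obtain ⟨m, -, hm⟩ := Nat.exists_mul_mod_eq_one_of_coprime hi (hx.prime j).one_lt
      have h1 : b ^ m = act hE e' (x j) := by
        rw [hb, ← pow_mul, ← Nat.div_add_mod (i * m) (q j), hm, pow_add, pow_mul, ← map_pow, hx.pow, map_one, one_pow,
          one_mul, pow_one]
      intro a ha
      rw [← h1]
      exact hbp m a ha
    · refine hL.charL _ fun a ha => ?_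
      obtain ⟨w, hw⟩ := hT' j hj
      have hcomm : act hE e' (x j) * b = b * act hE e' (x j) := by
        rw [hb, ← map_pow, ← map_mul, ← map_mul]
        congr 1
        have h2 : Commute (x j) (x i₀) := hx.comm j i₀
        exact h2.pow_right i
      have hΨw : w * t = t * Ψ w := by
        obtain ⟨c, hc⟩ : ∃ c, c = t⁻¹ * w⁻¹ * t := ⟨_, rfl⟩
        have h1 : (Ψ⁻¹ c * w) = 1 := by
          refine hcen _ fun a => ?_
          have h2 := congrArg ι (DFunLike.congr_fun hcomm a)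
          rw [MulAut.mul_apply, MulAut.mul_apply, hw, hβ, hβ, hw, map_mul, map_mul, map_inv] at h2
          apply Ψ.injective
          rw [map_mul, map_mul, map_mul, map_mul, MulAut.apply_inv_self, hc]
          calc t⁻¹ * w⁻¹ * t * Ψ w * Ψ (ι a) = t⁻¹ * w⁻¹ * (t * (Ψ w * Ψ (ι a) * (Ψ w)⁻¹) * t⁻¹) * t * Ψ w := by group
            _ = t⁻¹ * w⁻¹ * (w * (t * Ψ (ι a) * t⁻¹) * w⁻¹) * t * Ψ w := by rw [← h2]
            _ = Ψ (ι a) * (t⁻¹ * w⁻¹ * t * Ψ w) := by group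
        have h4 := congrArg Ψ h1
        rw [map_mul, MulAut.apply_inv_self, map_one, hc] at h4
        calc w * t = w * t * (t⁻¹ * w⁻¹ * t * Ψ w) := by rw [h4, mul_one]
          _ = t * Ψ w := by group
      rw [hw, map_mul, map_mul, map_inv, hC w hΨw, ha]
  refine none_killY hE e' hx hcov hL.simple hL.ncomm hL.rc (fun j => der_pres (hpres j)) ?_
  intro j hc
  have htr : ∀ a ∈ L, act hE e' (x j) a = a := fun a ha => hL.triv hι (hpres j) hc ha
  by_cases hj : j = i₀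
  · subst hj
    refine ht1 (hL.centL t fun a ha => ?_)
    have h1 := hβ a
    rw [hb, H28.GenF.apply_pow (htr a ha), hL.fixL a ha] at h1
    exact (eq_mul_inv_iff_mul_eq.1 h1).symm
  · obtain ⟨y, hy⟩ := hT' j hj
    refine act_ne_one hE e' (hx.ne j) ?_
    have h1 : y = 1 := by
      refine hL.centL y fun a ha => ?_
      have h2 := hy a
      rw [htr a ha] at h2
      exact (eq_mul_inv_iff_mul_eq.1 h2).symm
    subst h1
    refine MulEquiv.ext fun a => hι ?_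
    rw [hy, one_mul, inv_one, mul_one]
    rfl

end abs

end Cfsg.Agent.H327.RG

namespace Cfsg.Agent.H327.RG.GFour

open CoxeterSystem Subgroup Cfsg Cfsg.Lie Cfsg.Lie.ChevalleyDatum
open Cfsg.Agent.ChevalleyStructure Cfsg.Agent.ChevalleyStructure.CoxeterGeom
  Cfsg.Agent.ChevalleyStructure.CoxeterGeomTypes Cfsg.Agent.ChevalleyStructure.NPerm
open Cfsg.Agent.Nodes.RGDChev Cfsg.Agent.KFacts.RgdChevCoord
open Cfsg.Agent.BpExc.TowChev Cfsg.Agent.BpExc.FamUntw Cfsg.Agent.BpExc.LangFr Cfsg.Agent.BpExc.FamField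
  Cfsg.Agent.BpExc.RowsUntw Cfsg.Agent.BpExc.FamInst
open Cfsg.Agent.ChevalleyStructure.GraphSymm (symmD4a)
open Cfsg.Agent.H522.FamTw.Frame (sig4 sig4_pow sig4_congr isFrob_sig4 fr_sig4)
open Cfsg.Agent.H28.FamFour (em em_injective coe_em sig_em gr_cube_D4)
open Cfsg.Agent.BpExc.FamTw.Gr
open Cfsg.Agent.H469.Exc Cfsg.Agent.H469.Exc.SigFr
open Cfsg.Agent.H28.GenF
open Cfsg.Agent.H46.Gen
open Cfsg.Agent.H106.RC
open Cfsg.Agent.H873.RG (IHx NSA)
open scoped commutatorElement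

variable {r : ℕ} [Fact r.Prime] {K : Type} [Field K] [Fintype K] [CharP K r] {q : ℕ} (hq : IsPrimePow q)
  (hK : Fintype.card K = q ^ 3) (f : K →+* KK r) {n : ℕ} (hn0 : 0 < n) (hn : q = r ^ n)

theorem gm_cube (y : ↥(chevD4.group (KK r))) : gm r (gm r (gm r y)) = y := by
  have h := DFunLike.congr_fun (gr_cube_D4 (L := KK r)) y
  rw [pow_succ, pow_succ, pow_one] at h
  exact h

include hq hK hn in
/-- on `K₀` the Frobenius is `γ²` -/
theorem phi_em4 (a : ↥(twistedD4 K q)) : phi chevD4 (KK r) r n (em q f a) = gm r (gm r (em q f a)) := by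
  have h := sig4_em hq hK f hn a
  rw [sig_apply] at h
  apply (gm r).injective
  rw [h, gm_cube]

include hq hK hn in
/-- **A member of graph type.** -/
theorem exists_gm {α : MulAut ↥(twistedD4 K q)} (h : Fl (em q f) 3 (phi chevD4 (KK r) r n) α) :
    ∃ (i : ℕ) (y : ↥(chevD4.group (KK r))), i.Coprime 3 ∧ ∀ a, em q f ((α ^ i) a) = y * gm r (em q f a) * y⁻¹ := by
  obtain ⟨i, y, hi, hy⟩ := h
  refine ⟨i * 2, y * phi chevD4 (KK r) r n y, Nat.Coprime.mul_left hi (by norm_num), fun a => ?_⟩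
  have hy' : ∀ a, em q f ((α ^ i) a) = y * phi chevD4 (KK r) r n (em q f a) * y⁻¹ := hy
  have h1 : phi chevD4 (KK r) r n (phi chevD4 (KK r) r n (em q f a)) = gm r (em q f a) := by
    rw [phi_em4 hq hK f hn, ← gm_phi, ← gm_phi, phi_em4 hq hK f hn, gm_cube]
  rw [pow_mul, pow_two, MulAut.mul_apply, hy', hy', map_mul, map_mul, map_inv, h1]
  group

include hq hK hn0 hn in
/-- the cube -/
theorem cube_one {α : MulAut ↥(twistedD4 K q)} {y : ↥(chevD4.group (KK r))} (hα : α ^ 3 = 1)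
    (hy : ∀ a, em q f (α a) = y * gm r (em q f a) * y⁻¹) : y * gm r y * gm r (gm r y) = 1 := by
  refine (fr_te4 hq hK f hn0 hn).cent _ fun a => ?_
  have h1 : α (α (α a)) = a := by
    have h2 := DFunLike.congr_fun hα a
    rw [pow_succ, pow_succ, pow_one] at h2
    exact h2
  have h2 := hy (α (α a))
  rw [h1, hy, hy] at h2
  simp only [map_mul, map_inv, gm_cube] at h2
  conv_rhs => rw [h2]
  group

include hq hK hn0 hn in
theorem rc_lev4 (hIH : IHx (Nat.card ↥(twistedD4 K q))) :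
    RC ↥⁅fixS (em q f) (gm r), fixS (em q f) (gm r)⁆ := by
  have : Finite ↥(twistedD4 K q) := Finite.of_injective _ (Subgroup.subtype_injective _)
  obtain ⟨a, ha⟩ := exists_moved_gm hq hK f hn0 hn
  refine rc_of_inj (K₀ := ↥(twistedD4 K q)) hIH
    (⁅fixS (em q f) (gm r), fixS (em q f) (gm r)⁆).subtype (Subgroup.subtype_injective _) (a := a) ?_
    (nsa_lev4 hq hK f hn0 hn)
  rw [Subgroup.range_subtype]
  intro h
  have h1 : ⁅fixS (em q f) (gm r), fixS (em q f) (gm r)⁆ ≤ fixS (em q f) (gm r) := by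
    rw [commutator_le]
    intro b hb c hc
    rw [commutatorElement_def]
    exact mul_mem (mul_mem (mul_mem hb hc) (inv_mem hb)) (inv_mem hc)
  exact ha (mem_fixS.1 (h1 h))

include hq hK hn0 hn in
/-- **The level.** -/
theorem lwG2 (hIH : IHx (Nat.card ↥(twistedD4 K q))) : Lw (em q f) (gm r) (fixS (em q f) (gm r)) :=
  lwG2' hq hK f hn0 hn (rc_lev4 hq hK f hn0 hn hIH)

include hq hK hn0 hn in
/-- **Type I.** -/
theorem kill1 (hIH : IHx (Nat.card ↥(twistedD4 K q))) {G Ω κ : Type*} [Group G] [MulAction G Ω] [Nonempty Ω] [Finite κ]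
    {N : Subgroup G} (hE : Env G Ω N) (e : N ≃* ↥(twistedD4 K q)) {x : κ → G} {s : κ → ℕ} (hx : PF x s)
    (hcov : Cov Ω x) {i₀ : κ} {i : ℕ} {y z : ↥(chevD4.group (KK r))}
    (hy : ∀ a, em q f ((act hE e (x i₀) ^ i) a) = y * gm r (em q f a) * y⁻¹) (hz : z * y * (gm r z)⁻¹ = 1)
    (hIn : ∀ j, j ≠ i₀ → act hE e (x j) ∈ InD (em q f)) : False := by
  have hFr := fr_te4 hq hK f hn0 hn
  have hlang : ∀ w, gm r w = w → ∃ f, gm r f = f ∧ w = f⁻¹ * sig4 (KK r) r 1 n f := by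
    intro w hw
    obtain ⟨f, hf, e⟩ := lang_G2 hn0 hw
    exact ⟨f, hf, by rw [sig_of_fix hf]; exact e⟩
  obtain ⟨t', δ, hδ, -, h1, -, h3⟩ := std_tw hFr (gm_sig n) hlang (t := 1) (map_one _)
    (fun w hw => by rw [mul_one, one_mul] at hw; exact hw.symm) hy hz (map_one _)
  have ht' : t' = 1 := h1.2 rfl
  refine std_kill hFr.inj (lwG2 hq hK f hn0 hn hIH) (fun β hβ => fin4 hq hK f hn0 hn β hβ) hE e hx hcov (i₀ := i₀)
    ⟨δ, hδ, i, fun a => ?_⟩ fun j hj => Or.inl (hIn j hj)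
  rw [conj_pow, h3, ht', one_mul, inv_one, mul_one]

include hq hK hn0 hn in
/-- **The twisted type.** -/
theorem kill_t (hIH : IHx (Nat.card ↥(twistedD4 K q))) {t : ↥(chevD4.group (KK r))} (ht : gm r t = t)
    (htn : phi chevD4 (KK r) r n t = t) (ht1 : t ≠ 1) (hC : ∀ w, w * t = t * gm r w → gm r w = w)
    {G Ω κ : Type*} [Group G] [MulAction G Ω] [Nonempty Ω] [Finite κ]
    {N : Subgroup G} (hE : Env G Ω N) (e : N ≃* ↥(twistedD4 K q)) {x : κ → G} {s : κ → ℕ} (hx : PF x s)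
    (hcov : Cov Ω x) {i₀ : κ} {i : ℕ} (hi : i.Coprime (s i₀)) {y z : ↥(chevD4.group (KK r))}
    (hy : ∀ a, em q f ((act hE e (x i₀) ^ i) a) = y * gm r (em q f a) * y⁻¹) (hz : z * y * (gm r z)⁻¹ = t)
    (hIn : ∀ j, j ≠ i₀ → act hE e (x j) ∈ InD (em q f)) : False := by
  have hFr := fr_te4 hq hK f hn0 hn
  have hlang : ∀ w, gm r w = w → ∃ f, gm r f = f ∧ w = f⁻¹ * sig4 (KK r) r 1 n f := by
    intro w hw
    obtain ⟨f, hf, e⟩ := lang_G2 hn0 hw
    exact ⟨f, hf, by rw [sig_of_fix hf]; exact e⟩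
  obtain ⟨t', δ, hδ, h0, h1, h2, h3⟩ := std_tw hFr (gm_sig n) hlang ht hC hy hz (by rw [sig_of_fix ht, htn])
  exact tw_killp hFr.inj hFr.cent (lwG2 hq hK f hn0 hn hIH) h0 (fun h => ht1 (h1.1 h)) h2 hE e hx hcov hi ⟨δ, hδ, h3⟩ hIn

end Cfsg.Agent.H327.RG.GFour
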