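import Cfsg.Agent.H327.RG.F4Fix
import Cfsg.Agent.H327.RG.TwFour
import Cfsg.Agent.H207.TriFix

/-!
# The fixed points of the triality automorphism of `D₄(k)`

`k = KK r`, `γ` the graph automorphism of order 3 of `Y = D₄(k)`.
* `lang_G2` : Lang's theorem for `C_Y(γ)`;
* `fix_G2` : an element of `C_Y(γ)` fixed by the Frobenius comes from `C(γ)` over the finite field.
-/

set_option autoImplicit false
set_option linter.unusedSectionVars false

namespace Cfsg.Agent.H327.RG.GFour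

open CoxeterSystem Subgroup Cfsg Cfsg.Lie Cfsg.Lie.ChevalleyDatum
open Cfsg.Agent.ChevalleyStructure Cfsg.Agent.ChevalleyStructure.CoxeterGeom
  Cfsg.Agent.ChevalleyStructure.CoxeterGeomTypes Cfsg.Agent.ChevalleyStructure.NPerm
open Cfsg.Agent.Nodes.RGDChev Cfsg.Agent.KFacts.RgdChevCoord
open Cfsg.Agent.BpExc.TowChev Cfsg.Agent.BpExc.FamUntw Cfsg.Agent.BpExc.LangFr Cfsg.Agent.BpExc.FamField
  Cfsg.Agent.BpExc.RowsUntw Cfsg.Agent.BpExc.FamInst
open Cfsg.Agent.ChevalleyStructure.GraphSymm (symmD4a)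
open Cfsg.Agent.ChevalleyStructure.D4Fixed (sig fix)
open Cfsg.Agent.H522.FamTw.Frame (sig4 sig4_pow sig4_congr isFrob_sig4 fr_sig4)
open Cfsg.Agent.H28.FamFour (em em_injective coe_em sig_em)
open Cfsg.Agent.BpExc.FamTw.Gr
open Cfsg.Agent.CpAut.RgdUntw (fld fld_coe fld_mul fld_one fld_pow)
open Cfsg.Agent.GpExc.Field (glMap emb coe_emb glMap_xG emb_injective coe_glMap glMap_injective)
open Cfsg.Agent.H469.Exc Cfsg.Agent.H469.Exc.SigFr
open Cfsg.Agent.H28.GenF
open Cfsg.Agent.H46.Gen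
open Cfsg.Agent.LangThm (frob)
open Cfsg.Agent.CpAutTri.Bru Cfsg.Agent.CpAutTri.Fam Cfsg.Agent.CpAutTri.Nor Cfsg.Agent.CpAutTri.Gen Cfsg.Agent.CpAutTri.Iota
  Cfsg.Agent.CpAutTri.Hom
open Cfsg.Agent.H207.TriFix

theorem xG_eq {k : Type} [Field k] (s : ℕ) (t : k) : Elts.xG hD4 s t = D4Comm.xG s t := Units.ext rfl

/-- `DS` over `k`: all the fixed points of `γ` -/
theorem mem_DS {k : Type} [Field k] {y : GL chevD4.Idx k} (hG : y ∈ chevD4.group k) (h : sig (RingHom.id k) y = y) :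
    y ∈ DS (Sid k) := by
  rw [← CS_eq]
  exact ⟨hG, mem_FS_id.2 h⟩

theorem of_mem_DS {k : Type} [Field k] {y : GL chevD4.Idx k} (h : y ∈ DS (Sid k)) :
    y ∈ chevD4.group k ∧ sig (RingHom.id k) y = y := by
  rw [← CS_eq] at h
  exact ⟨h.1, mem_FS_id.1 h.2⟩

/-- the words -/
def w4 : Set (List ℕ) := {[14], [9], [18, 13, 12], [5, 10, 11]}

theorem lang_DS {k : Type} [Field k] [IsAlgClosed k] (p e : ℕ) [Fact p.Prime] [CharP k p] (he : 0 < e)
    {m : GL chevD4.Idx k} (hm : m ∈ DS (Sid k)) : ∃ y ∈ DS (Sid k), m = y⁻¹ * frob p e y := by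
  have key1 : ∀ (s : ℕ) (t : k), wx hD4 [s] t = D4Comm.xG s t := by
    intro s t
    unfold wx
    rw [List.map_cons, List.map_nil, List.prod_cons, List.prod_nil, mul_one, xG_eq]
  have key3 : ∀ (a b c : ℕ) (t : k), wx hD4 [a, b, c] t = D4Comm.xG a t * D4Comm.xG b t * D4Comm.xG c t := by
    intro a b c t
    unfold wx
    rw [List.map_cons, List.map_cons, List.map_cons, List.map_nil, List.prod_cons, List.prod_cons, List.prod_cons,
      List.prod_nil, mul_one, xG_eq, xG_eq, xG_eq, mul_assoc]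
  refine lang_words hD4 p e he w4 (fun w hw t => ?_) (fun H' hH => ?_) hm
  · simp only [w4, Set.mem_insert_iff, Set.mem_singleton_iff] at hw
    rcases hw with rfl | rfl | rfl | rfl
    · rw [key1]; exact x14_mem (mem_kF_id t)
    · rw [key1]; exact x9_mem (mem_kF_id t)
    · rw [key3]; exact X_mem (mem_kF_id t)
    · rw [key3]; exact Y_mem (mem_kF_id t)
  · refine DS_le id_mem (fun t _ => ?_) (fun t _ => ?_) (fun t _ => ?_) (fun t _ => ?_)
    · have h := hH [14] (by simp [w4]) t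
      rwa [key1] at h
    · have h := hH [9] (by simp [w4]) t
      rwa [key1] at h
    · have h := hH [18, 13, 12] (by simp [w4]) t
      rw [key3] at h
      exact h
    · have h := hH [5, 10, 11] (by simp [w4]) t
      rw [key3] at h
      exact h

theorem coe_gr_sig {k : Type} [Field k] (y : ↥(chevD4.group k)) :
    ((gr (L := k) hD4 symmD4a y : ↥(chevD4.group k)) : GL chevD4.Idx k) = sig (RingHom.id k) (y : GL chevD4.Idx k) := by
  rw [coe_gr, coe_sig_id]

theorem gr_iff {k : Type} [Field k] {y : ↥(chevD4.group k)} :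
    gr (L := k) hD4 symmD4a y = y ↔ (y : GL chevD4.Idx k) ∈ DS (Sid k) := by
  constructor
  · intro h
    refine mem_DS y.2 ?_
    rw [← coe_gr_sig, h]
  · intro h
    apply Subtype.ext
    rw [coe_gr_sig]
    exact (of_mem_DS h).2

variable {r : ℕ} [Fact r.Prime]

/-- **Lang's theorem for `C_Y(γ)`.** -/
theorem lang_G2 {n : ℕ} (hn : 0 < n) {w : ↥(chevD4.group (KK r))} (hw : gr (L := KK r) hD4 symmD4a w = w) :
    ∃ f : ↥(chevD4.group (KK r)), gr (L := KK r) hD4 symmD4a f = f ∧ w = f⁻¹ * phi chevD4 (KK r) r n f := by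
  obtain ⟨y, hy, e⟩ := lang_DS r n hn (gr_iff.1 hw)
  refine ⟨⟨y, (of_mem_DS hy).1⟩, gr_iff.2 hy, Subtype.ext ?_⟩
  rw [Subgroup.coe_mul, Subgroup.coe_inv, phi_frob]
  exact e

section rel

variable {K L : Type} [Field K] [Field L]

theorem sig_glMap_id (f : K →+* L) (g : GL chevD4.Idx K) : sig (RingHom.id L) (glMap chevD4 f g) =
    glMap chevD4 f (sig (RingHom.id K) g) := by
  rw [coe_sig_id, coe_sig_id, map_mul, map_mul, map_inv, glMap_P]

theorem map_I (f : K →+* L) : (I K).map f = I L := by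
  ext i j
  rw [Matrix.map_apply, I_apply, I_apply]
  exact map_intCast f _

theorem map_J (f : K →+* L) : (J K).map f = J L := by
  ext i j
  rw [Matrix.map_apply]
  show f (if _ then _ else _) = if _ then _ else _
  split_ifs
  · exact map_intCast f _
  · exact map_zero f

/-- the graph of `rho3` and field extensions -/
theorem R_glMap (f : K →+* L) {g : GL chevD4.Idx K} {y : GL chevG2.Idx K} (h : R g y) :
    R (glMap chevD4 f g) (glMap chevG2 f y) := by
  obtain ⟨h1, rfl⟩ := h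
  refine ⟨?_, ?_⟩
  · show sig (RingHom.id L) (glMap chevD4 f g) = _
    rw [sig_glMap_id, show sig (RingHom.id K) g = g from h1]
    rfl
  · apply Units.ext
    rw [coe_rho3]
    show J L * (((glMap chevD4 f g : GL chevD4.Idx L) : Matrix chevD4.Idx chevD4.Idx L) * I L) = _
    rw [coe_glMap, coe_glMap, coe_rho3, Matrix.map_mul, Matrix.map_mul, map_I, map_J]

end rel

theorem exists_pre {K : Type} [Field K] {c : GL chevG2.Idx K} (hc : c ∈ chevG2.group K) :
    ∃ b ∈ DS (Sid K), R b c := by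
  have h1 : c ∈ MG (Sid K) := by
    have htop : ∀ t : K, t ∈ kF (Sid K) := mem_kF_id
    let f : K →+* ↥(kF (Sid K)) :=
      { toFun := fun x => ⟨x, htop x⟩
        map_one' := rfl
        map_zero' := rfl
        map_mul' := fun x y => rfl
        map_add' := fun x y => rfl }
    refine ⟨glMap chevG2 f c, (emb g2T.inList f ⟨c, hc⟩).2, ?_⟩
    apply Units.ext
    ext i j
    rfl
  obtain ⟨b, hb, e⟩ := le_map id_mem h1
  exact ⟨b, hb, b.2, e⟩

theorem eq_one_of_R {K : Type} [Field K] {g : GL chevD4.Idx K} (hg : g ∈ chevD4.group K) (h : R g 1) : g = 1 := by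
  obtain ⟨h1, h2⟩ := h
  exact rho3_inj hg h1 h2

/-- **The elements of `C_Y(γ)` fixed by the Frobenius.** -/
theorem fix_G2 {F : Type} [Field F] [Fintype F] [CharP F r] (f : F →+* KK r) {n : ℕ} (hn : Nat.card F = r ^ n)
    {y : ↥(chevD4.group (KK r))} (hy : gr (L := KK r) hD4 symmD4a y = y) (hy2 : phi chevD4 (KK r) r n y = y) :
    ∃ b ∈ DS (Sid F), glMap chevD4 f b = (y : GL chevD4.Idx (KK r)) := by
  have hDS := gr_iff.1 hy
  have hfx : (y : GL chevD4.Idx (KK r)) ∈ fix (RingHom.id (KK r)) := DS_le_fix id_mem hDS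
  obtain ⟨z', hz'⟩ : ∃ z', z' = rho3 (KK r) ⟨y, hfx⟩ := ⟨_, rfl⟩
  have hR : R (y : GL chevD4.Idx (KK r)) z' := ⟨hfx, hz'.symm⟩
  have hz'G : z' ∈ chevG2.group (KK r) := by
    rw [hz']
    obtain ⟨c, hc, e⟩ := map_le (S := Sid (KK r)) id_mem (g := ⟨y, hfx⟩) hDS
    rw [← e]
    exact (emb g2T.inList (kF (Sid (KK r))).subtype ⟨c, hc⟩).2
  obtain ⟨z, hz⟩ : ∃ z : ↥(chevG2.group (KK r)), z = ⟨z', hz'G⟩ := ⟨_, rfl⟩
  have hz2 : phi chevG2 (KK r) r n z = z := by
    apply Subtype.ext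
    have h1 : R (frob r n (y : GL chevD4.Idx (KK r))) (frob r n z') := R_glMap (iterateFrobenius (KK r) r n) hR
    rw [← phi_frob, hy2] at h1
    rw [phi_frob, hz]
    obtain ⟨h2, h3⟩ := h1
    exact h3.symm.trans hz'.symm
  obtain ⟨c, hc⟩ := H378.TorFin.fix_mem (r := r) g2T f hn inv_G2 hz2
  obtain ⟨b, hb, hb'⟩ := exists_pre (K := F) c.2
  have h1 : R (glMap chevD4 f b) (glMap chevG2 f (c : GL chevG2.Idx F)) := R_glMap f hb'
  have h2 : glMap chevG2 f (c : GL chevG2.Idx F) = z' := by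
    have h3 := congrArg Subtype.val hc
    rw [coe_emb, hz] at h3
    exact h3
  rw [h2] at h1
  refine ⟨b, hb, ?_⟩
  have h3 : (glMap chevD4 f b)⁻¹ * (y : GL chevD4.Idx (KK r)) = 1 := by
    refine eq_one_of_R (mul_mem (inv_mem ?_) y.2) ?_
    · exact (emb Nodes.RGDTwD4.hp.inList f ⟨b, (of_mem_DS hb).1⟩).2
    · obtain ⟨h4, h5⟩ := h1
      refine ⟨mul_mem (inv_mem h4) hfx, ?_⟩
      have h6 : (⟨(glMap chevD4 f b)⁻¹ * (y : GL chevD4.Idx (KK r)), mul_mem (inv_mem h4) hfx⟩ :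
          ↥(fix (RingHom.id (KK r)))) = ⟨glMap chevD4 f b, h4⟩⁻¹ * ⟨y, hfx⟩ := rfl
      rw [h6, map_mul, map_inv, h5, ← hz', inv_mul_cancel]
  exact inv_mul_eq_one.1 h3

end Cfsg.Agent.H327.RG.GFour
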