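import Cfsg.Agent.H327.RG.GrFourA
import Cfsg.Agent.H566.G2.DerL0
import Cfsg.Agent.H327.RG.OutSix

/-!
# S3509: the level `G₂(q)` of `³D₄(q)`

* `lwG2` : the fixed points `L` of the graph automorphism of order 3 in `³D₄(q)`, all `q`.
-/

set_option autoImplicit false
set_option linter.unusedSectionVars false

namespace Cfsg.Agent.H327.RG.GFour

open CoxeterSystem Subgroup Cfsg Cfsg.Lie Cfsg.Lie.ChevalleyDatum
open Cfsg.Agent.ChevalleyStructure Cfsg.Agent.ChevalleyStructure.CoxeterGeom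
  Cfsg.Agent.ChevalleyStructure.CoxeterGeomTypes Cfsg.Agent.ChevalleyStructure.NPerm
open Cfsg.Agent.Nodes.RGDChev Cfsg.Agent.KFacts.RgdChevCoord
open Cfsg.Agent.BpExc.TowChev Cfsg.Agent.BpExc.FamUntw Cfsg.Agent.BpExc.LangFr Cfsg.Agent.BpExc.FamField
  Cfsg.Agent.BpExc.RowsUntw Cfsg.Agent.BpExc.FamInst
open Cfsg.Agent.ChevalleyStructure.GraphSymm (symmD4a)
open Cfsg.Agent.ChevalleyStructure.D4Fixed (sig fix)
open Cfsg.Agent.H522.FamTw.Frame (sig4 sig4_pow sig4_congr isFrob_sig4 fr_sig4)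
open Cfsg.Agent.H28.FamFour (em em_injective coe_em sig_em)
open Cfsg.Agent.BpExc.FamTw.Gr
open Cfsg.Agent.CpAut.RgdUntw (fld fld_coe fld_mul fld_one fld_pow)
open Cfsg.Agent.GpExc.Field (glMap emb coe_emb glMap_xG emb_injective coe_glMap glMap_injective)
open Cfsg.Agent.H469.Exc Cfsg.Agent.H469.Exc.SigFr
open Cfsg.Agent.H28.GenF
open Cfsg.Agent.H46.Gen
open Cfsg.Agent.LangThm (frob)
open Cfsg.Agent.CpAutTri.Bru Cfsg.Agent.CpAutTri.Fam Cfsg.Agent.CpAutTri.Nor Cfsg.Agent.CpAutTri.Gen Cfsg.Agent.CpAutTri.Iota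
  Cfsg.Agent.CpAutTri.Hom
open Cfsg.Agent.H207.TriFix
open Cfsg.Agent.H106.RC
open Cfsg.Agent.H873.RG (IHx NSA)
open scoped commutatorElement

variable {r : ℕ} [Fact r.Prime]

/-- the graph automorphism of order 3 of `D₄(k)` -/
noncomputable abbrev gm (r : ℕ) [Fact r.Prime] : MulAut ↥(chevD4.group (KK r)) := gr (L := KK r) hD4 symmD4a

theorem gm_phi (n : ℕ) (y : ↥(chevD4.group (KK r))) : gm r (phi chevD4 (KK r) r n y) = phi chevD4 (KK r) r n (gm r y) :=
  DFunLike.congr_fun (gr_mul_fld hD4 symmD4a (frb (KK r) r n)) y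

theorem sig_apply (n : ℕ) (y : ↥(chevD4.group (KK r))) : sig4 (KK r) r 1 n y = gm r (phi chevD4 (KK r) r n y) := by
  rw [MulAut.mul_apply, pow_one]

theorem gm_sig (n : ℕ) (y : ↥(chevD4.group (KK r))) : gm r (sig4 (KK r) r 1 n y) = sig4 (KK r) r 1 n (gm r y) := by
  rw [sig_apply, sig_apply, gm_phi]

/-- fixed by `γ` : `σ` is the Frobenius -/
theorem sig_of_fix {n : ℕ} {y : ↥(chevD4.group (KK r))} (hy : gm r y = y) :
    sig4 (KK r) r 1 n y = phi chevD4 (KK r) r n y := by
  rw [sig_apply, gm_phi, hy]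

section lev

variable {K : Type} [Field K] [Fintype K] [CharP K r] {q : ℕ} (hq : IsPrimePow q) (hK : Fintype.card K = q ^ 3)
  (f : K →+* KK r) {n : ℕ} (hn0 : 0 < n) (hn : q = r ^ n)

include hq hK hn in
/-- the elements of the level are fixed by the Frobenius -/
theorem phi_of_fix {a : ↥(twistedD4 K q)} (ha : gm r (em q f a) = em q f a) :
    phi chevD4 (KK r) r n (em q f a) = em q f a := by
  rw [← sig_of_fix ha]
  exact sig4_em hq hK f hn a

include hq hK hn0 hn in
/-- an element fixed by `γ` and the Frobenius comes from the level -/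
theorem exists_of_fix {y : ↥(chevD4.group (KK r))} (hy : gm r y = y) (hy2 : phi chevD4 (KK r) r n y = y) :
    ∃ a ∈ fixS (em q f) (gm r), em q f a = y := by
  obtain ⟨a, ha⟩ := fix_range4 hK f hn0 hn (y := y) (by rw [sig_of_fix hy, hy2])
  exact ⟨a, by rw [mem_fixS, ha, hy], ha⟩

include hq hK hn0 hn in
/-- **The level is `G₂(q)`.** -/
theorem equiv_lev4 {F : Type} [Field F] [Fintype F] [CharP F r] (g : F →+* KK r) (hF : Fintype.card F = q) :
    Nonempty (↥(chevG2.group F) ≃* ↥(fixS (em q f) (gm r))) := by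
  have hF' : Nat.card F = r ^ n := by rw [Nat.card_eq_fintype_card, hF, hn]
  let θ : ↥(DS (Sid F)) →* ↥(chevD4.group (KK r)) :=
    (emb Nodes.RGDTwD4.hp.inList g).comp (Subgroup.inclusion (fun b hb => (of_mem_DS hb).1))
  have hθ : Function.Injective θ := (emb_injective Nodes.RGDTwD4.hp.inList g).comp (Subgroup.inclusion_injective _)
  have coeθ : ∀ b, ((θ b : ↥(chevD4.group (KK r))) : GL chevD4.Idx (KK r)) = glMap chevD4 g (b : GL chevD4.Idx F) :=
    fun b => rfl
  have h1 : ∀ b, gm r (θ b) = θ b := by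
    intro b
    apply Subtype.ext
    rw [coe_gr_sig, coeθ, sig_glMap_id, (of_mem_DS b.2).2]
  have h2 : ∀ b, phi chevD4 (KK r) r n (θ b) = θ b := by
    intro b
    exact phi_emb Nodes.RGDTwD4.hp r g hF' _
  have h3 : ∀ b, ∃ a ∈ fixS (em q f) (gm r), em q f a = θ b := fun b =>
    exists_of_fix hq hK f hn0 hn (h1 b) (h2 b)
  choose j hj hj' using h3
  let φ : ↥(DS (Sid F)) →* ↥(fixS (em q f) (gm r)) :=
    { toFun := fun b => ⟨j b, hj b⟩
      map_one' := Subtype.ext (em_injective f (by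
        show em q f (j 1) = em q f 1
        rw [hj', map_one, map_one]))
      map_mul' := fun b c => Subtype.ext (em_injective f (by
        show em q f (j (b * c)) = em q f (j b * j c)
        rw [map_mul, hj', hj', hj', map_mul])) }
  have hφ : Function.Bijective φ := by
    constructor
    · intro b c hbc
      apply hθ
      rw [← hj', ← hj']
      exact congrArg (em q f) (congrArg Subtype.val hbc)
    · intro a
      have ha := mem_fixS.1 a.2
      obtain ⟨b, hb, hb'⟩ := fix_G2 g hF' ha (phi_of_fix hq hK f hn ha)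
      refine ⟨⟨b, hb⟩, Subtype.ext (em_injective f ?_)⟩
      show em q f (j ⟨b, hb⟩) = em q f a
      rw [hj']
      exact Subtype.ext hb'
  obtain ⟨e⟩ := equiv_G2 (K := F)
  exact ⟨e.symm.trans ((MulEquiv.subgroupCongr CS_eq).trans (MulEquiv.ofBijective φ hφ))⟩

/-- the derived group of a subgroup isomorphic to `G` -/
theorem exists_der {G A : Type*} [Group G] [Group A] {L : Subgroup A} (e : G ≃* ↥L) :
    Nonempty (↥(commutator G) ≃* ↥⁅L, L⁆) := by
  have h1 : ⁅L, L⁆ = (commutator G).map (L.subtype.comp e.toMonoidHom) := by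
    rw [commutator_def, Subgroup.map_commutator, ← MonoidHom.range_eq_map, MonoidHom.range_comp]
    have h2 : (e.toMonoidHom).range = ⊤ := MonoidHom.range_eq_top.2 e.surjective
    rw [h2, ← MonoidHom.range_eq_map, Subgroup.range_subtype]
  rw [h1]
  exact ⟨(commutator G).equivMapOfInjective _ ((Subgroup.subtype_injective _).comp e.injective)⟩

include hq hK hn0 hn in
/-- **The level.** -/
theorem lwG2' (hrc : RC ↥⁅fixS (em q f) (gm r), fixS (em q f) (gm r)⁆) :
    Lw (em q f) (gm r) (fixS (em q f) (gm r)) := by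
  have hr : r.Prime := Fact.out
  obtain ⟨F, i1, i2, i3, g, hF⟩ := exists_gf (r := r) (n := n) (by omega)
  obtain ⟨e⟩ := equiv_lev4 hq hK f hn0 hn g (by rw [hF, hn])
  obtain ⟨e'⟩ := exists_der e
  obtain ⟨h1, h2, h3⟩ := H566.G2.facts_congr e' (H566.G2.facts_comm (F := F))
  refine
    { fixL := fun a ha => ha
      charL := fun α hα a ha => hα a ha
      centL := ?_
      simple := h1
      ncomm := h2
      rc := hrc }
  intro y hy
  obtain ⟨K₁, j1, j2, j3, f₁, hK₁⟩ := exists_gf (r := r) (n := 1) (by omega)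
  refine Four.eq_one_G f₁ fun b => ?_
  obtain ⟨a, ha, ha'⟩ := exists_of_fix hq hK f hn0 hn (Four.gr_emG f₁ b) (phi_emG f₁ hK₁ n b)
  rw [← ha']
  exact hy a ha

include hq hK hn0 hn in
/-- the derived group of the level -/
theorem nsa_lev4 : NSA ↥⁅fixS (em q f) (gm r), fixS (em q f) (gm r)⁆ := by
  obtain ⟨F, i1, i2, i3, g, hF⟩ := exists_gf (r := r) (n := n) (by omega)
  obtain ⟨e⟩ := equiv_lev4 hq hK f hn0 hn g (by rw [hF, hn])
  obtain ⟨e'⟩ := exists_der e
  obtain ⟨h1, h2, h3⟩ := H566.G2.facts_congr e' (H566.G2.facts_comm (F := F))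
  exact ⟨h1, h2, h3⟩

end lev

end Cfsg.Agent.H327.RG.GFour
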