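import Cfsg.Agent.H327.RG.GrFourB

/-!
# S3509: the end of the type I case for `³D₄(q)`

* `fin4` : elements `a`, `b` of `³D₄(q)` with `[γ(a) a⁻¹, b] = u` in the derived group of `G₂(q)`, `u` central for both.
-/

set_option autoImplicit false
set_option linter.unusedSectionVars false

namespace Cfsg.Agent.H327.RG.GFour

open CoxeterSystem Subgroup Cfsg Cfsg.Lie Cfsg.Lie.ChevalleyDatum
open Cfsg.Agent.ChevalleyStructure Cfsg.Agent.ChevalleyStructure.CoxeterGeom
  Cfsg.Agent.ChevalleyStructure.CoxeterGeomTypes Cfsg.Agent.ChevalleyStructure.NPerm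
open Cfsg.Agent.Nodes.RGDChev Cfsg.Agent.KFacts.RgdChevCoord
open Cfsg.Agent.BpExc.TowChev Cfsg.Agent.BpExc.FamUntw Cfsg.Agent.BpExc.LangFr Cfsg.Agent.BpExc.FamField
  Cfsg.Agent.BpExc.RowsUntw Cfsg.Agent.BpExc.FamInst
open Cfsg.Agent.ChevalleyStructure.GraphSymm (symmD4a)
open Cfsg.Agent.H522.FamTw.Frame (sig4 sig4_pow sig4_congr isFrob_sig4 fr_sig4)
open Cfsg.Agent.H28.FamFour (em em_injective coe_em sig_em)
open Cfsg.Agent.BpExc.FamTw.Gr
open Cfsg.Agent.CpAut.RgdUntw (fld fld_coe fld_mul fld_one fld_pow)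
open Cfsg.Agent.H469.Exc Cfsg.Agent.H469.Exc.SigFr
open Cfsg.Agent.H28.GenF
open Cfsg.Agent.H46.Gen
open scoped commutatorElement

variable {r : ℕ} [Fact r.Prime]

/-- the root element -/
noncomputable abbrev xd {k : Type} [Field k] (s : ℕ) (t : k) : ↥(chevD4.group k) :=
  xc Nodes.RGDTwD4.hp (vec chevD4 4 s) t

theorem xd_zero {k : Type} [Field k] (s : ℕ) : xd s (0 : k) = 1 := xc_zero Nodes.RGDTwD4.hp _

theorem xd_add {k : Type} [Field k] (s : ℕ) (a b : k) : xd s (a + b) = xd s a * xd s b := xc_add Nodes.RGDTwD4.hp _ a b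

theorem gm_xd {s s' : ℕ} {e : ℤ} (hs : s < 24) (h : (symmD4a.σ ⟨s, hs⟩).val = s') (he : symmD4a.ε ⟨s, hs⟩ = e) (t : KK r) :
    gm r (xd s t) = xd s' ((e : KK r) * t) := by
  have h1 : xd s t = xg hD4 s t := Subtype.ext (coe_xc Nodes.RGDTwD4.hp hs _)
  have hs' : s' < 24 := by rw [← h]; exact (symmD4a.σ ⟨s, hs⟩).2
  have h2 : ∀ t : KK r, xd s' t = xg hD4 s' t := fun t => Subtype.ext (coe_xc Nodes.RGDTwD4.hp hs' _)
  rw [h1, h2]
  have h3 := gr_xg (L := KK r) hD4 symmD4a ⟨s, hs⟩ t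
  rw [h, he] at h3
  exact h3

theorem phi_xd {s : ℕ} (hs : s < 24) (n : ℕ) (t : KK r) : phi chevD4 (KK r) r n (xd s t) = xd s (t ^ r ^ n) :=
  H378.TorChar.phi_xc Nodes.RGDTwD4.hp r hs t

theorem xd_word {k : Type} [Field k] {a b : ℕ} (ha : a < 24) (hb : b < 24) (h1 : b ≠ a) (h2 : b ≠ chevD4.neg a)
    {W : ↥(chevD4.group k)} {t u : k}
    (hW : (W : GL chevD4.Idx k) = Elts.wordG Nodes.RGDTwD4.hp.inList (chevD4.commWord k a b t u)) :
    xd b u * xd a t = xd a t * xd b u * W := by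
  apply Subtype.ext
  rw [Subgroup.coe_mul, Subgroup.coe_mul, Subgroup.coe_mul, coe_xc Nodes.RGDTwD4.hp ha, coe_xc Nodes.RGDTwD4.hp hb, hW]
  exact comm_word Nodes.RGDTwD4.hp ha hb h1 h2 t u

theorem xd_comm {k : Type} [Field k] {a b : ℕ} (ha : a < 24) (hb : b < 24) (h1 : b ≠ a) (h2 : b ≠ chevD4.neg a)
    (h : chevD4.commTerms a b = []) (t u : k) : xd b u * xd a t = xd a t * xd b u := by
  rw [xd_word ha hb h1 h2 (W := 1) (by rw [word_nil' Nodes.RGDTwD4.hp h]; rfl), mul_one]

theorem xd_br {k : Type} [Field k] {a b : ℕ} (ha : a < 24) (hb : b < 24) (h1 : b ≠ a) (h2 : b ≠ chevD4.neg a)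
    (h : chevD4.commTerms a b = [(23, -1, 1, 1)]) (t u : k) : xd a t * xd b u = xd b u * xd a t * xd 23 (-(t * u)) := by
  have h3 : xd b u * xd a t = xd a t * xd b u * xd 23 (t * u) :=
    xd_word ha hb h1 h2 (by
      rw [word_one' Nodes.RGDTwD4.hp h, coe_xc Nodes.RGDTwD4.hp (by decide : 23 < 24)]
      congr 1
      push_cast
      ring)
  rw [h3, mul_assoc, mul_assoc, ← xd_add, add_neg_cancel, xd_zero, mul_one]

/-- `x₂₃(1)` commutes with the positive root elements -/
theorem xd23_comm {k : Type} [Field k] {b : ℕ} (hb : 12 ≤ b) (hb' : b < 23) (t u : k) :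
    xd b u * xd 23 t = xd 23 t * xd b u := by
  have key : ∀ b : ℕ, 12 ≤ b → b < 23 → b ≠ chevD4.neg 23 ∧ chevD4.commTerms 23 b = [] := by
    intro b h1 h2
    have h3 : ∀ b : Fin 23, 12 ≤ b.val → b.val ≠ chevD4.neg 23 ∧ chevD4.commTerms 23 b.val = [] := by decide +kernel
    exact h3 ⟨b, h2⟩ h1
  obtain ⟨h1, h2⟩ := key b hb hb'
  exact xd_comm (by norm_num) (by omega) (by omega) h1 h2 t u

/-! ### the two elements -/

section elts

variable {k : Type} [Field k]

/-- commuting up to a central element -/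
def Qc (g h : ↥(chevD4.group k)) (c : k) : Prop := g * h = h * g * xd 23 c

theorem Qc.mulr {g h l : ↥(chevD4.group k)} {c d : k} (h1 : Qc g h c) (h2 : Qc g l d)
    (h3 : l * xd 23 c = xd 23 c * l) : Qc g (h * l) (c + d) := by
  unfold Qc at *
  calc g * (h * l) = (g * h) * l := by group
    _ = h * g * (xd 23 c * l) := by rw [h1]; group
    _ = h * (g * l) * xd 23 c := by rw [← h3]; group
    _ = h * l * g * (xd 23 d * xd 23 c) := by rw [h2]; group
    _ = h * l * g * xd 23 (c + d) := by rw [← xd_add, add_comm d c]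

theorem Qc.mull {g h l : ↥(chevD4.group k)} {c d : k} (h1 : Qc g l c) (h2 : Qc h l d)
    (h3 : h * xd 23 c = xd 23 c * h) : Qc (g * h) l (c + d) := by
  unfold Qc at *
  calc g * h * l = g * (h * l) := by group
    _ = (g * l) * h * xd 23 d := by rw [h2]; group
    _ = l * g * (xd 23 c * h) * xd 23 d := by rw [h1]; group
    _ = l * (g * h) * (xd 23 c * xd 23 d) := by rw [← h3]; group
    _ = l * (g * h) * xd 23 (c + d) := by rw [← xd_add]

theorem Qc.of_comm {g h : ↥(chevD4.group k)} (h1 : g * h = h * g) : Qc g h 0 := by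
  unfold Qc
  rw [xd_zero, mul_one, h1]

/-- `x₁₉ x₁₆ x₁₅` -/
noncomputable def eA (a b c : k) : ↥(chevD4.group k) := xd 19 a * xd 16 b * xd 15 c

/-- `x₂₁ x₁₇ x₂₀` -/
noncomputable def eB (a b c : k) : ↥(chevD4.group k) := xd 21 a * xd 17 b * xd 20 c

theorem eA_comm {a b c d : k} : eA a b c * xd 23 d = xd 23 d * eA a b c := by
  have h1 := xd23_comm (b := 19) (by norm_num) (by norm_num) d a
  have h2 := xd23_comm (b := 16) (by norm_num) (by norm_num) d b
  have h3 := xd23_comm (b := 15) (by norm_num) (by norm_num) d c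
  unfold eA
  calc xd 19 a * xd 16 b * xd 15 c * xd 23 d = xd 19 a * xd 16 b * (xd 15 c * xd 23 d) := by group
    _ = xd 19 a * (xd 16 b * xd 23 d) * xd 15 c := by rw [h3]; group
    _ = (xd 19 a * xd 23 d) * xd 16 b * xd 15 c := by rw [h2]; group
    _ = _ := by rw [h1]; group

theorem eB_comm {a b c d : k} : eB a b c * xd 23 d = xd 23 d * eB a b c := by
  have h1 := xd23_comm (b := 21) (by norm_num) (by norm_num) d a
  have h2 := xd23_comm (b := 17) (by norm_num) (by norm_num) d b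
  have h3 := xd23_comm (b := 20) (by norm_num) (by norm_num) d c
  unfold eB
  calc xd 21 a * xd 17 b * xd 20 c * xd 23 d = xd 21 a * xd 17 b * (xd 20 c * xd 23 d) := by group
    _ = xd 21 a * (xd 17 b * xd 23 d) * xd 20 c := by rw [h3]; group
    _ = (xd 21 a * xd 23 d) * xd 17 b * xd 20 c := by rw [h2]; group
    _ = _ := by rw [h1]; group

theorem Q_one {s : ℕ} (hs : s ∈ [19, 16, 15]) {a x y z : k} {p : k}
    (h : p = (if s = 19 then -(a * y) else if s = 16 then -(a * z) else -(a * x))) : Qc (xd s a) (eB x y z) p := by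
  have c1 : ∀ (s s' : ℕ), s < 24 → s' < 24 → s' ≠ s → s' ≠ chevD4.neg s → chevD4.commTerms s s' = [] →
      ∀ t u : k, Qc (xd s t) (xd s' u) 0 := fun s s' h1 h2 h3 h4 h5 t u =>
    Qc.of_comm (xd_comm h1 h2 h3 h4 h5 t u).symm
  have c2 : ∀ (s s' : ℕ), s < 24 → s' < 24 → s' ≠ s → s' ≠ chevD4.neg s → chevD4.commTerms s s' = [(23, -1, 1, 1)] →
      ∀ t u : k, Qc (xd s t) (xd s' u) (-(t * u)) := fun s s' h1 h2 h3 h4 h5 t u => xd_br h1 h2 h3 h4 h5 t u
  unfold eB
  simp only [List.mem_cons, List.not_mem_nil, or_false] at hs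
  rcases hs with rfl | rfl | rfl
  · have h1 := c1 19 21 (by decide) (by decide) (by decide) (by decide +kernel) (by decide +kernel) a x
    have h2 := c2 19 17 (by decide) (by decide) (by decide) (by decide +kernel) (by decide +kernel) a y
    have h3 := c1 19 20 (by decide) (by decide) (by decide) (by decide +kernel) (by decide +kernel) a z
    have h4 := (h1.mulr h2 (xd23_comm (by norm_num) (by norm_num) _ _)).mulr h3 (xd23_comm (by norm_num) (by norm_num) _ _)
    simpa [h] using h4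
  · have h1 := c1 16 21 (by decide) (by decide) (by decide) (by decide +kernel) (by decide +kernel) a x
    have h2 := c1 16 17 (by decide) (by decide) (by decide) (by decide +kernel) (by decide +kernel) a y
    have h3 := c2 16 20 (by decide) (by decide) (by decide) (by decide +kernel) (by decide +kernel) a z
    have h4 := (h1.mulr h2 (xd23_comm (by norm_num) (by norm_num) _ _)).mulr h3 (xd23_comm (by norm_num) (by norm_num) _ _)
    simpa [h] using h4
  · have h1 := c2 15 21 (by decide) (by decide) (by decide) (by decide +kernel) (by decide +kernel) a x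
    have h2 := c1 15 17 (by decide) (by decide) (by decide) (by decide +kernel) (by decide +kernel) a y
    have h3 := c1 15 20 (by decide) (by decide) (by decide) (by decide +kernel) (by decide +kernel) a z
    have h4 := (h1.mulr h2 (xd23_comm (by norm_num) (by norm_num) _ _)).mulr h3 (xd23_comm (by norm_num) (by norm_num) _ _)
    simpa [h] using h4

/-- **the commutator** -/
theorem eA_eB (a b c x y z : k) : ⁅eA a b c, eB x y z⁆ = xd 23 (-(a * y + b * z + c * x)) := by
  have h1 := Q_one (s := 19) (a := a) (x := x) (y := y) (z := z) (by simp) rfl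
  have h2 := Q_one (s := 16) (a := b) (x := x) (y := y) (z := z) (by simp) rfl
  have h3 := Q_one (s := 15) (a := c) (x := x) (y := y) (z := z) (by simp) rfl
  have h4 : Qc (eA a b c) (eB x y z) (-(a * y) + -(b * z) + -(c * x)) := by
    have h5 := (h1.mull h2 (xd23_comm (by norm_num) (by norm_num) _ _)).mull h3
      (xd23_comm (by norm_num) (by norm_num) _ _)
    simpa [eA] using h5
  have h5 : -(a * y) + -(b * z) + -(c * x) = -(a * y + b * z + c * x) := by ring
  rw [h5] at h4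
  unfold Qc at h4
  have h6 : eA a b c * eB x y z = xd 23 (-(a * y + b * z + c * x)) * (eB x y z * eA a b c) := by
    rw [h4]
    have h7 := eA_comm (a := a) (b := b) (c := c) (d := -(a * y + b * z + c * x))
    have h8 := eB_comm (a := x) (b := y) (c := z) (d := -(a * y + b * z + c * x))
    calc eB x y z * eA a b c * xd 23 (-(a * y + b * z + c * x))
        = eB x y z * (eA a b c * xd 23 (-(a * y + b * z + c * x))) := by group
      _ = (eB x y z * xd 23 (-(a * y + b * z + c * x))) * eA a b c := by rw [h7]; group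
      _ = _ := by rw [h8]; group
  rw [commutatorElement_def, h6]
  group

theorem xA_comm (s s' : ℕ) (hs : s ∈ [19, 16, 15]) (hs' : s' ∈ [19, 16, 15]) (t u : k) :
    xd s t * xd s' u = xd s' u * xd s t := by
  by_cases h : s = s'
  · subst h
    rw [← xd_add, ← xd_add, add_comm]
  · have key : ∀ s ∈ [19, 16, 15], ∀ s' ∈ [19, 16, 15], s ≠ s' → s ≠ chevD4.neg s' ∧ chevD4.commTerms s' s = [] := by
      decide +kernel
    obtain ⟨h1, h2⟩ := key s hs s' hs' h
    have h3 : s < 24 := by simp only [List.mem_cons, List.not_mem_nil, or_false] at hs; omega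
    have h4 : s' < 24 := by simp only [List.mem_cons, List.not_mem_nil, or_false] at hs'; omega
    exact xd_comm h4 h3 h h1 h2 u t

theorem xB_comm (s s' : ℕ) (hs : s ∈ [21, 17, 20]) (hs' : s' ∈ [21, 17, 20]) (t u : k) :
    xd s t * xd s' u = xd s' u * xd s t := by
  by_cases h : s = s'
  · subst h
    rw [← xd_add, ← xd_add, add_comm]
  · have key : ∀ s ∈ [21, 17, 20], ∀ s' ∈ [21, 17, 20], s ≠ s' → s ≠ chevD4.neg s' ∧ chevD4.commTerms s' s = [] := by
      decide +kernel
    obtain ⟨h1, h2⟩ := key s hs s' hs' h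
    have h3 : s < 24 := by simp only [List.mem_cons, List.not_mem_nil, or_false] at hs; omega
    have h4 : s' < 24 := by simp only [List.mem_cons, List.not_mem_nil, or_false] at hs'; omega
    exact xd_comm h4 h3 h h1 h2 u t

theorem eA_rot (a b c : k) : xd 16 a * xd 15 b * xd 19 c = eA c a b := by
  have h1 := xA_comm 15 19 (by simp) (by simp) b c
  have h2 := xA_comm 16 19 (by simp) (by simp) a c
  unfold eA
  calc xd 16 a * xd 15 b * xd 19 c = xd 16 a * (xd 15 b * xd 19 c) := by group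
    _ = (xd 16 a * xd 19 c) * xd 15 b := by rw [h1]; group
    _ = _ := by rw [h2]

theorem eB_rot (a b c : k) : xd 17 a * xd 20 b * xd 21 c = eB c a b := by
  have h1 := xB_comm 20 21 (by simp) (by simp) b c
  have h2 := xB_comm 17 21 (by simp) (by simp) a c
  unfold eB
  calc xd 17 a * xd 20 b * xd 21 c = xd 17 a * (xd 20 b * xd 21 c) := by group
    _ = (xd 17 a * xd 21 c) * xd 20 b := by rw [h1]; group
    _ = _ := by rw [h2]

theorem eA_mul (a b c a' b' c' : k) : eA a b c * eA a' b' c' = eA (a + a') (b + b') (c + c') := by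
  have h1 := xA_comm 15 19 (by simp) (by simp) c a'
  have h2 := xA_comm 16 19 (by simp) (by simp) b a'
  have h3 := xA_comm 15 16 (by simp) (by simp) c b'
  unfold eA
  rw [xd_add, xd_add, xd_add]
  calc xd 19 a * xd 16 b * xd 15 c * (xd 19 a' * xd 16 b' * xd 15 c')
      = xd 19 a * xd 16 b * (xd 15 c * xd 19 a') * xd 16 b' * xd 15 c' := by group
    _ = xd 19 a * (xd 16 b * xd 19 a') * (xd 15 c * xd 16 b') * xd 15 c' := by rw [h1]; group
    _ = _ := by rw [h2, h3]; group

theorem eA_inv (a b c : k) : (eA a b c)⁻¹ = eA (-a) (-b) (-c) := by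
  rw [inv_eq_iff_mul_eq_one, eA_mul, add_neg_cancel, add_neg_cancel, add_neg_cancel]
  unfold eA
  rw [xd_zero, xd_zero, xd_zero, mul_one, mul_one]

end elts

theorem gm_eA (a b c : KK r) : gm r (eA a b c) = eA (-c) (-a) b := by
  have h19 := gm_xd (r := r) (s := 19) (s' := 16) (e := -1) (by decide) (by decide +kernel) (by decide +kernel) a
  have h16 := gm_xd (r := r) (s := 16) (s' := 15) (e := 1) (by decide) (by decide +kernel) (by decide +kernel) b
  have h15 := gm_xd (r := r) (s := 15) (s' := 19) (e := -1) (by decide) (by decide +kernel) (by decide +kernel) c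
  have h1 := eA_rot (-a) b (-c)
  rw [← h1]
  unfold eA
  rw [map_mul, map_mul, h19, h16, h15]
  push_cast
  rw [one_mul, neg_one_mul, neg_one_mul]

theorem gm_eB (a b c : KK r) : gm r (eB a b c) = eB c (-a) (-b) := by
  have h21 := gm_xd (r := r) (s := 21) (s' := 17) (e := -1) (by decide) (by decide +kernel) (by decide +kernel) a
  have h17 := gm_xd (r := r) (s := 17) (s' := 20) (e := -1) (by decide) (by decide +kernel) (by decide +kernel) b
  have h20 := gm_xd (r := r) (s := 20) (s' := 21) (e := 1) (by decide) (by decide +kernel) (by decide +kernel) c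
  have h1 := eB_rot (-a) (-b) c
  rw [← h1]
  unfold eB
  rw [map_mul, map_mul, h21, h17, h20]
  push_cast
  rw [one_mul, neg_one_mul, neg_one_mul]

theorem phi_eA (n : ℕ) (a b c : KK r) :
    phi chevD4 (KK r) r n (eA a b c) = eA (a ^ r ^ n) (b ^ r ^ n) (c ^ r ^ n) := by
  unfold eA
  rw [map_mul, map_mul, phi_xd (by decide), phi_xd (by decide), phi_xd (by decide)]

theorem phi_eB (n : ℕ) (a b c : KK r) :
    phi chevD4 (KK r) r n (eB a b c) = eB (a ^ r ^ n) (b ^ r ^ n) (c ^ r ^ n) := by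
  unfold eB
  rw [map_mul, map_mul, phi_xd (by decide), phi_xd (by decide), phi_xd (by decide)]

/-! ### the field -/

theorem exists_moved4 {n : ℕ} (hn0 : 0 < n) : ∃ t : KK r, ((t ^ r ^ n) ^ r ^ n) ^ r ^ n = t ∧ t ^ r ^ n ≠ t := by
  obtain ⟨K₁, i1, i2, i3, f₁, hK₁⟩ := exists_gf (r := r) (n := n * 3) (by omega)
  rw [← Nat.card_eq_fintype_card] at hK₁
  have h1 : ¬ ∀ t : K₁, t ^ r ^ n = t := by
    intro h
    have h2 := (forall_pow_iff (F := K₁) r hK₁ n).1 h
    exact absurd (Nat.le_of_dvd hn0 h2) (by omega)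
  push Not at h1
  obtain ⟨t, ht⟩ := h1
  refine ⟨f₁ t, ?_, fun h => ht (f₁.injective (by rw [map_pow, h]))⟩
  have h2 := (forall_pow_iff (F := K₁) r hK₁ (n * 3)).2 dvd_rfl t
  rw [← map_pow, ← map_pow, ← map_pow, ← pow_mul, ← pow_mul, ← pow_add, ← pow_add]
  rw [show n + (n + n) = n * 3 by ring, h2]

theorem exists_trace {k : Type} [Field k] (φ : k →+* k) {t : k} (h3 : φ (φ (φ t)) = t) (ht : φ t ≠ t) :
    ∃ c, φ (φ (φ c)) = c ∧ c + φ c + φ (φ c) ≠ 0 := by
  by_cases h : (3 : k) = 0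
  · by_contra hcon
    push Not at hcon
    have h1 := hcon t h3
    have h2 := hcon (t ^ 2) (by rw [map_pow, map_pow, map_pow, h3])
    rw [map_pow, map_pow] at h2
    have h4 : (φ t - t) ^ 2 = 0 := by
      have h5 : φ (φ t) = -t - φ t := by linear_combination h1
      rw [h5] at h2
      linear_combination (-1 : k) * h2 + (t ^ 2 + φ t ^ 2) * h
    exact ht (sub_eq_zero.1 (pow_eq_zero_iff (two_ne_zero)|>.1 h4))
  · exact ⟨1, by rw [map_one, map_one, map_one], by
      rw [map_one, map_one]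
      intro h1
      exact h (by linear_combination h1)⟩

section fin

variable {K : Type} [Field K] [Fintype K] [CharP K r] {q : ℕ} (hq : IsPrimePow q) (hK : Fintype.card K = q ^ 3)
  (f : K →+* KK r) {n : ℕ} (hn0 : 0 < n) (hn : q = r ^ n)

include hq hK hn0 hn in
/-- **The end.** -/
theorem fin4' : ∃ u ∈ ⁅fixS (em q f) (gm r), fixS (em q f) (gm r)⁆, u ≠ 1 ∧ ∃ a b : ↥(twistedD4 K q), a * u = u * a ∧
      b * u = u * b ∧ ⁅gm r (em q f a) * (em q f a)⁻¹, em q f b⁆ = em q f u := by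
  obtain ⟨φ, hφ⟩ : ∃ φ : KK r →+* KK r, ∀ x, φ x = x ^ r ^ n :=
    ⟨iterateFrobenius (KK r) r n, fun x => iterateFrobenius_def _ _ _⟩
  obtain ⟨t, h3, ht⟩ := exists_moved4 (r := r) hn0
  simp only [← hφ] at h3 ht
  obtain ⟨c, hc3, hc⟩ := exists_trace φ h3 ht
  obtain ⟨w, hw⟩ : ∃ w, w = φ (φ t) - t := ⟨_, rfl⟩
  have hw0 : w ≠ 0 := by
    rw [hw, sub_ne_zero]
    intro h
    apply ht
    have h4 := congrArg φ h
    rw [h3] at h4
    exact h4.symm
  obtain ⟨s, hs⟩ : ∃ s, s = φ (φ (c / w)) := ⟨_, rfl⟩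
  have hw3 : φ (φ (φ w)) = w := by rw [hw, map_sub, map_sub, map_sub, h3]
  have hcw : φ (φ (φ (c / w))) = c / w := by
    rw [map_div₀, map_div₀, map_div₀, hc3, hw3]
  have hs1 : φ s = c / w := by rw [hs, hcw]
  have hs2 : φ (φ s) = φ c / φ w := by rw [hs1, map_div₀]
  have hs0 : s = φ (φ c) / φ (φ w) := by rw [hs, map_div₀, map_div₀]
  have hs3 : φ (φ (φ s)) = s := by rw [hs2, map_div₀, ← hs0]
  have hφw : φ w ≠ 0 := (map_ne_zero φ).2 hw0
  have hφφw : φ (φ w) ≠ 0 := (map_ne_zero φ).2 hφw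
  obtain ⟨T, hT⟩ : ∃ T, T = c + φ c + φ (φ c) := ⟨_, rfl⟩
  rw [← hT] at hc
  have hTφ : φ T = T := by
    rw [hT, map_add, map_add, hc3]
    ring
  -- the elements
  have ha : sig4 (KK r) r 1 n (eA t (-φ t) (-φ (φ t))) = eA t (-φ t) (-φ (φ t)) := by
    rw [sig_apply, phi_eA, ← hφ, ← hφ, ← hφ, gm_eA, map_neg, map_neg, neg_neg, h3]
  have hb : sig4 (KK r) r 1 n (eB s (-φ s) (φ (φ s))) = eB s (-φ s) (φ (φ s)) := by
    rw [sig_apply, phi_eB, ← hφ, ← hφ, ← hφ, gm_eB, map_neg, neg_neg, hs3]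
  obtain ⟨a, ea⟩ := fix_range4 hK f hn0 hn ha
  obtain ⟨b, eb⟩ := fix_range4 hK f hn0 hn hb
  have h14 : ∀ d : KK r, φ d = d → ∃ l ∈ fixS (em q f) (gm r), em q f l = xd 14 d := fun d hd =>
    exists_of_fix hq hK f hn0 hn (by
      have h5 := gr4_x (r := r) (s := 14) (by simp) 1 d
      rwa [pow_one] at h5) (by rw [phi_xd (by decide), ← hφ, hd])
  have h22 : ∀ d : KK r, φ d = d → ∃ l ∈ fixS (em q f) (gm r), em q f l = xd 22 d := fun d hd =>
    exists_of_fix hq hK f hn0 hn (by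
      have h5 := gr4_x (r := r) (s := 22) (by simp) 1 d
      rwa [pow_one] at h5) (by rw [phi_xd (by decide), ← hφ, hd])
  obtain ⟨N, hN⟩ : ∃ N : ℤ, N = NN chevD4 4 (vec chevD4 4 14) (vec chevD4 4 22) := ⟨_, rfl⟩
  have hN2 : (N : KK r) * (N : KK r) = 1 := by
    rw [hN, ← Int.cast_mul, NN_sq Nodes.RGDTwD4.hp pr4, Int.cast_one]
  obtain ⟨l, hl, el⟩ := h14 ((N : KK r) * T) (by rw [map_mul, map_intCast, hTφ])
  obtain ⟨l', hl', el'⟩ := h22 1 (map_one φ)
  have hsum : vec chevD4 4 14 + vec chevD4 4 22 = vec chevD4 4 23 := by decide +kernel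
  have eu : em q f ⁅l, l'⁆ = xd 23 T := by
    rw [map_commutatorElement, el, el', xc_br Nodes.RGDTwD4.hp pr4, ← hN, hsum, mul_one, ← mul_assoc, hN2, one_mul]
  have ec : ⁅gm r (em q f a) * (em q f a)⁻¹, em q f b⁆ = xd 23 T := by
    rw [ea, eb, gm_eA, eA_inv, eA_mul, eA_eB]
    congr 1
    have e1 : -(-φ (φ t)) + -t = w := by rw [hw]; ring
    have e2 : -t + -(-φ t) = -φ w := by rw [hw, map_sub, h3]; ring
    have e3 : -φ t + -(-φ (φ t)) = -φ (φ w) := by rw [hw, map_sub, map_sub, h3]; ring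
    rw [e1, e2, e3, hs2, hs1, hT]
    conv_lhs => rw [hs0]
    field_simp
    ring
  refine ⟨⁅l, l'⁆, commutator_mem_commutator hl hl', ?_, a, b, ?_, ?_, ?_⟩
  · intro h
    rw [h, map_one] at eu
    exact xc_ne_one Nodes.RGDTwD4.hp ⟨23, by decide +kernel, rfl⟩ hc eu.symm
  · apply em_injective f
    rw [map_mul, map_mul, eu, ea]
    exact eA_comm
  · apply em_injective f
    rw [map_mul, map_mul, eu, eb]
    exact eB_comm
  · rw [ec, eu]

include hq hK hn0 hn in
theorem fin4 (β : MulAut ↥(twistedD4 K q)) (hβ : ∀ a, em q f (β a) = gm r (em q f a)) :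
    ∃ u ∈ ⁅fixS (em q f) (gm r), fixS (em q f) (gm r)⁆, u ≠ 1 ∧ ∃ a b : ↥(twistedD4 K q), a * u = u * a ∧
      b * u = u * b ∧ ⁅β a * a⁻¹, b⁆ = u := by
  obtain ⟨u, hu, hu1, a, b, ha, hb, h⟩ := fin4' hq hK f hn0 hn
  refine ⟨u, hu, hu1, a, b, ha, hb, em_injective f ?_⟩
  rw [map_commutatorElement, map_mul, map_inv, hβ, h]

include hq hK hn0 hn in
/-- an element moved by the graph automorphism -/
theorem exists_moved_gm : ∃ a : ↥(twistedD4 K q), gm r (em q f a) ≠ em q f a := by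
  obtain ⟨u, hu, hu1, a, b, ha, hb, h⟩ := fin4' hq hK f hn0 hn
  refine ⟨a, fun h1 => hu1 (em_injective f ?_)⟩
  rw [← h, h1, mul_inv_cancel, map_one, commutatorElement_one_left]

end fin

end Cfsg.Agent.H327.RG.GFour
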