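import Cfsg.Agent.H327.RG.SixA

/-!
# S3509: `E₆(q)`, members of field or graph-field type

* `lvGF` : the level `²E₆(q₀)`, `q = q₀²`, of a graph-field automorphism;
* `field_e6` : a cover for `E₆(q)` with a member which is neither inner-diagonal nor of graph type is impossible.
-/

set_option autoImplicit false
set_option linter.unusedSectionVars false

namespace Cfsg.Agent.H327.RG

open CoxeterSystem Subgroup Cfsg Cfsg.Lie Cfsg.Lie.ChevalleyDatum
open Cfsg.Agent.ChevalleyStructure Cfsg.Agent.ChevalleyStructure.Elts Cfsg.Agent.ChevalleyStructure.CoxeterGeom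
  Cfsg.Agent.ChevalleyStructure.CoxeterGeomTypes Cfsg.Agent.ChevalleyStructure.NPerm
open Cfsg.Agent.Nodes.RGDChev Cfsg.Agent.KFacts.RgdChevCoord
open Cfsg.Agent.BpExc.TowChev Cfsg.Agent.BpExc.FamUntw Cfsg.Agent.BpExc.LangFr Cfsg.Agent.BpExc.FamField
  Cfsg.Agent.BpExc.RowsUntw Cfsg.Agent.BpExc.FamInst
open Cfsg.Agent.ChevalleyStructure.GraphSymm (symmE6)
open Cfsg.Agent.ChevalleyStructure.TwE6Basic (hE6 single_mem pair_mem twisted_le_iff exists_frob)
open Cfsg.Agent.H522.FamTw.Frame (sig6 sig6_pow sig6_sq isFrob_sig6 fr_sig6)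
open Cfsg.Agent.BpExc.FamTw.Six (em em_injective coe_em)
open Cfsg.Agent.BpExc.FamTw.Gr
open Cfsg.Agent.GpExc.Field (glMap emb coe_emb glMap_xG emb_injective coe_glMap glMap_injective)
open Cfsg.Agent.CpAut.RgdUntw
open Cfsg.Agent.H469.Exc Cfsg.Agent.H469.Exc.SigFr
open Cfsg.Agent.H28.GenF
open Cfsg.Agent.H46.Gen
open Cfsg.Agent.H106.RC
open scoped commutatorElement

variable {r : ℕ} [Fact r.Prime] {F : Type} [Field F] [Fintype F] [CharP F r]

/-- the level of a graph-field automorphism -/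
noncomputable def L6 (F : Type) [Field F] (q : ℕ) : Subgroup ↥(chevE6.group F) := (em q (RingHom.id F)).range

theorem center6 : center ↥(chevE6.group (KK r)) = ⊥ := center_bot' (S1054.result chevE6 (by simp))

/-- **The level of a graph-field automorphism of `E₆(q²)`.** -/
theorem lvGF (f : F →+* KK r) {n m : ℕ} (hn : Nat.card F = r ^ n) (hm : 0 < m) (hmn : m * 2 = n)
    (hRC : RC ↥(twistedE6 F (r ^ m))) :
    Lv (emb e6T.inList f) (phi chevE6 (KK r) r n) 2 (sig6 (KK r) r m) (L6 F (r ^ m)) := by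
  have hr : r.Prime := Fact.out
  have hq₀ : IsPrimePow (r ^ m) := (isPrimePow_nat_iff _).2 ⟨r, m, hr, hm, rfl⟩
  have hF : Fintype.card F = (r ^ m) ^ 2 := by rw [← Nat.card_eq_fintype_card, hn, ← hmn, pow_mul]
  obtain ⟨φ, hφ, hqq⟩ := exists_frob hq₀ hF
  have hem : ∀ b, emb e6T.inList f (em (r ^ m) (RingHom.id F) b) = em (r ^ m) f b := fun b => emb_em6_id f b
  have hfixm : ∀ b, sig6 (KK r) r m (em (r ^ m) f b) = em (r ^ m) f b := fun b =>
    H522.FamTw.Six.sig6_em f r hφ hqq rfl b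
  obtain ⟨hs0, hs0'⟩ := Cfsg.Agent.S1070.result hq₀ hF
  let eL : ↥(twistedE6 F (r ^ m)) ≃* ↥(L6 F (r ^ m)) := MonoidHom.ofInjective (em_injective (RingHom.id F))
  have hs1 : IsSimpleGroup ↥(L6 F (r ^ m)) := isSimple_cgr0 eL hs0
  have hs2 : ¬ IsMulCommutative ↥(L6 F (r ^ m)) := fun hc => hs0' ⟨⟨fun a b => by
    apply eL.injective
    rw [map_mul, map_mul]
    exact hc.is_comm.comm _ _⟩⟩
  have hder : ⁅L6 F (r ^ m), L6 F (r ^ m)⁆ = L6 F (r ^ m) := perfect_of_simple hs1 hs2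
  refine
    { pow := by rw [sig6_sq, hmn]
      lang := fun h => ?_
      fixL := ?_
      charL := ?_
      centL := ?_
      simple := by rw [hder]; exact hs1
      ncomm := by rw [hder]; exact hs2
      rc := by rw [hder]; exact hRC.congr eL
      fin := fun β hβ => ?_ }
  · obtain ⟨z, hz⟩ := lang_all e6T CoxeterMatrix.E₆.toCoxeterSystem hm (isFrob_sig6 r m)
      (fr_sig6 (locFin r) r e6T CoxeterMatrix.E₆.toCoxeterSystem m) 1 h
    rw [map_one, one_mul] at hz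
    exact ⟨z, hz⟩
  · rintro _ ⟨b, rfl⟩
    rw [hem, hfixm]
  · intro x hx
    obtain ⟨N, hN⟩ : ∃ N : Subgroup ↥(twistedE6 F (r ^ m)), ∀ b, b ∈ N ↔
        x (em (r ^ m) (RingHom.id F) b) ∈ L6 F (r ^ m) :=
      ⟨((L6 F (r ^ m)).comap x.toMonoidHom).comap (em (r ^ m) (RingHom.id F)), fun b => Iff.rfl⟩
    have h1 : N = ⊤ := r_gen6 hq₀ hF N fun b hb => by
      rw [hN]
      have h2 := hx (em (r ^ m) (RingHom.id F) b) (by rw [hem, hfixm])
      obtain ⟨b', hb'⟩ := mem_of_pow6 hF hm rfl f h2 (j := 1) (by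
        rw [pow_one, ← map_pow, ← map_pow, ← map_pow, hb, map_one, map_one, map_one])
      exact ⟨b', emb_injective e6T.inList f (by rw [hem, hb'])⟩
    rintro _ ⟨b, rfl⟩
    rw [← hN, h1]
    exact mem_top _
  · intro y hy
    exact H522.FamTw.Six.eq_one_of_comm hφ hqq f y fun b => by
      rw [← hem]
      exact hy _ ⟨b, rfl⟩
  · obtain ⟨t, ht⟩ := exists_movedU (F := F) hn Nat.prime_two hm hmn
    have h1 : ∀ {s : ℕ}, s ∈ [46, 39] → ∃ a ∈ L6 F (r ^ m), emb e6T.inList f a = xc e6T (vec chevE6 6 s) 1 := by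
      intro s hs
      obtain ⟨a, ha⟩ := mem_range6 (q := r ^ m) f hs (t := (1 : F)) (one_pow _)
      exact ⟨_, ⟨a, rfl⟩, by rw [hem, ha, map_one]⟩
    have h2 : f (t ^ r ^ m) - f t = f (t ^ r ^ m - t) := (map_sub f _ _).symm
    refine fin_pair e6T (emb_injective e6T.inList f) pr6 (t := f t) (t' := f (t ^ r ^ m)) (fun h => ht (f.injective h))
      ?_ ⟨_, BpExc.TowChev.emb_xc e6T f _ t⟩ ?_ (h1 (by simp)) (h1 (by simp)) hβ
    · rw [sig6_x (by simp), map_pow]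
    · rw [h2, ← map_inv₀]
      exact ⟨_, BpExc.TowChev.emb_xc e6T f _ _⟩

/-- no field automorphism of odd order centralises `²E₆(q₀)` -/
theorem no_centGF (f : F →+* KK r) {n m m' p' : ℕ} (hn : Nat.card F = r ^ n) (hm : 0 < m) (hmn : m * 2 = n)
    (hpp' : p'.Prime) (hp2' : p' ≠ 2) (hmn' : m' * p' = n) (y : ↥(chevE6.group (KK r))) :
    ¬ ∀ a ∈ L6 F (r ^ m), y * phi chevE6 (KK r) r m' (emb e6T.inList f a) * y⁻¹ = emb e6T.inList f a := by
  intro hall
  have hF : Fintype.card F = (r ^ m) ^ 2 := by rw [← Nat.card_eq_fintype_card, hn, ← hmn, pow_mul]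
  let _ : Algebra (ZMod r) F := ZMod.algebra _ r
  have hf1 : ∀ t : ZMod r, algebraMap (ZMod r) F (t ^ 1) = algebraMap (ZMod r) F t ^ r ^ m := by
    intro t
    rw [pow_one, ← map_pow]
    congr 1
    exact ((forall_pow_iff (F := ZMod r) r (n := 1) (by rw [Nat.card_zmod, pow_one]) m).2 (one_dvd m) t).symm
  have hy : y = 1 := by
    refine eq_one1 (algebraMap (ZMod r) (KK r)) fun b => ?_
    have h1 := hall _ ⟨res6 (algebraMap (ZMod r) F) hf1 b, rfl⟩
    have h2 : f.comp (algebraMap (ZMod r) F) = algebraMap (ZMod r) (KK r) := Subsingleton.elim _ _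
    rw [emb_em6_id, em_res6, h2, phi_em1] at h1
    exact mul_inv_eq_iff_eq_mul.1 h1
  subst hy
  have h1 : m ∣ m' := by
    refine dvd6 hF hm rfl fun t ht => ?_
    obtain ⟨a, ha⟩ := mem_range6 (q := r ^ m) f (s := 46) (by simp) ht
    have h2 := hall _ ⟨a, rfl⟩
    rw [emb_em6_id, ha, one_mul, inv_one, mul_one, H378.TorChar.phi_xc e6T r (by decide : 46 < 72), ← map_pow] at h2
    exact f.injective (xc_inj e6T (by decide : 46 < 72) h2)
  obtain ⟨c, rfl⟩ := h1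
  have h3 : c * p' = 2 := by
    have : m * (c * p') = m * 2 := by rw [hmn, ← hmn']; ring
    exact Nat.eq_of_mul_eq_mul_left hm this
  have h4 : p' ∣ 2 := ⟨c, by rw [← h3]; ring⟩
  exact hp2' ((Nat.prime_dvd_prime_iff_eq hpp' Nat.prime_two).1 h4)

/-- **`E₆(q)`: a cover with a member which is neither inner-diagonal nor of graph type is impossible.** -/
theorem field_e6 (f : F →+* KK r) {n : ℕ} (hn : Nat.card F = r ^ n) (hn0 : 0 < n)
    (hRC : ∀ F₀ : Subfield F, Nat.card ↥F₀ < Nat.card F →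
      IsSimpleGroup ↥⁅L0 e6T F₀, L0 e6T F₀⁆ ∧ ¬ IsMulCommutative ↥⁅L0 e6T F₀, L0 e6T F₀⁆ ∧
        RC ↥⁅L0 e6T F₀, L0 e6T F₀⁆)
    (hRC2 : ∀ q₀ : ℕ, IsPrimePow q₀ → Fintype.card F = q₀ ^ 2 → RC ↥(twistedE6 F q₀))
    {G Ω ι : Type*} [Group G] [MulAction G Ω] [Nonempty Ω] [Finite ι] {N : Subgroup G} (hE : Env G Ω N)
    (e : N ≃* ↥(chevE6.group F)) {x : ι → G} {s : ι → ℕ} (hx : PF x s) (hcov : Cov Ω x) {i₀ : ι}
    (hi₀ : act hE e (x i₀) ∉ InD (emb e6T.inList f)) (hg₀ : ¬ (s i₀ = 2 ∧ IsGr f (act hE e (x i₀)))) : False := by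
  have hr : r.Prime := Fact.out
  have hpr : Pr chevE6 6 (vec chevE6 6 46) (vec chevE6 6 39) := pr6
  have hT : ∀ j, Ty6u f n (s j) (act hE e (x j)) := fun j => ty6u f hn hn0 (hx.prime j) (by
    rw [← map_pow, hx.pow, map_one])
  have hpp := hx.prime i₀
  have hs46 : 46 < chevE6.nroots := by decide +kernel
  -- a prime dividing ...
  have key : ∀ {p p' m m' : ℕ}, p.Prime → p'.Prime → p' ≠ p → 0 < m → m * p = n → m' * p' = n → ¬ m ∣ m' := by
    intro p p' m m' h1 h2 h3 hm h4 h5 h6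
    obtain ⟨c, rfl⟩ := h6
    have h7 : c * p' = p := by
      have : m * (c * p') = m * p := by rw [h4, ← h5]; ring
      exact Nat.eq_of_mul_eq_mul_left hm this
    have h8 : p' ∣ p := ⟨c, by rw [← h7]; ring⟩
    exact h3 ((Nat.prime_dvd_prime_iff_eq h2 h1).1 h8)
  rcases hT i₀ with (h | h) | ⟨m, hm, hmn, hFl⟩ | ⟨hp2, m, hm, hmn, hFl⟩
  · exact hi₀ h
  · exact hg₀ h
  · -- field type
    have : Fact (s i₀).Prime := ⟨hpp⟩
    obtain ⟨F₀, hF₀, hFF⟩ := H192.Fc.exists_subfield (p := s i₀) r hm hmn hn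
    obtain ⟨hLs, hLn, hLRC⟩ := hRC F₀ (by
      rw [hFF]
      have h1 : 1 < Nat.card ↥F₀ := by
        rw [hF₀]; exact Nat.one_lt_pow hm.ne' hr.one_lt
      calc Nat.card ↥F₀ = Nat.card ↥F₀ ^ 1 := (pow_one _).symm
        _ < Nat.card ↥F₀ ^ s i₀ := Nat.pow_lt_pow_right h1 hpp.one_lt)
    refine field_abs (frU e6T f hn center6) (lvU e6T hpr f hn hpp hm hmn center6 F₀ hF₀ hLs hLn hLRC) hE e hx hcov rfl
      hFl fun j hj => ?_
    have hne : s j ≠ s i₀ := fun h => hj (hx.inj h)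
    rcases hT j with (h | ⟨h2, y, hy⟩) | ⟨m', hm', hmn', hFl'⟩ | ⟨hp2', m', hm', hmn', hFl'⟩
    · exact Or.inl h
    · refine Or.inr ⟨sig6 (KK r) r 0, ⟨1, y, Nat.coprime_one_left _, fun a => ?_⟩, no_cent_sig f F₀ 0⟩
      rw [pow_one, hy, sig6_zero]
      rfl
    · exact Or.inr ⟨_, hFl', no_centU e6T f center6 F₀ hF₀ (key hpp (hx.prime j) hne hm hmn hmn') hs46⟩
    · refine Or.inr ⟨_, ?_, no_cent_sig f F₀ m'⟩
      rw [hp2']
      exact hFl'
  · -- graph-field type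
    have hmn' : m * s i₀ = n := by rw [hp2, hmn]
    have hlv := lvGF f hn hm hmn (hRC2 (r ^ m) ((isPrimePow_nat_iff _).2 ⟨r, m, hr, hm, rfl⟩) (by
      rw [← Nat.card_eq_fintype_card, hn, ← hmn, pow_mul]))
    refine field_abs (frU e6T f hn center6) hlv hE e hx hcov hp2 hFl fun j hj => ?_
    have hne : s j ≠ 2 := fun h => hj (hx.inj (h.trans hp2.symm))
    rcases hT j with (h | ⟨h2, -⟩) | ⟨m', hm', hmn', hFl'⟩ | ⟨hp2', -⟩
    · exact Or.inl h
    · exact absurd h2 hne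
    · exact Or.inr ⟨_, hFl', no_centGF f hn hm hmn (hx.prime j) hne hmn'⟩
    · exact absurd hp2' hne

/-- the members of a cover for `E₆(q)` -/
theorem inD_or_gr (f : F →+* KK r) {n : ℕ} (hn : Nat.card F = r ^ n) (hn0 : 0 < n)
    (hRC : ∀ F₀ : Subfield F, Nat.card ↥F₀ < Nat.card F →
      IsSimpleGroup ↥⁅L0 e6T F₀, L0 e6T F₀⁆ ∧ ¬ IsMulCommutative ↥⁅L0 e6T F₀, L0 e6T F₀⁆ ∧
        RC ↥⁅L0 e6T F₀, L0 e6T F₀⁆)
    (hRC2 : ∀ q₀ : ℕ, IsPrimePow q₀ → Fintype.card F = q₀ ^ 2 → RC ↥(twistedE6 F q₀))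
    {G Ω ι : Type*} [Group G] [MulAction G Ω] [Nonempty Ω] [Finite ι] {N : Subgroup G} (hE : Env G Ω N)
    (e : N ≃* ↥(chevE6.group F)) {x : ι → G} {s : ι → ℕ} (hx : PF x s) (hcov : Cov Ω x) (i : ι) :
    act hE e (x i) ∈ InD (emb e6T.inList f) ∨ (s i = 2 ∧ IsGr f (act hE e (x i))) := by
  by_contra hcon
  rw [not_or] at hcon
  exact field_e6 f hn hn0 hRC hRC2 hE e hx hcov hcon.1 hcon.2

end Cfsg.Agent.H327.RG
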