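import Cfsg.Agent.H327.RG.SixA

/-!
# S3509: `²E₆(q)`, involutory automorphisms, covers with a member of field type and a member of graph type

* `IsGrT`, `two_te6` : an automorphism of order 2 is inner-diagonal or of graph type;
* `inD_or_gr_te6` : the members of a cover are inner-diagonal or of order 2 and graph type.
-/

set_option autoImplicit false
set_option linter.unusedSectionVars false

namespace Cfsg.Agent.H327.RG

open CoxeterSystem Subgroup Cfsg Cfsg.Lie Cfsg.Lie.ChevalleyDatum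
open Cfsg.Agent.ChevalleyStructure Cfsg.Agent.ChevalleyStructure.Elts Cfsg.Agent.ChevalleyStructure.CoxeterGeom
  Cfsg.Agent.ChevalleyStructure.CoxeterGeomTypes Cfsg.Agent.ChevalleyStructure.NPerm
open Cfsg.Agent.Nodes.RGDChev Cfsg.Agent.KFacts.RgdChevCoord
open Cfsg.Agent.BpExc.TowChev Cfsg.Agent.BpExc.FamUntw Cfsg.Agent.BpExc.LangFr Cfsg.Agent.BpExc.FamField
  Cfsg.Agent.BpExc.RowsUntw Cfsg.Agent.BpExc.FamInst
open Cfsg.Agent.ChevalleyStructure.GraphSymm (symmE6)
open Cfsg.Agent.ChevalleyStructure.TwE6Basic (hE6 single_mem pair_mem twisted_le_iff exists_frob)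
open Cfsg.Agent.H522.FamTw.Frame (sig6 sig6_pow sig6_sq isFrob_sig6 fr_sig6)
open Cfsg.Agent.BpExc.FamTw.Six (em em_injective coe_em)
open Cfsg.Agent.BpExc.FamTw.Gr
open Cfsg.Agent.GpExc.Field (glMap emb coe_emb glMap_xG emb_injective coe_glMap glMap_injective)
open Cfsg.Agent.CpAut.RgdUntw
open Cfsg.Agent.H469.Exc Cfsg.Agent.H469.Exc.SigFr
open Cfsg.Agent.H28.GenF
open Cfsg.Agent.H46.Gen
open Cfsg.Agent.H106.RC
open scoped commutatorElement

variable {r : ℕ} [Fact r.Prime]

section T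

variable {K : Type} [Field K] [Fintype K] [CharP K r] {q : ℕ}

/-- the graph type -/
def IsGrT (f : K →+* KK r) (α : MulAut ↥(twistedE6 K q)) : Prop :=
  ∃ y : ↥(chevE6.group (KK r)), ∀ a, em q f (α a) = y * gr (L := KK r) e6T.inList symmE6 (em q f a) * y⁻¹

theorem res_prime (K : Type) [Field K] [CharP K r] [Algebra (ZMod r) K] (m : ℕ) (t : ZMod r) :
    algebraMap (ZMod r) K (t ^ 1) = algebraMap (ZMod r) K t ^ r ^ m := by
  rw [pow_one, ← map_pow]
  congr 1
  exact ((forall_pow_iff (F := ZMod r) r (n := 1) (by rw [Nat.card_zmod, pow_one]) m).2 (one_dvd m) t).symm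

/-- the prime group inside `²E₆(q)` -/
theorem prime_mem6 (f : K →+* KK r) (m : ℕ) (b : ↥(twistedE6 (ZMod r) 1)) :
    ∃ a : ↥(twistedE6 K (r ^ m)), em (r ^ m) f a = em 1 (algebraMap (ZMod r) (KK r)) b := by
  let _ : Algebra (ZMod r) K := ZMod.algebra _ r
  refine ⟨res6 (algebraMap (ZMod r) K) (res_prime K m) b, ?_⟩
  have h2 : f.comp (algebraMap (ZMod r) K) = algebraMap (ZMod r) (KK r) := Subsingleton.elim _ _
  rw [em_res6, h2]

/-- **Automorphisms of order 2 of `²E₆(q)`.** -/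
theorem two_te6 (hq : IsPrimePow q) (hK : Fintype.card K = q ^ 2) (f : K →+* KK r) {n : ℕ} (hn : q = r ^ n)
    {α : MulAut ↥(twistedE6 K q)} (hα : α ^ 2 = 1) : α ∈ InD (em q f) ∨ IsGrT f α := by
  obtain ⟨φ, hφ, hqq⟩ := exists_frob hq hK
  have hΦ : ∀ a, frb (KK r) r n (f a) = f (φ a) := by
    intro a
    rw [frb_apply, hφ, map_pow, hn]
  have hW : Finite CoxeterMatrix.F₄.Group := Nodes.RGDFold.finite_W (hp := Nodes.RGDTwE6.hp)
    CoxeterMatrix.F₄.toCoxeterSystem Nodes.RGDTwE6.isCartan Nodes.RGDTwE6.foldData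
  obtain ⟨-, τ, y, -, -, hy⟩ := BpExc.FamTw.Six.exists_lift hφ hqq CoxeterMatrix.F₄.toCoxeterSystem r f hK hq.one_lt
    (fun a => IsAlgClosed.exists_pow_nat_eq (f a) (by norm_num)) hΦ α
  obtain ⟨m, hm⟩ := exists_pow_eq r τ
  have hy' : ∀ a, em q f (α a) = y * phi chevE6 (KK r) r m (em q f a) * y⁻¹ := fun a => by
    rw [hy, H522.FamTw.Six.em_st f r hm]
  -- the square
  have h1 : ∀ a, (y * phi chevE6 (KK r) r m y) * phi chevE6 (KK r) r (m * 2) (em q f a) *
      (y * phi chevE6 (KK r) r m y)⁻¹ = em q f a := by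
    intro a
    have h2 : (α ^ 2) a = a := by rw [hα]; rfl
    rw [pow_two, MulAut.mul_apply] at h2
    have h3 := hy' (α a)
    rw [h2, hy', map_mul, map_mul, map_inv] at h3
    conv_rhs => rw [h3]
    rw [← phi_pow, pow_two, MulAut.mul_apply]
    group
  have h2 : y * phi chevE6 (KK r) r m y = 1 := by
    refine eq_one1 (algebraMap (ZMod r) (KK r)) fun b => ?_
    subst hn
    obtain ⟨a, e⟩ := prime_mem6 f n b
    have h2 := h1 a
    rw [e, phi_em1] at h2
    exact mul_inv_eq_iff_eq_mul.1 h2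
  rw [h2] at h1
  have hdvd : n ∣ m * 2 := by
    by_cases hn0 : n = 0
    · exfalso
      rw [hn, hn0, pow_zero] at hq
      exact hq.ne_one rfl
    refine dvd6 hK (by omega) hn fun t ht => ?_
    obtain ⟨a, ha⟩ := mem_range6 (q := q) f (s := 46) (by simp) ht
    have h3 := h1 a
    rw [ha, one_mul, inv_one, mul_one, H378.TorChar.phi_xc e6T r (by decide : 46 < 72), ← map_pow] at h3
    exact f.injective (xc_inj e6T (by decide : 46 < 72) h3)
  -- `phi n` is the graph automorphism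
  have hgr : ∀ a, phi chevE6 (KK r) r n (em q f a) = gr (L := KK r) e6T.inList symmE6 (em q f a) := by
    intro a
    have h3 := congrArg (gr (L := KK r) e6T.inList symmE6) (H522.FamTw.Six.sig6_em f r hφ hqq hn a)
    rw [← h3]
    exact (H522.FamTw.Six.gr_gr6 _).symm
  have h2n : ∀ c (a : ↥(twistedE6 K q)), phi chevE6 (KK r) r (n * 2 * c) (em q f a) = em q f a := by
    intro c a
    have h3 : phi chevE6 (KK r) r (n * 2) (em q f a) = em q f a := by
      rw [← sig6_sq]
      exact H28.GenF.apply_pow (H522.FamTw.Six.sig6_em f r hφ hqq hn a) 2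
    rw [← phi_pow]
    exact H28.GenF.apply_pow h3 c
  have hcomm : ∀ (i j : ℕ) (z : ↥(chevE6.group (KK r))), phi chevE6 (KK r) r (i + j) z =
      phi chevE6 (KK r) r i (phi chevE6 (KK r) r j z) := by
    intro i j z
    rw [← MulAut.mul_apply, H296.Core.phi_mul]
  -- `2n` divides `2m`
  have hdvd2 : n ∣ m := by
    by_cases hn0 : n = 0
    · exfalso
      rw [hn, hn0, pow_zero] at hq
      exact hq.ne_one rfl
    have h3 : n * 2 ∣ m * 2 := by
      have hK' : Nat.card K = r ^ (n * 2) := by rw [Nat.card_eq_fintype_card, hK, hn, ← pow_mul]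
      rw [← forall_pow_iff (F := K) r hK']
      intro t
      -- the element `x_56(t) x_36(t ^ q)`
      obtain ⟨b, hb⟩ : ∃ b : ↥(twistedE6 K q), b = ⟨xG hE6 56 t * xG hE6 36 (t ^ q), pair_mem t (rs := (56, 36)) (by simp)⟩ :=
        ⟨_, rfl⟩
      have h4 := h1 b
      have h5 : em q f b = xc e6T (vec chevE6 6 56) (f t) * xc e6T (vec chevE6 6 36) (f t ^ q) := by
        apply Subtype.ext
        rw [coe_em, Subgroup.coe_mul, coe_xc e6T (by decide : 56 < 72), coe_xc e6T (by decide : 36 < 72), hb,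
          ← map_pow]
        show glMap chevE6 f (xG hE6 56 t * xG hE6 36 (t ^ q)) = _
        rw [map_mul, glMap_xG, glMap_xG]
      rw [h5, one_mul, inv_one, mul_one, map_mul, H378.TorChar.phi_xc e6T r (by decide : 56 < 72),
        H378.TorChar.phi_xc e6T r (by decide : 36 < 72)] at h4
      have h6 := congrArg Subtype.val h4
      rw [Subgroup.coe_mul, Subgroup.coe_mul, coe_xc e6T (by decide : 56 < 72), coe_xc e6T (by decide : 36 < 72),
        coe_xc e6T (by decide : 56 < 72), coe_xc e6T (by decide : 36 < 72)] at h6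
      have p1 : chevE6.IsPosRoot 56 := by decide +kernel
      have p2 : chevE6.IsPosRoot 36 := by decide +kernel
      have hs : chevE6.simple 0 = 56 := by decide +kernel
      have hw : ∀ (t u : KK r), ∀ x ∈ [(56, t), (36, u)], chevE6.IsPosRoot x.1 := by
        intro t u x hx
        simp only [List.mem_cons, List.not_mem_nil, or_false] at hx
        rcases hx with rfl | rfl
        · exact p1
        · exact p2
      have h7 := H522.FamTw.Cent.co_word (hD := hE6) (F := KK r) (i := 0) (by decide +kernel) _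
        (hw (f t ^ r ^ (m * 2)) ((f t ^ q) ^ r ^ (m * 2)))
      have h8 := H522.FamTw.Cent.co_word (hD := hE6) (F := KK r) (i := 0) (by decide +kernel) _
        (hw (f t) (f t ^ q))
      have e : wordG hE6 [(56, f t ^ r ^ (m * 2)), (36, (f t ^ q) ^ r ^ (m * 2))] =
          wordG hE6 [(56, f t), (36, f t ^ q)] := by
        rw [wordG_cons, wordG_cons, wordG_cons, wordG_cons, wordG_nil, mul_one, mul_one]
        exact h6
      rw [e] at h7
      have h9 := H522.FamTw.Cent.Co.unique (by decide +kernel) h7 h8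
      rw [hs] at h9
      have h10 : f t ^ r ^ (m * 2) = f t := by simpa using h9
      exact f.injective (by rw [map_pow, h10])
    exact Nat.dvd_of_mul_dvd_mul_right (by norm_num) h3
  obtain ⟨c, rfl⟩ := hdvd2
  rcases Nat.even_or_odd' c with ⟨c', rfl | rfl⟩
  · left
    refine ⟨y, fun a => ?_⟩
    rw [hy', ← mul_assoc, h2n]
  · right
    refine ⟨y, fun a => ?_⟩
    rw [hy', show n * (2 * c' + 1) = n + n * 2 * c' by ring, hcomm, h2n, hgr]

/-- graph type does not centralise the level -/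
theorem no_cent_gr6 {q : ℕ} (f : K →+* KK r) {m : ℕ} (hm : 0 < m) {K₀ : Subfield K}
    (hK₀ : Nat.card ↥K₀ = (r ^ m) ^ 2) (hf : ∀ t : ↥K₀, K₀.subtype (t ^ r ^ m) = K₀.subtype t ^ q)
    (y : ↥(chevE6.group (KK r))) :
    ¬ ∀ a ∈ (res6 K₀.subtype hf).range, y * sig6 (KK r) r 0 (em q f a) * y⁻¹ = em q f a := by
  intro hall
  have hchar : CharP ↥K₀ r := (RingHom.charP_iff K₀.subtype K₀.subtype.injective r).2 inferInstance
  have hfin : Fintype ↥K₀ := Fintype.ofFinite _
  have hr : r.Prime := Fact.out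
  have hall' : ∀ b : ↥(twistedE6 ↥K₀ (r ^ m)), y * sig6 (KK r) r 0 (em (r ^ m) (f.comp K₀.subtype) b) * y⁻¹ =
      em (r ^ m) (f.comp K₀.subtype) b := by
    intro b
    have h1 := hall _ ⟨b, rfl⟩
    rwa [em_res6] at h1
  have hy : y = 1 := by
    refine eq_one1 (algebraMap (ZMod r) (KK r)) fun b => ?_
    obtain ⟨a, e⟩ := prime_mem6 (f.comp K₀.subtype) m b
    have h2 := hall' a
    rw [e, sig_em1] at h2
    exact mul_inv_eq_iff_eq_mul.1 h2
  subst hy
  -- a parameter of `K₀` moved by the power `r ^ m`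
  have h0 : ∀ t : ↥K₀, t ^ r ^ m = t := by
    intro t
    obtain ⟨b, hb⟩ : ∃ b : ↥(twistedE6 ↥K₀ (r ^ m)), b =
        ⟨xG hE6 56 t * xG hE6 36 (t ^ r ^ m), pair_mem t (rs := (56, 36)) (by simp)⟩ := ⟨_, rfl⟩
    obtain ⟨g, hg⟩ : ∃ g : ↥K₀ →+* KK r, g = f.comp K₀.subtype := ⟨_, rfl⟩
    have h4 := hall' b
    rw [← hg] at h4
    have h5 : em (r ^ m) g b = xc e6T (vec chevE6 6 56) (g t) * xc e6T (vec chevE6 6 36) (g t ^ r ^ m) := by
      apply Subtype.ext
      rw [coe_em, Subgroup.coe_mul, coe_xc e6T (by decide : 56 < 72), coe_xc e6T (by decide : 36 < 72), hb,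
        ← map_pow]
      show glMap chevE6 g (xG hE6 56 t * xG hE6 36 (t ^ r ^ m)) = _
      rw [map_mul, glMap_xG, glMap_xG]
    have key : (symmE6.σ ⟨36, by decide +kernel⟩).val = 56 ∧ symmE6.ε ⟨36, by decide +kernel⟩ = 1 := by decide +kernel
    have h36 : ∀ u : KK r, sig6 (KK r) r 0 (xc e6T (vec chevE6 6 36) u) = xc e6T (vec chevE6 6 56) u := by
      intro u
      obtain ⟨h1, h2⟩ := key
      rw [sig6_zero]
      have h3 : xc e6T (vec chevE6 6 36) u = xg e6T.inList 36 u :=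
        Subtype.ext (coe_xc e6T (by decide : 36 < 72) _)
      have h4 : xc e6T (vec chevE6 6 56) u = xg e6T.inList 56 u :=
        Subtype.ext (coe_xc e6T (by decide : 56 < 72) _)
      rw [h3, h4, gr_xg e6T.inList symmE6 ⟨36, by decide +kernel⟩, h1, h2, Int.cast_one, one_mul]
    rw [h5, one_mul, inv_one, mul_one, map_mul, sig6_56, h36, pow_zero, pow_one] at h4
    have h6 := congrArg Subtype.val h4
    rw [Subgroup.coe_mul, Subgroup.coe_mul, coe_xc e6T (by decide : 56 < 72), coe_xc e6T (by decide : 36 < 72),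
      coe_xc e6T (by decide : 56 < 72), coe_xc e6T (by decide : 36 < 72)] at h6
    have p1 : chevE6.IsPosRoot 56 := by decide +kernel
    have p2 : chevE6.IsPosRoot 36 := by decide +kernel
    have hs : chevE6.simple 0 = 56 := by decide +kernel
    have h7 := H522.FamTw.Cent.co_word (hD := hE6) (F := KK r) (i := 0) (by decide +kernel)
      [(36, g t), (56, g t ^ r ^ m)] (by
        intro x hx
        simp only [List.mem_cons, List.not_mem_nil, or_false] at hx
        rcases hx with rfl | rfl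
        · exact p2
        · exact p1)
    have h8 := H522.FamTw.Cent.co_word (hD := hE6) (F := KK r) (i := 0) (by decide +kernel)
      [(56, g t), (36, g t ^ r ^ m)] (by
        intro x hx
        simp only [List.mem_cons, List.not_mem_nil, or_false] at hx
        rcases hx with rfl | rfl
        · exact p1
        · exact p2)
    have e : wordG hE6 [(36, g t), (56, g t ^ r ^ m)] = wordG hE6 [(56, g t), (36, g t ^ r ^ m)] := by
      rw [wordG_cons, wordG_cons, wordG_cons, wordG_cons, wordG_nil, mul_one, mul_one]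
      exact h6
    rw [e] at h7
    have h9 := H522.FamTw.Cent.Co.unique (by decide +kernel) h7 h8
    rw [hs] at h9
    have h10 : g t ^ r ^ m = g t := by simpa using h9
    exact g.injective (by rw [map_pow, h10])
  have hK₀' : Nat.card ↥K₀ = r ^ (m * 2) := by rw [hK₀, ← pow_mul]
  have h1 := (forall_pow_iff (F := ↥K₀) r hK₀' m).1 h0
  exact absurd (Nat.le_of_dvd hm h1) (by omega)

/-- **`²E₆(q)`: the members of a cover are inner-diagonal or of order 2 and graph type.** -/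
theorem inD_or_gr_te6' (hq : IsPrimePow q) (hK : Fintype.card K = q ^ 2) (f : K →+* KK r) {n : ℕ} (hn : q = r ^ n)
    (hn0 : 0 < n)
    (hRC : ∀ (K₀ : Subfield K) (q₀ : ℕ), IsPrimePow q₀ → Nat.card ↥K₀ = q₀ ^ 2 → q₀ < q →
      (∀ t : ↥K₀, K₀.subtype (t ^ q₀) = K₀.subtype t ^ q) → RC ↥(twistedE6 ↥K₀ q₀))
    {G Ω ι : Type*} [Group G] [MulAction G Ω] [Nonempty Ω] [Finite ι] {N : Subgroup G} (hE : Env G Ω N)
    (e : N ≃* ↥(twistedE6 K q)) {x : ι → G} {s : ι → ℕ} (hx : PF x s) (hcov : Cov Ω x) (i₀ : ι) :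
    act hE e (x i₀) ∈ InD (em q f) ∨ (s i₀ = 2 ∧ IsGrT f (act hE e (x i₀))) := by
  have hT : ∀ j, Ty6 q f n (s j) (act hE e (x j)) ∨ (s j = 2 ∧ IsGrT f (act hE e (x j))) := by
    intro j
    have h1 : act hE e (x j) ^ s j = 1 := by rw [← map_pow, hx.pow, map_one]
    by_cases h2 : s j = 2
    · rw [h2] at h1
      rcases two_te6 hq hK f hn h1 with h | h
      · exact Or.inl (Or.inl h)
      · exact Or.inr ⟨h2, h⟩
    · exact Or.inl (ty6_of_odd hq hK f hn (hx.prime j) h2 h1)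
  by_contra hcon
  rw [not_or] at hcon
  obtain ⟨hp2, m, hm, hmn, hFl⟩ := ((hT i₀).resolve_right hcon.2).resolve_left hcon.1
  obtain ⟨K₀, hK₀, hf⟩ := exists_sub6 hK hn (hx.prime i₀) hp2 hm hmn
  have hr : r.Prime := Fact.out
  have hlv := lv_te6 hq hK f hn (hx.prime i₀) hp2 hm hmn hK₀ hf (hRC K₀ _
    ((isPrimePow_nat_iff _).2 ⟨r, m, hr, hm, rfl⟩) hK₀ (by
      rw [hn]
      refine Nat.pow_lt_pow_right hr.one_lt ?_
      rw [← hmn]
      calc m = m * 1 := (mul_one m).symm
        _ < m * s i₀ := Nat.mul_lt_mul_of_pos_left (hx.prime i₀).one_lt hm) hf)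
  refine field_abs (fr_te6 hq hK f hn) hlv hE e hx hcov rfl hFl fun j hj => ?_
  rcases hT j with (h | ⟨hp2', m', hm', hmn', hFl'⟩) | ⟨h2, y, hy⟩
  · exact Or.inl h
  · exact Or.inr ⟨_, hFl', no_cent6 f (hx.prime i₀) hp2 (hx.prime j) hp2' (fun h => hj (hx.inj h)) hmn hmn' hn0 hK₀ hf⟩
  · refine Or.inr ⟨sig6 (KK r) r 0, ⟨1, y, Nat.coprime_one_left _, fun a => ?_⟩, no_cent_gr6 f hm hK₀ hf⟩
    rw [pow_one, hy, sig6_zero]
    rfl

/-- **The same, all smaller `q₀`.** -/
theorem inD_or_gr_te6 (hq : IsPrimePow q) (hK : Fintype.card K = q ^ 2) (f : K →+* KK r) {n : ℕ} (hn : q = r ^ n)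
    (hn0 : 0 < n)
    (hRC : ∀ (K₀ : Subfield K) (q₀ : ℕ), IsPrimePow q₀ → Nat.card ↥K₀ = q₀ ^ 2 → q₀ < q → RC ↥(twistedE6 ↥K₀ q₀))
    {G Ω ι : Type*} [Group G] [MulAction G Ω] [Nonempty Ω] [Finite ι] {N : Subgroup G} (hE : Env G Ω N)
    (e : N ≃* ↥(twistedE6 K q)) {x : ι → G} {s : ι → ℕ} (hx : PF x s) (hcov : Cov Ω x) (i₀ : ι) :
    act hE e (x i₀) ∈ InD (em q f) ∨ (s i₀ = 2 ∧ IsGrT f (act hE e (x i₀))) :=
  inD_or_gr_te6' hq hK f hn hn0 (fun K₀ q₀ h1 h2 h3 _ => hRC K₀ q₀ h1 h2 h3) hE e hx hcov i₀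

end T

end Cfsg.Agent.H327.RG
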