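import Cfsg.Agent.H327.RG.GrTwo
import Cfsg.Agent.H327.RG.TwSixG
import Cfsg.Agent.H327.RG.SixU

/-!
# S3509: a member of graph type (order 2), `E₆(q)` and `²E₆(q)`, `q` even

* `graph_e6_two`, `graph_te6_two`.
-/

set_option autoImplicit false
set_option linter.unusedSectionVars false

namespace Cfsg.Agent.H327.RG

open CoxeterSystem Subgroup Cfsg Cfsg.Lie Cfsg.Lie.ChevalleyDatum
open Cfsg.Agent.ChevalleyStructure Cfsg.Agent.ChevalleyStructure.Elts Cfsg.Agent.ChevalleyStructure.CoxeterGeom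
  Cfsg.Agent.ChevalleyStructure.CoxeterGeomTypes Cfsg.Agent.ChevalleyStructure.NPerm
open Cfsg.Agent.Nodes.RGDChev Cfsg.Agent.KFacts.RgdChevCoord
open Cfsg.Agent.BpExc.TowChev Cfsg.Agent.BpExc.FamUntw Cfsg.Agent.BpExc.LangFr Cfsg.Agent.BpExc.FamField
  Cfsg.Agent.BpExc.RowsUntw Cfsg.Agent.BpExc.FamInst
open Cfsg.Agent.ChevalleyStructure.GraphSymm (symmE6)
open Cfsg.Agent.ChevalleyStructure.TwE6Basic (hE6 single_mem pair_mem twisted_le_iff exists_frob)
open Cfsg.Agent.H522.FamTw.Frame (sig6 sig6_pow sig6_sq isFrob_sig6 fr_sig6)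
open Cfsg.Agent.BpExc.FamTw.Six (em em_injective coe_em)
open Cfsg.Agent.BpExc.FamTw.Gr
open Cfsg.Agent.GpExc.Field (glMap emb coe_emb glMap_xG emb_injective coe_glMap glMap_injective)
open Cfsg.Agent.CpAut.RgdUntw
open Cfsg.Agent.H469.Exc Cfsg.Agent.H469.Exc.SigFr
open Cfsg.Agent.H28.GenF
open Cfsg.Agent.H46.Gen
open Cfsg.Agent.H106.RC
open scoped commutatorElement

/-- the graph automorphism commutes with the Frobenius -/
theorem gr_phi {r : ℕ} [Fact r.Prime] (n : ℕ) (y : ↥(chevE6.group (KK r))) :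
    gr (L := KK r) hE6 symmE6 (phi chevE6 (KK r) r n y) = phi chevE6 (KK r) r n (gr (L := KK r) hE6 symmE6 y) :=
  DFunLike.congr_fun (gr_mul_fld (L := KK r) hE6 symmE6 (frb (KK r) r n)) y

/-- **`E₆(q)`, `q` even: a cover with a member of graph type, all the others inner-diagonal, is impossible.** -/
theorem graph_e6_two {F : Type} [Field F] [Fintype F] [CharP F 2] (f : F →+* KK 2) {n : ℕ} (hn : Nat.card F = 2 ^ n)
    (hn0 : 0 < n) (hRC : RC ↥(chevF4.group F))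
    {G Ω κ : Type*} [Group G] [MulAction G Ω] [Nonempty Ω] [Finite κ] {N : Subgroup G} (hE : Env G Ω N)
    (e : N ≃* ↥(chevE6.group F)) {x : κ → G} {q : κ → ℕ} (hx : PF x q) (hcov : Cov Ω x) {i₀ : κ} (h2 : q i₀ = 2)
    (hgr : IsGr f (act hE e (x i₀))) (hIn : ∀ j, j ≠ i₀ → act hE e (x j) ∈ InD (emb e6T.inList f)) : False := by
  refine graph_two (frU e6T f hn center6) (fun y => gr_phi n y) f hn hn0 (fun y _ => rfl)
    (em 1 (RingHom.id F)) (fun b => emb_em6_id f b) hRC ?_ hE e hx hcov h2 hgr hIn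
  refine ⟨1, 0, 1, 0, by rw [add_zero]; exact one_ne_zero, by rw [add_zero]; exact one_ne_zero,
    ⟨xc e6T (vec chevE6 6 48) 1, ?_⟩, ⟨xc e6T (vec chevE6 6 68) 1, ?_⟩⟩
  · rw [BpExc.TowChev.emb_xc e6T, map_one, xc_zero, mul_one]
  · rw [BpExc.TowChev.emb_xc e6T, map_one, xc_zero, mul_one]

/-- elements of `²E₆(q)` for an orbit of two commuting roots -/
theorem pair_mem2 {K : Type} [Field K] [Fintype K] [CharP K 2] {q : ℕ} (hq : IsPrimePow q) (hK : Fintype.card K = q ^ 2)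
    {r s : ℕ} (hr : r < 72) (hs : s < 72) (hρ : H91.E6Fix.rho r = s) (hρ' : H91.E6Fix.rho s = r) (hrs : s ≠ r)
    (hneg : s ≠ chevE6.neg r) (hcom : chevE6.commTerms r s = []) (t : K) :
    xG hE6 r t * xG hE6 s (t ^ q) ∈ twistedE6 K q := by
  obtain ⟨φ, hφ, hqq⟩ := exists_frob hq hK
  have hφφ : ∀ t, φ (φ t) = t := fun t => by rw [hφ, hφ, hqq]
  rw [← H91.E6Fix.group_inf_fix hφ hφφ]
  refine ⟨mul_mem (xG_mem_group hE6 _ _) (xG_mem_group hE6 _ _), ?_⟩
  have key : ∀ {r : ℕ} (hr : r < 72) (t : K), TwE6Basic.sg φ (xG hE6 r t) = xG hE6 (H91.E6Fix.rho r) (φ t) := by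
    intro r hr t
    have h1 := H91.E6Fix.sg_xG φ hr t
    have h2 : ((TwE6Basic.epsE ⟨r, hr⟩ : ℤ) : K) = 1 := by
      rcases H78.E6Gr.eps_pm ⟨r, hr⟩ with h | h
      · rw [h, Int.cast_one]
      · rw [h, Int.cast_neg, Int.cast_one, CharTwo.neg_eq]
    rw [h2, one_mul] at h1
    exact h1
  show TwE6Basic.sg φ (xG hE6 r t * xG hE6 s (t ^ q)) = _
  rw [map_mul, key hr, key hs, hρ, hρ', ← hφ t, hφφ]
  exact TwE6Basic.comm_of_commTerms hr hs hrs hneg hcom t (φ t)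

/-- **`²E₆(q)`, `q` even: a cover with a member of graph type, all the others inner-diagonal, is impossible.** -/
theorem graph_te6_two {K : Type} [Field K] [Fintype K] [CharP K 2] {q : ℕ} (hq : IsPrimePow q)
    (hK : Fintype.card K = q ^ 2) (f : K →+* KK 2) {n : ℕ} (hn : q = 2 ^ n) (hn0 : 0 < n)
    (hRC : ∀ F₁ : Subfield K, Nat.card ↥F₁ = q → RC ↥(chevF4.group ↥F₁))
    {G Ω κ : Type*} [Group G] [MulAction G Ω] [Nonempty Ω] [Finite κ] {N : Subgroup G} (hE : Env G Ω N)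
    (e : N ≃* ↥(twistedE6 K q)) {x : κ → G} {s : κ → ℕ} (hx : PF x s) (hcov : Cov Ω x) {i₀ : κ} (h2 : s i₀ = 2)
    (hgr : IsGrT f (act hE e (x i₀))) (hIn : ∀ j, j ≠ i₀ → act hE e (x j) ∈ InD (em q f)) : False := by
  have hn' : Nat.card K = 2 ^ (n * 2) := by rw [Nat.card_eq_fintype_card, hK, hn, ← pow_mul]
  have : Fact (Nat.Prime 2) := ⟨Nat.prime_two⟩
  obtain ⟨F₁, hF₁, -⟩ := H192.Fc.exists_subfield (p := 2) 2 (F := K) (m := n) (n := n * 2) hn0 rfl hn'
  have hchar : CharP ↥F₁ 2 := (RingHom.charP_iff F₁.subtype F₁.subtype.injective 2).2 inferInstance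
  have hfin : Fintype ↥F₁ := Fintype.ofFinite _
  have hf : ∀ t : ↥F₁, F₁.subtype (t ^ 1) = F₁.subtype t ^ q := by
    intro t
    have h3 := (forall_pow_iff (F := ↥F₁) 2 hF₁ n).2 dvd_rfl t
    rw [pow_one, ← map_pow, hn, h3]
  have hsig : ∀ y, sig6 (KK 2) 2 n y = gr (L := KK 2) hE6 symmE6 (phi chevE6 (KK 2) 2 n y) := fun y => rfl
  -- a parameter
  obtain ⟨t, ht⟩ : ∃ t : K, t ^ q ≠ t := by
    by_contra hcon
    push Not at hcon
    have h3 := (forall_pow_iff (F := K) 2 hn' n).1 (fun t => by rw [← hn]; exact hcon t)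
    exact absurd (Nat.le_of_dvd hn0 h3) (by omega)
  have htt : f t + f t ^ q ≠ 0 := by
    intro h
    apply ht
    have h3 : f (t ^ q) = f t := by
      rw [map_pow]
      have h4 : f t ^ q = f t ^ q + (f t + f t ^ q) := by rw [h, add_zero]
      rw [h4, add_comm (f t) _, ← add_assoc, CharTwo.add_self_eq_zero, zero_add]
    exact f.injective h3
  refine graph_two (fr_te6 hq hK f hn) (fun y => by rw [hsig, hsig, gr_phi]) (f.comp F₁.subtype) hF₁ hn0
    (fun y hy => by rw [hsig, gr_phi, hy]) (res6 F₁.subtype hf) (fun b => em_res6 F₁.subtype hf f b)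
    (hRC F₁ (by rw [hF₁, hn])) ?_ hE e hx hcov h2 hgr hIn
  refine ⟨f t, f t ^ q, f t, f t ^ q, htt, htt,
    ⟨⟨xG hE6 48 t * xG hE6 50 (t ^ q), pair_mem2 hq hK (by decide) (by decide) (by decide +kernel) (by decide +kernel)
      (by decide) (by decide +kernel) (by decide +kernel) t⟩, ?_⟩,
    ⟨⟨xG hE6 68 t * xG hE6 66 (t ^ q), pair_mem2 hq hK (by decide) (by decide) (by decide +kernel) (by decide +kernel)
      (by decide) (by decide +kernel) (by decide +kernel) t⟩, ?_⟩⟩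
  · apply Subtype.ext
    rw [coe_em, Subgroup.coe_mul, coe_xc e6T (by decide : 48 < 72), coe_xc e6T (by decide : 50 < 72), ← map_pow]
    show glMap chevE6 f (xG hE6 48 t * xG hE6 50 (t ^ q)) = _
    rw [map_mul, glMap_xG, glMap_xG]
  · apply Subtype.ext
    rw [coe_em, Subgroup.coe_mul, coe_xc e6T (by decide : 68 < 72), coe_xc e6T (by decide : 66 < 72), ← map_pow]
    show glMap chevE6 f (xG hE6 68 t * xG hE6 66 (t ^ q)) = _
    rw [map_mul, glMap_xG, glMap_xG]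

end Cfsg.Agent.H327.RG
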