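import Cfsg.Agent.H327.RG.F4Fix
import Cfsg.Agent.H327.RG.StdAbs

/-!
# S3509: a member of graph type (order 2) of `E₆(q)`, `²E₆(q)`, characteristic 2

* `std_tw` : standardisation of an automorphism of graph type;
* `exists_z`, `hC71` : the two classes (helper78);
* `lw_gen` : the level `F₄(q)`;
* `graph_two` : a cover with a member of graph type, all the others inner-diagonal, is impossible.
-/

set_option autoImplicit false
set_option linter.unusedSectionVars false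

namespace Cfsg.Agent.H327.RG

open CoxeterSystem Subgroup Cfsg Cfsg.Lie Cfsg.Lie.ChevalleyDatum
open Cfsg.Agent.ChevalleyStructure Cfsg.Agent.ChevalleyStructure.Elts Cfsg.Agent.ChevalleyStructure.CoxeterGeom
  Cfsg.Agent.ChevalleyStructure.CoxeterGeomTypes Cfsg.Agent.ChevalleyStructure.NPerm
open Cfsg.Agent.Nodes.RGDChev Cfsg.Agent.KFacts.RgdChevCoord
open Cfsg.Agent.BpExc.TowChev Cfsg.Agent.BpExc.FamUntw Cfsg.Agent.BpExc.LangFr Cfsg.Agent.BpExc.FamField
  Cfsg.Agent.BpExc.RowsUntw Cfsg.Agent.BpExc.FamInst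
open Cfsg.Agent.ChevalleyStructure.GraphSymm (symmE6)
open Cfsg.Agent.ChevalleyStructure.TwE6Basic (hE6 single_mem pair_mem twisted_le_iff exists_frob)
open Cfsg.Agent.H522.FamTw.Frame (sig6 sig6_pow sig6_sq isFrob_sig6 fr_sig6)
open Cfsg.Agent.BpExc.FamTw.Six (em em_injective coe_em)
open Cfsg.Agent.BpExc.FamTw.Gr
open Cfsg.Agent.GpExc.Field (glMap emb coe_emb glMap_xG emb_injective coe_glMap glMap_injective)
open Cfsg.Agent.CpAut.RgdUntw
open Cfsg.Agent.H469.Exc Cfsg.Agent.H469.Exc.SigFr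
open Cfsg.Agent.H28.GenF
open Cfsg.Agent.H46.Gen
open Cfsg.Agent.H106.RC
open scoped commutatorElement

section abs

variable {Y K₀ : Type*} [Group Y] [Group K₀] {ι : K₀ →* Y} {σ γ : MulAut Y}

theorem Fr.exists_conj (h : Fr ι σ) {g : Y} (hg : σ g = g) :
    ∃ δ : MulAut K₀, δ ∈ InD ι ∧ ∀ a, ι (δ a) = g * ι a * g⁻¹ := by
  have hg' : σ g⁻¹ = g⁻¹ := by rw [map_inv, hg]
  choose b hb using h.norm g hg
  choose b' hb' using h.norm g⁻¹ hg'
  let δ : MulAut K₀ :=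
    { toFun := b
      invFun := b'
      left_inv := fun a => h.inj (by rw [hb', hb]; group)
      right_inv := fun a => h.inj (by rw [hb, hb']; group)
      map_mul' := fun a a' => h.inj (by rw [hb, map_mul, map_mul, hb, hb]; group) }
  have hδ : ∀ a, ι (δ a) = g * ι a * g⁻¹ := hb
  exact ⟨δ, ⟨g, hδ⟩, hδ⟩

/-- the element inducing an automorphism of graph type is fixed by `σ` -/
theorem Fr.fix_of (h : Fr ι σ) (hγσ : ∀ y, γ (σ y) = σ (γ y)) {x : MulAut K₀} {y : Y}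
    (hx : ∀ a, ι (x a) = y * γ (ι a) * y⁻¹) : σ y = y := by
  obtain ⟨c, hc⟩ : ∃ c, c = y⁻¹ * σ y := ⟨_, rfl⟩
  have h1 : γ⁻¹ c = 1 := by
    refine h.cent _ fun a => ?_
    apply γ.injective
    rw [map_mul, map_mul, MulAut.apply_inv_self, hc]
    have h2 := congrArg σ (hx a)
    rw [h.fixι, map_mul, map_mul, map_inv, ← hγσ, h.fixι, hx] at h2
    calc y⁻¹ * σ y * γ (ι a) = y⁻¹ * (σ y * γ (ι a) * (σ y)⁻¹) * σ y := by group
      _ = y⁻¹ * (y * γ (ι a) * y⁻¹) * σ y := by rw [← h2]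
      _ = γ (ι a) * (y⁻¹ * σ y) := by group
  have h2 := congrArg γ h1
  rw [MulAut.apply_inv_self, map_one, hc] at h2
  exact (inv_mul_eq_one.1 h2).symm

/-- **Standardisation.** -/
theorem std_tw (h : Fr ι σ) (hγσ : ∀ y, γ (σ y) = σ (γ y)) (hlang : ∀ w, γ w = w → ∃ f, γ f = f ∧ w = f⁻¹ * σ f)
    {t : Y} (ht : γ t = t) (hC : ∀ w, w * t = t * γ w → γ w = w) {x : MulAut K₀} {y z : Y}
    (hx : ∀ a, ι (x a) = y * γ (ι a) * y⁻¹) (hz : z * y * (γ z)⁻¹ = t) (htσ : σ t = t) :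
    ∃ (t' : Y) (δ : MulAut K₀), δ ∈ InD ι ∧ γ t' = t' ∧ (t' = 1 ↔ t = 1) ∧ (∀ w, w * t' = t' * γ w → γ w = w) ∧
      ∀ a, ι ((δ * x * δ⁻¹) a) = t' * γ (ι a) * t'⁻¹ := by
  have hσy : σ y = y := h.fix_of hγσ hx
  have hy : y = z⁻¹ * t * γ z := by rw [← hz]; group
  -- the element `w`
  obtain ⟨w, hw⟩ : ∃ w, w = z * (σ z)⁻¹ := ⟨_, rfl⟩
  have hwt : w * t = t * γ w := by
    have h1 : (σ z)⁻¹ * t * γ (σ z) = z⁻¹ * t * γ z := by
      rw [← hy]
      conv_rhs => rw [← hσy, hy]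
      rw [map_mul, map_mul, map_inv, htσ, hγσ]
    rw [hw, map_mul, map_inv]
    calc z * (σ z)⁻¹ * t = z * ((σ z)⁻¹ * t * γ (σ z)) * (γ (σ z))⁻¹ := by group
      _ = z * (z⁻¹ * t * γ z) * (γ (σ z))⁻¹ := by rw [h1]
      _ = t * (γ z * (γ (σ z))⁻¹) := by group
  have hγw : γ w = w := hC w hwt
  obtain ⟨f, hf, e⟩ := hlang w hγw
  have hσz : σ (f * z) = f * z := by
    rw [map_mul]
    have h1 : σ z = w⁻¹ * z := by rw [hw]; group
    have h2 : σ f = f * w := by rw [e]; group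
    rw [h1, h2]; group
  obtain ⟨δ, hδ, hδ'⟩ := h.exists_conj hσz
  refine ⟨f * t * f⁻¹, δ, hδ, ?_, ?_, ?_, fun a => ?_⟩
  · rw [map_mul, map_mul, map_inv, hf, ht]
  · constructor
    · intro h1
      have h2 : t = f⁻¹ * (f * t * f⁻¹) * f := by group
      rw [h2, h1]; group
    · rintro rfl; group
  · intro v hv
    have h1 : (f⁻¹ * v * f) * t = t * γ (f⁻¹ * v * f) := by
      rw [map_mul, map_mul, map_inv, hf]
      calc f⁻¹ * v * f * t = f⁻¹ * (v * (f * t * f⁻¹)) * f := by group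
        _ = f⁻¹ * (f * t * f⁻¹ * γ v) * f := by rw [hv]
        _ = t * (f⁻¹ * γ v * f) := by group
    have h2 := hC _ h1
    rw [map_mul, map_mul, map_inv, hf] at h2
    calc γ v = f * (f⁻¹ * γ v * f) * f⁻¹ := by group
      _ = v := by rw [h2]; group
  · have h1 : ι (δ⁻¹ a) = (f * z)⁻¹ * ι a * (f * z) := by
      have h2 := hδ' (δ⁻¹ a)
      rw [MulAut.apply_inv_self] at h2
      rw [h2]; group
    rw [MulAut.mul_apply, MulAut.mul_apply, hδ', hx, h1, map_mul, map_mul, map_inv, map_mul, hf, hy]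
    group

end abs

section two

/-- the highest root element -/
noncomputable def T71 : ↥(chevE6.group (KK 2)) := xc e6T (vec chevE6 6 71) 1

theorem xc_sq {k : Type} [Field k] [CharP k 2] (v : Fin 6 → ℤ) (t : k) : xc e6T v t * xc e6T v t = 1 := by
  rw [← xc_add, CharTwo.add_self_eq_zero, xc_zero]

theorem xc_inv2 {k : Type} [Field k] [CharP k 2] (v : Fin 6 → ℤ) (t : k) : (xc e6T v t)⁻¹ = xc e6T v t :=
  inv_eq_of_mul_eq_one_left (xc_sq v t)

/-- the graph automorphism on root elements -/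
theorem gr_xc2 {k : Type} [Field k] [CharP k 2] {s s' : ℕ} (hs : s < 72) (hs' : s' < 72)
    (h : H91.E6Fix.rho s = s') (t : k) :
    gr (L := k) hE6 symmE6 (xc e6T (vec chevE6 6 s) t) = xc e6T (vec chevE6 6 s') t := by
  apply Subtype.ext
  rw [coe_gr_sg, coe_xc e6T hs, coe_xc e6T hs', ← h]
  exact H78.E6Gr.gam_x hs t

theorem gr_T71 : gr (L := KK 2) hE6 symmE6 T71 = T71 :=
  gr_xc2 (by decide) (by decide) (by decide +kernel) 1

theorem phi_T71 (n : ℕ) : phi chevE6 (KK 2) 2 n T71 = T71 := by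
  unfold T71
  rw [H378.TorChar.phi_xc e6T 2 (by decide : 71 < 72), one_pow]

/-- **`C_Y(x_71(1) γ) ≤ C_Y(γ)`.** -/
theorem hC71 {w : ↥(chevE6.group (KK 2))} (h : w * T71 = T71 * gr (L := KK 2) hE6 symmE6 w) :
    gr (L := KK 2) hE6 symmE6 w = w := by
  obtain ⟨E, hE⟩ := exists_level e6T (locFin 2) w
  obtain ⟨a, rfl⟩ := hE E le_rfl
  have hfin : Fintype ↥E.1 := Fintype.ofFinite _
  have hchar : CharP ↥E.1 2 := charP_lev 2 E.1
  obtain ⟨T, hT⟩ : ∃ T : ↥(chevE6.group ↥E.1), T = xc e6T (vec chevE6 6 71) 1 := ⟨_, rfl⟩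
  have hTT : T71 = emb e6T.inList E.1.subtype T := by
    rw [hT, BpExc.TowChev.emb_xc e6T, map_one]
    rfl
  have hgr : ∀ a : ↥(chevE6.group ↥E.1), gr (L := KK 2) hE6 symmE6 (emb e6T.inList E.1.subtype a) =
      emb e6T.inList E.1.subtype (gr (L := ↥E.1) hE6 symmE6 a) := by
    intro a
    apply Subtype.ext
    rw [coe_emb, coe_gr, coe_gr, map_mul, map_mul, map_inv, glMap_P, coe_emb]
  rw [hgr]
  refine congrArg _ ?_
  have h1 : a * T = T * gr (L := ↥E.1) hE6 symmE6 a := by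
    apply emb_injective e6T.inList E.1.subtype
    rw [map_mul, map_mul, ← hTT, ← hgr, h]
  have hTi : T⁻¹ = T := by rw [hT]; exact xc_inv2 _ _
  have h2 : T * gr (L := ↥E.1) hE6 symmE6 a * T = a := by
    rw [← h1, mul_assoc]
    have h3 : T * T = 1 := by
      conv_lhs => rw [← hTi]
      rw [hTi]
      calc T * T = T⁻¹ * T := by rw [hTi]
        _ = 1 := inv_mul_cancel T
    rw [h3, mul_one]
  have h3 : T * a = a * T := by
    have h4 := H78.E6Cent.comm_of_fixed (K := ↥E.1) a.2 (by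
      have h5 := congrArg Subtype.val h2
      rw [Subgroup.coe_mul, Subgroup.coe_mul, coe_gr_sg, hT, coe_xc e6T (by decide : 71 < 72)] at h5
      exact h5)
    apply Subtype.ext
    rw [Subgroup.coe_mul, Subgroup.coe_mul, hT, coe_xc e6T (by decide : 71 < 72)]
    exact h4
  rw [← h3] at h1
  exact (mul_left_cancel h1).symm

/-- **The two classes.** -/
theorem exists_z {y : ↥(chevE6.group (KK 2))} (hy : y * gr (L := KK 2) hE6 symmE6 y = 1) :
    ∃ z : ↥(chevE6.group (KK 2)), z * y * (gr (L := KK 2) hE6 symmE6 z)⁻¹ = 1 ∨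
      z * y * (gr (L := KK 2) hE6 symmE6 z)⁻¹ = T71 := by
  obtain ⟨E, hE⟩ := exists_level e6T (locFin 2) y
  obtain ⟨a, rfl⟩ := hE E le_rfl
  have hfin : Fintype ↥E.1 := Fintype.ofFinite _
  have hchar : CharP ↥E.1 2 := charP_lev 2 E.1
  have hgr : ∀ a : ↥(chevE6.group ↥E.1), gr (L := KK 2) hE6 symmE6 (emb e6T.inList E.1.subtype a) =
      emb e6T.inList E.1.subtype (gr (L := ↥E.1) hE6 symmE6 a) := by
    intro a
    apply Subtype.ext
    rw [coe_emb, coe_gr, coe_gr, map_mul, map_mul, map_inv, glMap_P, coe_emb]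
  have h1 : a * gr (L := ↥E.1) hE6 symmE6 a = 1 := by
    apply emb_injective e6T.inList E.1.subtype
    rw [map_mul, ← hgr, hy, map_one]
  obtain ⟨z, hz, h⟩ := H78.E6Gr.exists_one (K := ↥E.1) a.2 (by
    have h5 := congrArg Subtype.val h1
    rw [Subgroup.coe_mul, coe_gr_sg] at h5
    exact h5)
  refine ⟨emb e6T.inList E.1.subtype ⟨z, hz⟩, ?_⟩
  rw [hgr, ← map_inv, ← map_mul, ← map_mul]
  rcases h with h | h
  · left
    have h2 : (⟨z, hz⟩ * a * (gr (L := ↥E.1) hE6 symmE6 ⟨z, hz⟩)⁻¹ : ↥(chevE6.group ↥E.1)) = 1 := by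
      apply Subtype.ext
      rw [Subgroup.coe_mul, Subgroup.coe_mul, Subgroup.coe_inv, coe_gr_sg]
      exact h
    rw [h2, map_one]
  · right
    have h2 : (⟨z, hz⟩ * a * (gr (L := ↥E.1) hE6 symmE6 ⟨z, hz⟩)⁻¹ : ↥(chevE6.group ↥E.1)) =
        xc e6T (vec chevE6 6 71) 1 := by
      apply Subtype.ext
      rw [Subgroup.coe_mul, Subgroup.coe_mul, Subgroup.coe_inv, coe_gr_sg, coe_xc e6T (by decide : 71 < 72)]
      exact h
    rw [h2, BpExc.TowChev.emb_xc e6T, map_one]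
    rfl

/-! ### the level `F₄(q)` -/

section level

variable {K₀ : Type} [Group K₀] {ι : K₀ →* ↥(chevE6.group (KK 2))} (hι : Function.Injective ι)
  {F : Type} [Field F] [Fintype F] [CharP F 2] (f : F →+* KK 2) {n : ℕ} (hn : Nat.card F = 2 ^ n)
  (hfix : ∀ a, gr (L := KK 2) hE6 symmE6 (ι a) = ι a → phi chevE6 (KK 2) 2 n (ι a) = ι a)
  (j : ↥(twistedE6 F 1) →* K₀) (hj : ∀ b, ι (j b) = em 1 f b)

include hι hn hfix hj in
theorem mem_lev {a : K₀} (ha : gr (L := KK 2) hE6 symmE6 (ι a) = ι a) : a ∈ j.range := by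
  obtain ⟨b, hb⟩ := fix_F4 f hn ha (hfix a ha)
  exact ⟨b, hι (by rw [hj, hb])⟩

theorem equiv_lev (hj : ∀ b, ι (j b) = em 1 f b) :
    Nonempty (↥(chevF4.group F) ≃* ↥j.range) := by
  have hji : Function.Injective j := fun a b h => em_injective (q := 1) f (by rw [← hj, ← hj, h])
  obtain ⟨e⟩ := H91.E6F4Iso.exists_equiv (K := F)
  exact ⟨e.symm.trans (MonoidHom.ofInjective hji)⟩

include hι hn hfix hj in
/-- **The level.** -/
theorem lw_gen (hRC : RC ↥(chevF4.group F)) : Lw ι (gr (L := KK 2) hE6 symmE6) j.range ∧ ⁅j.range, j.range⁆ = j.range := by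
  obtain ⟨e⟩ := equiv_lev f j hj
  obtain ⟨hs0, hs0'⟩ := Cfsg.Agent.S1054.result (F := F) chevF4 (by simp)
  have hs1 : IsSimpleGroup ↥j.range := isSimple_cgr0 e hs0
  have hs2 : ¬ IsMulCommutative ↥j.range := fun hc => hs0' ⟨⟨fun a b => by
    apply e.injective
    rw [map_mul, map_mul]
    exact hc.is_comm.comm _ _⟩⟩
  have hder : ⁅j.range, j.range⁆ = j.range := perfect_of_simple hs1 hs2
  refine ⟨?_, hder⟩
  refine
    { fixL := ?_
      charL := ?_
      centL := ?_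
      simple := by rw [hder]; exact hs1
      ncomm := by rw [hder]; exact hs2
      rc := by rw [hder]; exact hRC.congr e }
  · rintro _ ⟨b, rfl⟩
    rw [hj, gr_em1]
  · rintro α hα _ ⟨b, rfl⟩
    refine mem_lev hι f hn hfix j hj (hα _ ?_)
    rw [hj, gr_em1]
  · intro y hy
    exact eq_one1 f fun b => by
      rw [← hj]
      exact hy _ ⟨b, rfl⟩

/-- commuting root elements, decided -/
theorem comm_xc {k : Type} [Field k] {r s : ℕ} (hr : r < 72) (hs : s < 72) (hrs : s ≠ r) (hneg : s ≠ chevE6.neg r)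
    (h : chevE6.commTerms r s = []) (t u : k) :
    xc e6T (vec chevE6 6 s) u * xc e6T (vec chevE6 6 r) t = xc e6T (vec chevE6 6 r) t * xc e6T (vec chevE6 6 s) u := by
  apply Subtype.ext
  rw [Subgroup.coe_mul, Subgroup.coe_mul, coe_xc e6T hr, coe_xc e6T hs]
  exact TwE6Basic.comm_of_commTerms hr hs hrs hneg h t u

theorem pr4868 : Pr chevE6 6 (vec chevE6 6 48) (vec chevE6 6 68) where
  ra := ⟨48, by decide +kernel, rfl⟩
  rb := ⟨68, by decide +kernel, rfl⟩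
  rs := by unfold Rt; decide +kernel
  nd := by unfold Rt; decide +kernel
  n1 := by unfold Rt; decide +kernel
  n2 := by unfold Rt; decide +kernel

theorem pr5066 : Pr chevE6 6 (vec chevE6 6 50) (vec chevE6 6 66) where
  ra := ⟨50, by decide +kernel, rfl⟩
  rb := ⟨66, by decide +kernel, rfl⟩
  rs := by unfold Rt; decide +kernel
  nd := by unfold Rt; decide +kernel
  n1 := by unfold Rt; decide +kernel
  n2 := by unfold Rt; decide +kernel

theorem sum4868 : vec chevE6 6 48 + vec chevE6 6 68 = vec chevE6 6 71 := by decide +kernel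
theorem sum5066 : vec chevE6 6 50 + vec chevE6 6 66 = vec chevE6 6 71 := by decide +kernel

theorem NN_one {k : Type} [Field k] [CharP k 2] {a₀ b₀ : Fin 6 → ℤ} (hP : Pr chevE6 6 a₀ b₀) :
    (NN chevE6 6 a₀ b₀ : k) = 1 := by
  have h1 := congrArg (Int.cast : ℤ → k) (NN_sq e6T hP)
  rw [Int.cast_mul, Int.cast_one] at h1
  rcases mul_self_eq_one_iff.1 h1 with h | h
  · exact h
  · rw [h, CharTwo.neg_eq]

include hι hn hfix hj in
/-- the end -/
theorem fin_gr (hder : ⁅j.range, j.range⁆ = j.range) {s s' v v' : KK 2} (h1 : s + s' ≠ 0) (h2 : v + v' ≠ 0)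
    (ha : ∃ a, ι a = xc e6T (vec chevE6 6 48) s * xc e6T (vec chevE6 6 50) s')
    (hb : ∃ b, ι b = xc e6T (vec chevE6 6 68) v * xc e6T (vec chevE6 6 66) v')
    {β : MulAut K₀} (hβ : ∀ a, ι (β a) = gr (L := KK 2) hE6 symmE6 (ι a)) :
    ∃ u ∈ ⁅j.range, j.range⁆, u ≠ 1 ∧ ∃ a b : K₀, a * u = u * a ∧ b * u = u * b ∧ ⁅β a * a⁻¹, b⁆ = u := by
  obtain ⟨a, ha⟩ := ha
  obtain ⟨b, hb⟩ := hb
  -- commutation
  have c4850 := fun t u : KK 2 => comm_xc (k := KK 2) (r := 48) (s := 50) (by decide) (by decide) (by decide)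
    (by decide +kernel) (by decide +kernel) t u
  have c4866 := fun t u : KK 2 => comm_xc (k := KK 2) (r := 48) (s := 66) (by decide) (by decide) (by decide)
    (by decide +kernel) (by decide +kernel) t u
  have c5068 := fun t u : KK 2 => comm_xc (k := KK 2) (r := 50) (s := 68) (by decide) (by decide) (by decide)
    (by decide +kernel) (by decide +kernel) t u
  have c7148 := fun t u : KK 2 => comm_xc (k := KK 2) (r := 71) (s := 48) (by decide) (by decide) (by decide)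
    (by decide +kernel) (by decide +kernel) t u
  have c7150 := fun t u : KK 2 => comm_xc (k := KK 2) (r := 71) (s := 50) (by decide) (by decide) (by decide)
    (by decide +kernel) (by decide +kernel) t u
  have c7166 := fun t u : KK 2 => comm_xc (k := KK 2) (r := 71) (s := 66) (by decide) (by decide) (by decide)
    (by decide +kernel) (by decide +kernel) t u
  have c7168 := fun t u : KK 2 => comm_xc (k := KK 2) (r := 71) (s := 68) (by decide) (by decide) (by decide)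
    (by decide +kernel) (by decide +kernel) t u
  -- the commutators
  obtain ⟨w, hw⟩ : ∃ w, w = s + s' := ⟨_, rfl⟩
  have e1 : ι (β a * a⁻¹) = xc e6T (vec chevE6 6 48) w * xc e6T (vec chevE6 6 50) w := by
    rw [map_mul, map_inv, hβ, ha, map_mul, gr_xc2 (s := 48) (s' := 50) (by decide) (by decide) (by decide +kernel),
      gr_xc2 (s := 50) (s' := 48) (by decide) (by decide) (by decide +kernel), mul_inv_rev, xc_inv2, xc_inv2, hw,
      xc_add, xc_add]
    have h3 := c4850 s' s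
    have h4 := c4850 s s'
    have h5 := c4850 s s
    calc xc e6T (vec chevE6 6 50) s * xc e6T (vec chevE6 6 48) s' *
          (xc e6T (vec chevE6 6 50) s' * xc e6T (vec chevE6 6 48) s)
        = (xc e6T (vec chevE6 6 50) s * xc e6T (vec chevE6 6 48) s') *
          (xc e6T (vec chevE6 6 48) s * xc e6T (vec chevE6 6 50) s') := by rw [h4]
      _ = (xc e6T (vec chevE6 6 48) s' * xc e6T (vec chevE6 6 50) s) *
          (xc e6T (vec chevE6 6 48) s * xc e6T (vec chevE6 6 50) s') := by rw [h3]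
      _ = xc e6T (vec chevE6 6 48) s' * (xc e6T (vec chevE6 6 50) s * xc e6T (vec chevE6 6 48) s) *
          xc e6T (vec chevE6 6 50) s' := by group
      _ = xc e6T (vec chevE6 6 48) s' * (xc e6T (vec chevE6 6 48) s * xc e6T (vec chevE6 6 50) s) *
          xc e6T (vec chevE6 6 50) s' := by rw [h5]
      _ = (xc e6T (vec chevE6 6 48) s' * xc e6T (vec chevE6 6 48) s) *
          (xc e6T (vec chevE6 6 50) s * xc e6T (vec chevE6 6 50) s') := by group
      _ = _ := by rw [← xc_add, ← xc_add, ← xc_add, add_comm s' s]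
  have b1 : ⁅xc e6T (vec chevE6 6 48) w, xc e6T (vec chevE6 6 68) v⁆ = xc e6T (vec chevE6 6 71) (w * v) := by
    rw [xc_br e6T pr4868, NN_one pr4868, one_mul, sum4868]
  have b2 : ⁅xc e6T (vec chevE6 6 50) w, xc e6T (vec chevE6 6 66) v'⁆ = xc e6T (vec chevE6 6 71) (w * v') := by
    rw [xc_br e6T pr5066, NN_one pr5066, one_mul, sum5066]
  have e2 : ι ⁅β a * a⁻¹, b⁆ = xc e6T (vec chevE6 6 71) (w * (v + v')) := by
    rw [map_commutatorElement, e1, hb, mul_add, xc_add, ← b1, ← b2]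
    obtain ⟨P, hP⟩ : ∃ P, P = xc e6T (vec chevE6 6 48) w := ⟨_, rfl⟩
    obtain ⟨Q, hQ⟩ : ∃ Q, Q = xc e6T (vec chevE6 6 50) w := ⟨_, rfl⟩
    obtain ⟨R, hR⟩ : ∃ R, R = xc e6T (vec chevE6 6 68) v := ⟨_, rfl⟩
    obtain ⟨S, hS⟩ : ∃ S, S = xc e6T (vec chevE6 6 66) v' := ⟨_, rfl⟩
    have q1 : Q * R = R * Q := by rw [hQ, hR]; exact (c5068 w v).symm
    have q2 : P * S = S * P := by rw [hP, hS]; exact (c4866 w v').symm
    have q3 : ⁅Q, S⁆ * P = P * ⁅Q, S⁆ := by rw [hQ, hS, b2, hP]; exact (c7148 _ _).symm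
    have q4 : ⁅Q, S⁆ * R = R * ⁅Q, S⁆ := by rw [hQ, hS, b2, hR]; exact (c7168 _ _).symm
    rw [← hP, ← hQ, ← hR, ← hS]
    have q5 : Q * S * Q⁻¹ = ⁅Q, S⁆ * S := by rw [commutatorElement_def]; group
    have q6 : ⁅P, R⁆ * ⁅Q, S⁆ = ⁅Q, S⁆ * ⁅P, R⁆ := by
      rw [hP, hR, b1, hQ, hS, b2, ← xc_add, ← xc_add, add_comm]
    calc ⁅P * Q, R * S⁆ = P * (Q * R) * S * Q⁻¹ * P⁻¹ * S⁻¹ * R⁻¹ := by rw [commutatorElement_def]; group
      _ = P * R * (Q * S * Q⁻¹) * P⁻¹ * S⁻¹ * R⁻¹ := by rw [q1]; group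
      _ = P * (R * ⁅Q, S⁆) * S * P⁻¹ * S⁻¹ * R⁻¹ := by rw [q5]; group
      _ = (P * ⁅Q, S⁆) * R * S * P⁻¹ * S⁻¹ * R⁻¹ := by rw [← q4]; group
      _ = ⁅Q, S⁆ * P * R * (S * P⁻¹) * S⁻¹ * R⁻¹ := by rw [← q3]; group
      _ = ⁅Q, S⁆ * P * R * (P⁻¹ * (P * S) * P⁻¹) * S⁻¹ * R⁻¹ := by group
      _ = ⁅Q, S⁆ * P * R * (P⁻¹ * (S * P) * P⁻¹) * S⁻¹ * R⁻¹ := by rw [q2]
      _ = ⁅Q, S⁆ * ⁅P, R⁆ := by rw [commutatorElement_def P R]; group
      _ = ⁅P, R⁆ * ⁅Q, S⁆ := q6.symm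
  refine ⟨⁅β a * a⁻¹, b⁆, ?_, ?_, a, b, ?_, ?_, rfl⟩
  · rw [hder]
    refine mem_lev hι f hn hfix j hj ?_
    rw [e2, gr_xc2 (s := 71) (s' := 71) (by decide) (by decide) (by decide +kernel)]
  · intro h
    rw [h, map_one] at e2
    refine xc_ne_one e6T ⟨71, by decide +kernel, rfl⟩ (mul_ne_zero ?_ h2) e2.symm
    rw [hw]; exact h1
  · apply hι
    rw [map_mul, map_mul, e2, ha]
    have h3 := c7148 (w * (v + v')) s
    have h4 := c7150 (w * (v + v')) s'
    calc xc e6T (vec chevE6 6 48) s * xc e6T (vec chevE6 6 50) s' * xc e6T (vec chevE6 6 71) (w * (v + v'))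
        = xc e6T (vec chevE6 6 48) s * (xc e6T (vec chevE6 6 50) s' * xc e6T (vec chevE6 6 71) (w * (v + v'))) := by group
      _ = (xc e6T (vec chevE6 6 48) s * xc e6T (vec chevE6 6 71) (w * (v + v'))) * xc e6T (vec chevE6 6 50) s' := by
          rw [h4]; group
      _ = _ := by rw [h3]; group
  · apply hι
    rw [map_mul, map_mul, e2, hb]
    have h3 := c7168 (w * (v + v')) v
    have h4 := c7166 (w * (v + v')) v'
    calc xc e6T (vec chevE6 6 68) v * xc e6T (vec chevE6 6 66) v' * xc e6T (vec chevE6 6 71) (w * (v + v'))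
        = xc e6T (vec chevE6 6 68) v * (xc e6T (vec chevE6 6 66) v' * xc e6T (vec chevE6 6 71) (w * (v + v'))) := by group
      _ = (xc e6T (vec chevE6 6 68) v * xc e6T (vec chevE6 6 71) (w * (v + v'))) * xc e6T (vec chevE6 6 66) v' := by
          rw [h4]; group
      _ = _ := by rw [h3]; group

end level

/-- **A member of graph type, characteristic 2.** -/
theorem graph_two {K₀ : Type} [Group K₀] {ι : K₀ →* ↥(chevE6.group (KK 2))} {σ : MulAut ↥(chevE6.group (KK 2))}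
    (hFr : Fr ι σ) (hγσ : ∀ y, gr (L := KK 2) hE6 symmE6 (σ y) = σ (gr (L := KK 2) hE6 symmE6 y))
    {F : Type} [Field F] [Fintype F] [CharP F 2] (f : F →+* KK 2) {n : ℕ} (hn : Nat.card F = 2 ^ n) (hn0 : 0 < n)
    (hσ : ∀ y, gr (L := KK 2) hE6 symmE6 y = y → σ y = phi chevE6 (KK 2) 2 n y)
    (j : ↥(twistedE6 F 1) →* K₀) (hj : ∀ b, ι (j b) = em 1 f b) (hRC : RC ↥(chevF4.group F))
    (hab : ∃ s s' v v' : KK 2, s + s' ≠ 0 ∧ v + v' ≠ 0 ∧
      (∃ a, ι a = xc e6T (vec chevE6 6 48) s * xc e6T (vec chevE6 6 50) s') ∧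
      ∃ b, ι b = xc e6T (vec chevE6 6 68) v * xc e6T (vec chevE6 6 66) v')
    {G Ω κ : Type*} [Group G] [MulAction G Ω] [Nonempty Ω] [Finite κ] {N : Subgroup G} (hE : Env G Ω N)
    (e : N ≃* K₀) {x : κ → G} {q : κ → ℕ} (hx : PF x q) (hcov : Cov Ω x) {i₀ : κ} (h2 : q i₀ = 2)
    (hgr : ∃ y, ∀ a, ι (act hE e (x i₀) a) = y * gr (L := KK 2) hE6 symmE6 (ι a) * y⁻¹)
    (hIn : ∀ j, j ≠ i₀ → act hE e (x j) ∈ InD ι) : False := by
  obtain ⟨y, hy⟩ := hgr
  have hfix : ∀ a, gr (L := KK 2) hE6 symmE6 (ι a) = ι a → phi chevE6 (KK 2) 2 n (ι a) = ι a := fun a ha => by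
    rw [← hσ _ ha, hFr.fixι]
  obtain ⟨hLw, hder⟩ := lw_gen hFr.inj f hn hfix j hj hRC
  -- `y * γ y = 1`
  have hyy : y * gr (L := KK 2) hE6 symmE6 y = 1 := by
    refine hFr.cent _ fun a => ?_
    have h1 : act hE e (x i₀) (act hE e (x i₀) a) = a := by
      have h3 : act hE e (x i₀) ^ 2 = 1 := by
        rw [← map_pow, ← h2, hx.pow, map_one]
      rw [← MulAut.mul_apply, ← pow_two, h3]
      rfl
    have h3 := hy (act hE e (x i₀) a)
    rw [h1, hy, map_mul, map_mul, map_inv, H522.FamTw.Six.gr_gr6] at h3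
    conv_rhs => rw [h3]
    group
  obtain ⟨z, hz⟩ := exists_z hyy
  have hσT : σ T71 = T71 := by rw [hσ _ gr_T71, phi_T71]
  have hlang : ∀ w, gr (L := KK 2) hE6 symmE6 w = w → ∃ f, gr (L := KK 2) hE6 symmE6 f = f ∧ w = f⁻¹ * σ f := by
    intro w hw
    obtain ⟨f, hf, e⟩ := lang_fix hn0 hw
    exact ⟨f, hf, by rw [hσ f hf]; exact e⟩
  rcases hz with hz | hz
  · obtain ⟨t', δ, hδ, -, h1, -, h3⟩ := std_tw hFr hγσ hlang (t := 1) (map_one _) (fun w hw => by
      rw [mul_one, one_mul] at hw; exact hw.symm) hy hz (map_one _)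
    obtain ⟨s, s', v, v', hs, hv, ha, hb⟩ := hab
    have ht' : t' = 1 := h1.2 rfl
    refine std_kill hFr.inj hLw (fun β hβ => fin_gr hFr.inj f hn hfix j hj hder hs hv ha hb hβ) hE e hx hcov (i₀ := i₀)
      ⟨δ, hδ, 1, fun a => ?_⟩ fun j hj => Or.inl (hIn j hj)
    rw [pow_one, h3, ht', one_mul, inv_one, mul_one]
  · obtain ⟨t', δ, hδ, h0, h1, h2, h3⟩ := std_tw hFr hγσ hlang gr_T71 (fun w hw => hC71 hw) hy hz hσT
    refine tw_kill hFr.inj hFr.cent hLw h0 (fun h => ?_) h2 hE e hx hcov ⟨δ, hδ, h3⟩ hIn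
    have h4 := h1.1 h
    exact xc_ne_one e6T ⟨71, by decide +kernel, rfl⟩ one_ne_zero h4

end two

end Cfsg.Agent.H327.RG
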