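import Cfsg.Agent.H106.RC.Use

/-!
# S3509, outer automorphisms: the abstract end

* `cl_fix` : in the cover `{u, x}` the points not fixed by `u` are fixed by the normal closure of `x` in `C(u)`;
* `kill_two` : the cover `{u, x}` with `u` in the normal closure of `x` in `C(u)` is impossible;
* `out_kill` : the M-rule with exactly one member `x i₀` of the cover centralising `M`, and elements `a`, `b` of `C(u)`,
  `1 ≠ u ∈ M`, with `⁅⁅x i₀, a⁆, b⁆ = u`: contradiction.
-/

set_option autoImplicit false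
open Cfsg

namespace Cfsg.Agent.H327.RG

open MulAction Cfsg.Agent.H106.RC
open scoped commutatorElement

section abs

variable {G Ω : Type*} [Group G] [MulAction G Ω]

/-- the normal closure of `x` in the centralizer of `u` -/
def ncl (u x : G) : Subgroup G := Subgroup.closure {z | ∃ c : G, c * u = u * c ∧ z = c * x * c⁻¹}

theorem self_mem (u x : G) : x ∈ ncl u x := Subgroup.subset_closure ⟨1, by simp, by simp⟩

theorem conj_mem {u x : G} {c : G} (hc : c * u = u * c) {z : G} (hz : z ∈ ncl u x) : c * z * c⁻¹ ∈ ncl u x := by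
  refine Subgroup.closure_induction (p := fun z _ => c * z * c⁻¹ ∈ ncl u x) ?_ ?_ ?_ ?_ hz
  · rintro _ ⟨d, hd, rfl⟩
    refine Subgroup.subset_closure ⟨c * d, ?_, by group⟩
    rw [mul_assoc, hd, ← mul_assoc, hc, mul_assoc]
  · rw [mul_one, mul_inv_cancel]; exact Subgroup.one_mem _
  · intro y z _ _ hy hz
    have h1 := Subgroup.mul_mem _ hy hz
    have e : c * (y * z) * c⁻¹ = c * y * c⁻¹ * (c * z * c⁻¹) := by group
    rwa [e]
  · intro y _ hy
    have h1 := Subgroup.inv_mem _ hy
    have e : c * y⁻¹ * c⁻¹ = (c * y * c⁻¹)⁻¹ := by group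
    rwa [e]

theorem comm_mem {u x : G} {c : G} (hc : c * u = u * c) {z : G} (hz : z ∈ ncl u x) : ⁅z, c⁆ ∈ ncl u x := by
  have h1 := Subgroup.mul_mem _ hz (conj_mem hc (Subgroup.inv_mem _ hz))
  have e : ⁅z, c⁆ = z * (c * z⁻¹ * c⁻¹) := by rw [commutatorElement_def]; group
  rwa [e]

theorem comm_mem' {u x : G} {c : G} (hc : c * u = u * c) {z : G} (hz : z ∈ ncl u x) : ⁅c, z⁆ ∈ ncl u x := by
  have h1 := Subgroup.inv_mem _ (comm_mem hc hz)
  rwa [commutatorElement_inv] at h1

/-- points not fixed by `u` are fixed by the normal closure of `x` -/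
theorem cl_fix {u x : G} (h : ∀ ω : Ω, u • ω = ω ∨ x • ω = ω) {z : G} (hz : z ∈ ncl u x) (ω : Ω) :
    u • ω = ω ∨ z • ω = ω := by
  by_cases hu : u • ω = ω
  · exact Or.inl hu
  right
  have : ncl u x ≤ stabilizer G ω := by
    unfold ncl
    rw [Subgroup.closure_le]
    rintro _ ⟨c, hc, rfl⟩
    show (c * x * c⁻¹) • ω = ω
    rcases h (c⁻¹ • ω) with h1 | h1
    · exfalso
      apply hu
      have h2 : c • (u • (c⁻¹ • ω)) = ω := by rw [h1, smul_inv_smul]
      rwa [← mul_smul, hc, mul_smul, smul_inv_smul] at h2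
    · rw [mul_smul, mul_smul, h1, smul_inv_smul]
  exact this hz

/-- the cover `{u, x}` with `u` in the normal closure of `x` in `C(u)` -/
theorem kill_two [Nonempty Ω] {N : Subgroup G} (hE : Env G Ω N) {u x : G} (h : ∀ ω : Ω, u • ω = ω ∨ x • ω = ω)
    (hu : u ∈ ncl u x) : u = 1 :=
  hE.single fun ω => (cl_fix h hu ω).elim id id

/-- the M-rule with one member of the cover centralising `M` -/
theorem out_kill [Nonempty Ω] {S ι : Type*} [Group S] [Finite ι] {N : Subgroup G} (hE : Env G Ω N)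
    (hS : IsSimpleGroup S) (hSn : ¬ IsMulCommutative S) {x : ι → G} {r : ι → ℕ} (hx : PF x r) (hcov : Cov Ω x)
    {M : Subgroup G} (hperf : ⁅M, M⁆ = M) (π : M →* S) (hπ : Function.Surjective π)
    (hker : π.ker ≤ Subgroup.center M) (hRC : RC S) (hnorm : ∀ i, x i ∈ Subgroup.normalizer (M : Set G))
    {i₀ : ι} (hcen : ∀ j, j ≠ i₀ → ¬ ∀ m ∈ M, x j * m = m * x j)
    {u : G} (hu : u ∈ M) (hu1 : u ≠ 1) (hux : u ∈ ncl u (x i₀)) : False := by
  apply hu1
  refine kill_two hE (x := x i₀) (fun ω => ?_) hux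
  rcases mrule_RC hS hSn x r hx.prime hx.inj hx.pow hx.comm M hperf π hπ hker hnorm hRC ω (fun m _ => by
      obtain ⟨i, hi⟩ := hcov (m • ω)
      exact ⟨i, hi⟩) with h | ⟨j, hj, hjω⟩
  · exact Or.inl (h hu)
  · right
    by_cases hji : j = i₀
    · rwa [← hji]
    · exact (hcen j hji hj).elim

end abs

end Cfsg.Agent.H327.RG
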