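import Cfsg.Agent.H327.RG.TwSix
import Cfsg.Agent.H327.RG.Untw

/-!
# S3509: `Fr` and `Lv` for the untwisted groups, the generic form

* `frU` : the frame of `D.group F`;
* `lvU` : the level of a field automorphism;
* `no_centU` : no automorphism of field type of another order centralises the level.
-/

set_option autoImplicit false
set_option linter.unusedSectionVars false

namespace Cfsg.Agent.H327.RG

open CoxeterSystem Subgroup Cfsg Cfsg.Lie Cfsg.Lie.ChevalleyDatum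
open Cfsg.Agent.ChevalleyStructure Cfsg.Agent.ChevalleyStructure.Elts Cfsg.Agent.ChevalleyStructure.CoxeterGeom
  Cfsg.Agent.ChevalleyStructure.CoxeterGeomTypes Cfsg.Agent.ChevalleyStructure.NPerm
open Cfsg.Agent.Tits.Roots Cfsg.Agent.Tits.Core Cfsg.Agent.Nodes.Reps Cfsg.Agent.Nodes.BNOf
  Cfsg.Agent.Nodes.RGDChev Cfsg.Agent.Nodes.Bruhat
open Cfsg.Agent.CpAut.RgdUntw Cfsg.Agent.KFacts.RgdField Cfsg.Agent.KFacts.RgdChevCoord
open Cfsg.Agent.BpExc Cfsg.Agent.BpExc.Tow Cfsg.Agent.BpExc.TowChev Cfsg.Agent.BpExc.FamExt Cfsg.Agent.BpExc.FamUntw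
  Cfsg.Agent.BpExc.FamInst Cfsg.Agent.BpExc.LangFr Cfsg.Agent.BpExc.FamField
open Cfsg.Agent.GpExc.Field (glMap emb coe_emb glMap_xG emb_injective coe_glMap glMap_injective)
open Cfsg.Agent.H469.Exc Cfsg.Agent.H469.Exc.SigFr
open Cfsg.Agent.H28.GenF
open Cfsg.Agent.H46.Gen
open Cfsg.Agent.H106.RC
open scoped commutatorElement

section untw

variable {D : ChevalleyDatum} {l : ℕ} {M : CoxeterMatrix (Fin l)} (hp : IsType D l M)

variable {r : ℕ} [Fact r.Prime] {F : Type} [Field F] [Fintype F] [CharP F r]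

include hp in
/-- the frame -/
theorem frU (f : F →+* KK r) {n : ℕ} (hn : Nat.card F = r ^ n) (hZ : center ↥(D.group (KK r)) = ⊥) :
    Fr (emb hp.inList f) (phi D (KK r) r n) where
  inj := emb_injective hp.inList f
  cent := fun z hz => eq_one_of_comm hp (locFin r) r f hZ hz
  fixι := fun a => phi_emb hp r f hn a
  norm := fun y hy a => by
    obtain ⟨b, hb⟩ := H378.TorFin.conj_range hp f r hn hy ⟨a, rfl⟩
    exact ⟨b, hb⟩

/-- a parameter moved by the Frobenius -/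
theorem exists_movedU {n m p : ℕ} (hn : Nat.card F = r ^ n) (hpp : p.Prime) (hm : 0 < m) (hmn : m * p = n) :
    ∃ t : F, t ^ r ^ m ≠ t := by
  by_contra hcon
  push Not at hcon
  have h1 := (forall_pow_iff (F := F) r hn m).1 hcon
  have h2 : m < n := by
    rw [← hmn]
    calc m = m * 1 := (mul_one m).symm
      _ < m * p := Nat.mul_lt_mul_of_pos_left hpp.one_lt hm
  exact absurd (Nat.le_of_dvd hm h1) (by omega)

/-- **The level of a field automorphism of an untwisted group.** -/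
theorem lvU {a₀ b₀ : Fin l → ℤ} (hP : Pr D l a₀ b₀) (f : F →+* KK r) {n m p : ℕ} (hn : Nat.card F = r ^ n)
    (hpp : p.Prime) (hm : 0 < m) (hmn : m * p = n) (hZ : center ↥(D.group (KK r)) = ⊥)
    (F₀ : Subfield F) (hF₀ : Nat.card ↥F₀ = r ^ m)
    (hLs : IsSimpleGroup ↥⁅L0 hp F₀, L0 hp F₀⁆) (hLn : ¬ IsMulCommutative ↥⁅L0 hp F₀, L0 hp F₀⁆)
    (hLRC : RC ↥⁅L0 hp F₀, L0 hp F₀⁆) :
    Lv (emb hp.inList f) (phi D (KK r) r n) p (phi D (KK r) r m) (L0 hp F₀) := by
  have hchar : CharP ↥F₀ r := (RingHom.charP_iff F₀.subtype F₀.subtype.injective r).2 inferInstance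
  refine
    { pow := by rw [phi_pow, hmn]
      lang := fun h => ?_
      fixL := fun a ha => fix_L0 hp f F₀ hF₀ ha
      charL := fun α hx => ?_
      centL := fun y hy => ?_
      simple := hLs
      ncomm := hLn
      rc := hLRC
      fin := fun β hβ => ?_ }
  · obtain ⟨z, hz⟩ := lang_all hp M.toCoxeterSystem hm (phi_isFrob r m)
      (phi_fr hp M.toCoxeterSystem r (locFin r) m) 1 h
    rw [map_one, one_mul] at hz
    exact ⟨z, hz⟩
  · obtain ⟨N, hN⟩ : ∃ N : Subgroup ↥(D.group ↥F₀), ∀ b, b ∈ N ↔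
        α (emb hp.inList F₀.subtype b) ∈ (emb hp.inList F₀.subtype).range :=
      ⟨((emb hp.inList F₀.subtype).range.comap α.toMonoidHom).comap (emb hp.inList F₀.subtype), fun b => Iff.rfl⟩
    have h1 : N = ⊤ := group_le hp N fun s t => by
      rw [hN]
      refine mem_L0 hp f F₀ hF₀ (hx _ (fix_L0 hp f F₀ hF₀ ⟨_, rfl⟩)) ⟨1, ?_⟩
      rw [pow_one, ← map_pow, ← map_pow, xs_pow_char hp, map_one, map_one]
    rintro _ ⟨b, rfl⟩
    show α (emb hp.inList F₀.subtype b) ∈ (emb hp.inList F₀.subtype).range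
    rw [← hN, h1]
    exact mem_top _
  · refine eq_one_of_comm hp (locFin r) r (f.comp F₀.subtype) hZ fun b => ?_
    rw [← H28.GenF.emb_comp hp]
    exact hy _ ⟨b, rfl⟩
  · obtain ⟨t, ht⟩ := exists_movedU (F := F) hn hpp hm hmn
    obtain ⟨s₁, hs₁, rfl⟩ := hP.ra
    obtain ⟨s₂, hs₂, rfl⟩ := hP.rb
    have h1 : ∀ s : ℕ, ∃ a ∈ L0 hp F₀, emb hp.inList f a = xc hp (vec D l s) 1 := fun s =>
      ⟨emb hp.inList F₀.subtype (xc hp (vec D l s) 1), ⟨_, rfl⟩, by
        rw [TowChev.emb_xc hp, TowChev.emb_xc hp, map_one, map_one]⟩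
    have h2 : f (t ^ r ^ m) - f t = f (t ^ r ^ m - t) := (map_sub f _ _).symm
    refine fin_pair hp (emb_injective hp.inList f) hP (t := f t) (t' := f (t ^ r ^ m)) (fun h => ht (f.injective h))
      ?_ ⟨_, TowChev.emb_xc hp f _ t⟩ ?_ (h1 _) (h1 _) hβ
    · rw [H378.TorChar.phi_xc hp r hs₁, map_pow]
    · rw [h2, ← map_inv₀]
      exact ⟨_, TowChev.emb_xc hp f _ _⟩

include hp in
/-- the level contains the group over the prime field -/
theorem prime_mem (f : F →+* KK r) (F₀ : Subfield F) [CharP ↥F₀ r] (b : ↥(D.group (ZMod r))) :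
    ∃ a ∈ L0 hp F₀, emb hp.inList f a = emb hp.inList (algebraMap (ZMod r) (KK r)) b := by
  let _ : Algebra (ZMod r) ↥F₀ := ZMod.algebra _ r
  refine ⟨_, ⟨emb hp.inList (algebraMap (ZMod r) ↥F₀) b, rfl⟩, ?_⟩
  rw [H28.GenF.emb_comp hp, H28.GenF.emb_comp hp]
  have h1 : (f.comp F₀.subtype).comp (algebraMap (ZMod r) ↥F₀) = algebraMap (ZMod r) (KK r) := Subsingleton.elim _ _
  rw [h1]

include hp in
/-- the Frobenius on the group over the prime field -/
theorem phi_prime (m : ℕ) (b : ↥(D.group (ZMod r))) :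
    phi D (KK r) r m (emb hp.inList (algebraMap (ZMod r) (KK r)) b) = emb hp.inList (algebraMap (ZMod r) (KK r)) b := by
  have h4 := phi_emb hp r (algebraMap (ZMod r) (KK r)) (n := 1) (by rw [Nat.card_zmod, pow_one]) b
  have h5 := H28.GenF.apply_pow h4 m
  rwa [phi_pow, one_mul] at h5

include hp in
/-- **No automorphism of field type of another order centralises the level.** -/
theorem no_centU (f : F →+* KK r) {m m' : ℕ} (hZ : center ↥(D.group (KK r)) = ⊥)
    (F₀ : Subfield F) (hF₀ : Nat.card ↥F₀ = r ^ m) (hmm : ¬ m ∣ m') {s : ℕ} (hs : s < D.nroots) (y : ↥(D.group (KK r))) :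
    ¬ ∀ a ∈ L0 hp F₀, y * phi D (KK r) r m' (emb hp.inList f a) * y⁻¹ = emb hp.inList f a := by
  intro hy1
  have hchar : CharP ↥F₀ r := (RingHom.charP_iff F₀.subtype F₀.subtype.injective r).2 inferInstance
  have h1 : y = 1 := by
    refine eq_one_of_comm hp (locFin r) r (algebraMap (ZMod r) (KK r)) hZ fun b => ?_
    obtain ⟨a, ha, e⟩ := prime_mem hp f F₀ b
    have h2 := hy1 a ha
    rw [e, phi_prime hp] at h2
    exact (mul_inv_eq_iff_eq_mul.1 h2)
  subst h1
  refine hmm ?_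
  rw [← forall_pow_iff (F := ↥F₀) r hF₀ m']
  intro t
  have h3 := hy1 _ ⟨xc hp (vec D l s) t, rfl⟩
  rw [H28.GenF.emb_comp hp, TowChev.emb_xc hp, one_mul, inv_one, mul_one, H378.TorChar.phi_xc hp r hs, ← map_pow] at h3
  exact (f.comp F₀.subtype).injective (xc_inj hp hs h3)

end untw

end Cfsg.Agent.H327.RG
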