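import Cfsg.Agent.H327.RG.GrFour

/-!
# S3509: a member of `³D₄(q)` conjugate to a field automorphism of order 3 (type I)
-/

set_option autoImplicit false
set_option linter.unusedSectionVars false

namespace Cfsg.Agent.H327.RG.GFour

open CoxeterSystem Subgroup Cfsg Cfsg.Lie Cfsg.Lie.ChevalleyDatum
open Cfsg.Agent.ChevalleyStructure Cfsg.Agent.ChevalleyStructure.CoxeterGeom
  Cfsg.Agent.ChevalleyStructure.CoxeterGeomTypes Cfsg.Agent.ChevalleyStructure.NPerm
open Cfsg.Agent.Nodes.RGDChev Cfsg.Agent.KFacts.RgdChevCoord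
open Cfsg.Agent.BpExc.TowChev Cfsg.Agent.BpExc.FamUntw Cfsg.Agent.BpExc.LangFr Cfsg.Agent.BpExc.FamField
  Cfsg.Agent.BpExc.RowsUntw Cfsg.Agent.BpExc.FamInst
open Cfsg.Agent.ChevalleyStructure.GraphSymm (symmD4a)
open Cfsg.Agent.H522.FamTw.Frame (sig4 sig4_pow sig4_congr isFrob_sig4 fr_sig4)
open Cfsg.Agent.H28.FamFour (em em_injective coe_em sig_em gr_cube_D4 fld_em st_one st_mul)
open Cfsg.Agent.CpAut.RgdTwD4
open Cfsg.Agent.BpExc.FamTw.Gr
open Cfsg.Agent.H469.Exc Cfsg.Agent.H469.Exc.SigFr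
open Cfsg.Agent.H28.GenF
open Cfsg.Agent.H46.Gen
open Cfsg.Agent.H106.RC
open Cfsg.Agent.H873.RG (IHx NSA)

variable {r : ℕ} [Fact r.Prime] {K : Type} [Field K] [Fintype K] [CharP K r] {q : ℕ} (hq : IsPrimePow q)
  (hK : Fintype.card K = q ^ 3) (f : K →+* KK r) {n : ℕ} (hn0 : 0 < n) (hn : q = r ^ n)

include hq hK hn in
/-- a power of the field automorphism of order 3 induces `γ` -/
theorem exists_st {τ : K ≃+* K} (hτ3 : τ ^ 3 = 1) (hτ : τ ≠ 1) :
    ∃ i : ℕ, i.Coprime 3 ∧ ∀ a, em q f (st q (τ ^ i) a) = gm r (em q f a) := by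
  have hr : r.Prime := Fact.out
  obtain ⟨i, e, hi, he0, hcard, hfr⟩ := exists_field r Nat.prime_three hτ3 hτ
  have hne : n = e := by
    rw [Nat.card_eq_fintype_card, hK, hn, ← pow_mul] at hcard
    exact Nat.eq_of_mul_eq_mul_right (by norm_num) (Nat.pow_right_injective hr.two_le hcard)
  subst hne
  have h1 : ∀ a, em q f (st q (τ ^ i) a) = phi chevD4 (KK r) r n (em q f a) := fun a =>
    (fld_em f (τ := τ ^ i) (τ' := frb (KK r) r n) (fun b => by rw [frb_apply, hfr, map_pow]) a).symm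
  refine ⟨i * 2, Nat.Coprime.mul_left hi (by norm_num), fun a => ?_⟩
  rw [pow_mul, pow_two, st_mul, h1, h1, phi_em4 hq hK f hn, ← gm_phi, ← gm_phi, phi_em4 hq hK f hn, gm_cube]

include hq hK hn0 hn in
/-- **Type I**, at the level of `³D₄(q)`. -/
theorem kill1_st (hIH : IHx (Nat.card ↥(twistedD4 K q))) {G Ω κ : Type*} [Group G] [MulAction G Ω] [Nonempty Ω]
    [Finite κ] {N : Subgroup G} (hE : Env G Ω N) (e : N ≃* ↥(twistedD4 K q)) {x : κ → G} {s : κ → ℕ} (hx : PF x s)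
    (hcov : Cov Ω x) {i₀ : κ} {g : ↥(twistedD4 K q)} {τ : K ≃+* K} (hτ3 : τ ^ 3 = 1) (hτ : τ ≠ 1)
    (h : (MulAut.conj g)⁻¹ * act hE e (x i₀) * MulAut.conj g = st q τ)
    (hIn : ∀ j, j ≠ i₀ → act hE e (x j) ∈ InD (em q f)) : False := by
  obtain ⟨i, hi, h1⟩ := exists_st hq hK f hn hτ3 hτ
  have h2 : act hE e (x i₀) = MulAut.conj g * st q τ * (MulAut.conj g)⁻¹ := by rw [← h]; group
  have h3 : ∀ m : ℕ, (st q τ : MulAut ↥(twistedD4 K q)) ^ m = st q (τ ^ m) := by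
    intro m
    induction m with
    | zero =>
      rw [pow_zero, pow_zero]
      refine MulEquiv.ext fun a => ?_
      rw [st_one]
      rfl
    | succ m ih =>
      rw [pow_succ, pow_succ, ih]
      refine MulEquiv.ext fun a => ?_
      rw [MulAut.mul_apply, st_mul]
  refine kill1 hq hK f hn0 hn hIH hE e hx hcov (i₀ := i₀) (i := i) (y := em q f g * (gm r (em q f g))⁻¹)
    (z := (em q f g)⁻¹) (fun a => ?_) ?_ hIn
  · rw [h2, conj_pow, h3, MulAut.mul_apply, MulAut.mul_apply, MulAut.conj_apply, MulAut.conj_inv_apply, map_mul,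
      map_mul, map_inv, h1]
    simp only [map_mul, map_inv]
    group
  · rw [map_inv]
    group

end Cfsg.Agent.H327.RG.GFour
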