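import Cfsg.Agent.H327.RG.GrFour
import Cfsg.Agent.H442.TD.Cl3

/-!
# S3509: a member of graph type (order 3) of `³D₄(q)`, characteristic 3
-/

set_option autoImplicit false
set_option linter.unusedSectionVars false

namespace Cfsg.Agent.H327.RG.GFour

open CoxeterSystem Subgroup Cfsg Cfsg.Lie Cfsg.Lie.ChevalleyDatum
open Cfsg.Agent.ChevalleyStructure Cfsg.Agent.ChevalleyStructure.CoxeterGeom
  Cfsg.Agent.ChevalleyStructure.CoxeterGeomTypes Cfsg.Agent.ChevalleyStructure.NPerm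
open Cfsg.Agent.Nodes.RGDChev Cfsg.Agent.KFacts.RgdChevCoord
open Cfsg.Agent.BpExc.TowChev Cfsg.Agent.BpExc.FamUntw Cfsg.Agent.BpExc.LangFr Cfsg.Agent.BpExc.FamField
  Cfsg.Agent.BpExc.RowsUntw Cfsg.Agent.BpExc.FamInst
open Cfsg.Agent.ChevalleyStructure.GraphSymm (symmD4a)
open Cfsg.Agent.H522.FamTw.Frame (sig4 sig4_pow sig4_congr isFrob_sig4 fr_sig4)
open Cfsg.Agent.H28.FamFour (em em_injective coe_em sig_em gr_cube_D4)
open Cfsg.Agent.BpExc.FamTw.Gr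
open Cfsg.Agent.H469.Exc Cfsg.Agent.H469.Exc.SigFr
open Cfsg.Agent.H28.GenF
open Cfsg.Agent.H46.Gen
open Cfsg.Agent.H106.RC
open Cfsg.Agent.H873.RG (IHx NSA)

section

variable {r : ℕ} [Fact r.Prime] {K : Type} [Field K] [Fintype K] [CharP K r] {q : ℕ} (hq : IsPrimePow q)
  (hK : Fintype.card K = q ^ 3) (f : K →+* KK r) {n : ℕ} (hn0 : 0 < n) (hn : q = r ^ n)

include hq hK hn in
/-- **A member of order 3 which is not inner-diagonal.** -/
theorem exists_y {G Ω κ : Type*} [Group G] [MulAction G Ω] {N : Subgroup G} (hE : Env G Ω N)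
    (e : N ≃* ↥(twistedD4 K q)) {x : κ → G} {s : κ → ℕ} (hx : PF x s) {i₀ : κ} (h3 : s i₀ = 3)
    (hi₀ : act hE e (x i₀) ∉ InD (em q f)) :
    ∃ (i : ℕ) (y : ↥(chevD4.group (KK r))), i.Coprime 3 ∧
      (∀ a, em q f ((act hE e (x i₀) ^ i) a) = y * gm r (em q f a) * y⁻¹) ∧ (act hE e (x i₀) ^ i) ^ 3 = 1 := by
  have h1 : act hE e (x i₀) ^ 3 = 1 := by rw [← h3, ← map_pow, hx.pow, map_one]
  rcases ty4 hq hK f hn Nat.prime_three h1 with h | ⟨h, -⟩ | ⟨-, h⟩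
  · exact absurd h hi₀
  · exact absurd rfl h
  · obtain ⟨i, y, hi, hy⟩ := exists_gm hq hK f hn h
    exact ⟨i, y, hi, hy, by rw [← pow_mul, mul_comm, pow_mul, h1, one_pow]⟩

end

theorem phi_xg23 [Fact (Nat.Prime 3)] (n : ℕ) : phi chevD4 (KK 3) 3 n (xg hD4 23 1) = xg hD4 23 1 := by
  have h1 : xd 23 (1 : KK 3) = xg hD4 23 1 := Subtype.ext (coe_xc Nodes.RGDTwD4.hp (by decide : 23 < 24) _)
  rw [← h1, phi_xd (by decide), one_pow]

/-- **Graph type in characteristic 3.** -/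
theorem graph_three [Fact (Nat.Prime 3)] {K : Type} [Field K] [Fintype K] [CharP K 3] {q : ℕ} (hq : IsPrimePow q)
    (hK : Fintype.card K = q ^ 3) (f : K →+* KK 3) {n : ℕ} (hn0 : 0 < n) (hn : q = 3 ^ n)
    (hIH : IHx (Nat.card ↥(twistedD4 K q)))
    {G Ω κ : Type*} [Group G] [MulAction G Ω] [Nonempty Ω] [Finite κ]
    {N : Subgroup G} (hE : Env G Ω N) (e : N ≃* ↥(twistedD4 K q)) {x : κ → G} {s : κ → ℕ} (hx : PF x s)
    (hcov : Cov Ω x) {i₀ : κ} (h3 : s i₀ = 3) (hi₀ : act hE e (x i₀) ∉ InD (em q f))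
    (hIn : ∀ j, j ≠ i₀ → act hE e (x j) ∈ InD (em q f)) : False := by
  obtain ⟨i, y, hi, hy, hcube⟩ := exists_y hq hK f hn hE e hx h3 hi₀
  have h1 := cube_one hq hK f hn0 hn hcube hy
  obtain ⟨z, hz | hz⟩ := H442.TD.exists_z3 h1
  · exact kill1 hq hK f hn0 hn hIH hE e hx hcov hy hz hIn
  · have h23 : gm 3 (xg hD4 23 1) = xg hD4 23 1 := by
      have h4 : xd 23 (1 : KK 3) = xg hD4 23 1 := Subtype.ext (coe_xc Nodes.RGDTwD4.hp (by decide : 23 < 24) _)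
      rw [← h4, gm_xd (s := 23) (s' := 23) (e := 1) (by decide) (by decide +kernel) (by decide +kernel), Int.cast_one,
        one_mul]
    refine kill_t hq hK f hn0 hn hIH h23 (phi_xg23 n) ?_ (fun w hw => H442.TD.hC3 one_ne_zero hw) hE e hx hcov
      (by rw [h3]; exact hi) hy hz hIn
    have h4 : xd 23 (1 : KK 3) = xg hD4 23 1 := Subtype.ext (coe_xc Nodes.RGDTwD4.hp (by decide : 23 < 24) _)
    rw [← h4]
    exact xc_ne_one Nodes.RGDTwD4.hp ⟨23, by decide +kernel, rfl⟩ one_ne_zero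

end Cfsg.Agent.H327.RG.GFour
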