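import Cfsg.Agent.H327.RG.TwFourA

/-!
# S3509: the centralizer of `³D₄(q)` and of `G₂(q)` in `D₄(L)`

* `eq_one_gen` : the proof of `H28.FamFour.eq_one_of_comm` for `twistedD4 K q ≤ fix φ`;
* `eq_one_G` : `twistedD4 K 1` (the fixed points of the graph automorphism), `gr_emG`, `fld_emG`;
* `not_all_fix` : an element of `³D₄(q)` moved by the field automorphism of order 3.
-/

set_option autoImplicit false
set_option linter.unusedSectionVars false
set_option maxHeartbeats 400000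

namespace Cfsg.Agent.H327.RG.Four

open Cfsg.Agent.BpExc Cfsg.Agent.BpExc.FamTw Cfsg.Agent.H522.FamTw

open CoxeterSystem Cfsg.Agent.ChevalleyStructure.CoxeterGeom Cfsg.Agent.Tits.Roots Cfsg.Agent.Tits.Core
  Cfsg.Agent.Tits.Exchange Cfsg.Agent.Nodes.Reps Cfsg.Agent.Nodes.BNOf Cfsg.Agent.Nodes.StabComb
  Cfsg.Agent.Nodes.Bruhat Cfsg.Agent.Nodes.OppDec Cfsg.Agent.Nodes.RGDTwGen Cfsg.Agent.Nodes.RGDChev
  Cfsg.Agent.Nodes.RGDFold Cfsg.Agent.Nodes.RGDFoldSL
open Cfsg.Lie Cfsg.Agent.ChevalleyStructure Cfsg.Agent.ChevalleyStructure.Elts Cfsg.Agent.ChevStructure.FieldMap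
open Cfsg.Agent.KFacts.TwDFour.Out
open Cfsg.Agent.Nodes.RGDTwD4 Cfsg.Agent.Nodes.RGDTwNode.D4
open Cfsg.Agent.ChevalleyStructure.GraphSymm (symmD4a)
open Cfsg.Agent.CpAut.RgdTwStd Cfsg.Agent.CpAut.RgdTwD4
open Cfsg.Agent.CpAut.RgdUntw (fld fld_coe)
open Cfsg.Agent.GpExc.Field (glMap coe_glMap)
open Cfsg.Agent.BpExc.FamTw.Gr
open Cfsg.Agent.H28.FamFour

universe u v

section Cent

variable {K : Type u} {L : Type v} [Field K] [Finite K] [Field L] {q : ℕ} {φ : K →+* K} (hφ : ∀ x, φ x = x ^ q)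
  (hle : twistedD4 K q ≤ D4Fixed.fix φ) (f : K →+* L)

include hφ hle in
/-- **The centralizer of `twistedD4 K q` in `D₄(L)` is trivial.** -/
theorem eq_one_gen {z : ↥(chevD4.group L)} (hz : ∀ g : ↥(twistedD4 K q), z * em q f g = em q f g * z) : z = 1 := by
  obtain ⟨g0, hg0, hgm, hgl⟩ := H28.FamFour.exists_long (k := L) foldData
    (Cfsg.Agent.Nodes.RGDTwD4.foldGrp hφ hle) f isCartan
  have hu0 : wordG hD4 [(14, (1 : K)), (18, 1), (13, 1), (12, 1)] ∈ twistedD4 K q := by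
    have h1 : xG hD4 14 (1 : K) ∈ twistedD4 K q := single_mem (one_pow q) (by simp)
    have h2 : xG hD4 18 (1 : K) * (xG hD4 13 ((1 : K) ^ q) * xG hD4 12 ((1 : K) ^ (q ^ 2))) ∈ twistedD4 K q :=
      triple_mem (1 : K) (rs := (18, 13, 12)) (by simp)
    rw [one_pow, one_pow] at h2
    have h3 := mul_mem h1 h2
    rw [wordG_cons, wordG_cons, wordG_cons, wordG_cons, wordG_nil, mul_one]
    exact h3
  have hc1 := congrArg Subtype.val (hz ⟨_, hu0⟩)
  have hc2 := congrArg Subtype.val (hz ⟨_, hg0⟩)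
  rw [Subgroup.coe_mul, Subgroup.coe_mul, coe_em] at hc1 hc2
  apply Subtype.ext
  have hw : glMap chevD4 f (wordG hD4 [(14, (1 : K)), (18, 1), (13, 1), (12, 1)]) =
      wordG hD4 [(14, (1 : L)), (18, 1), (13, 1), (12, 1)] := by
    rw [Emb.glMap_wordG]
    simp only [List.map_cons, List.map_nil, map_one]
  have hmem : ∀ x ∈ [(14, (1 : L)), (18, 1), (13, 1), (12, 1)], chevD4.IsPosRoot x.1 := by
    intro x hx
    refine pos4 _ ?_
    simp only [List.mem_cons, List.not_mem_nil, or_false] at hx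
    rcases hx with rfl | rfl | rfl | rfl <;> simp
  refine Cent.eq_one_of_comm hp z.2 (u := wordG hD4 [(14, (1 : L)), (18, 1), (13, 1), (12, 1)])
    (n := glMap chevD4 f g0) ?_ ?_ ?_ (Emb.glMap_mono hD4 f hgm) hgl hc2
  · rw [wordG_cons, wordG_cons, wordG_cons, wordG_cons, wordG_nil, mul_one]
    exact mul_mem (xG_mem_posUnipotent hD4 (pos4 14 (by simp)) _) (mul_mem (xG_mem_posUnipotent hD4 (pos4 18 (by simp)) _)
      (mul_mem (xG_mem_posUnipotent hD4 (pos4 13 (by simp)) _) (xG_mem_posUnipotent hD4 (pos4 12 (by simp)) _)))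
  · intro i hi
    refine ⟨_, Cent.co_word hi _ hmem, ?_⟩
    have h1 := simple_cases i hi
    simp only [List.mem_cons, List.not_mem_nil, or_false] at h1
    rcases h1 with h1 | h1 | h1 | h1 <;> simp [h1]
  · rw [← hw]
    exact hc1

end Cent

section G

variable {K : Type u} {L : Type v} [Field K] [Finite K] [Field L]

theorem leG (K : Type u) [Field K] : twistedD4 K 1 ≤ D4Fixed.fix (RingHom.id K) :=
  D4Fixed.twisted_induction (fun x => by rw [pow_one]; rfl) (fun t ht => D4Fixed.fix_14 _ ht)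
    (fun t ht => D4Fixed.fix_9 _ ht) (fun t => D4Fixed.fix_X _ rfl) (fun t => D4Fixed.fix_Y _ rfl)

/-- **The centralizer of `G₂(K)` in `D₄(L)` is trivial.** -/
theorem eq_one_G (f : K →+* L) {z : ↥(chevD4.group L)} (hz : ∀ g : ↥(twistedD4 K 1), z * em 1 f g = em 1 f g * z) :
    z = 1 :=
  eq_one_gen (φ := RingHom.id K) (fun x => by rw [pow_one]; rfl) (leG K) f hz

/-- `G₂(K)` is fixed by the graph automorphism -/
theorem gr_emG (f : K →+* L) (g : ↥(twistedD4 K 1)) : gr hD4 symmD4a (em 1 f g) = em 1 f g := by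
  have h1 := sig_glMap (f := f) (φ := RingHom.id K) (Φ := (1 : L ≃+* L)) symmD4a (fun a => rfl)
    (leG K g.2)
  have h2 : fld chevD4 (1 : L ≃+* L) (em 1 f g) = em 1 f g := by
    rw [CpAut.RgdUntw.fld_one]
    rfl
  refine Subtype.ext ?_
  rw [coe_gr]
  exact h1

end G

/-- an element of `³D₄(q)` moved by a field automorphism -/
theorem eq_of_triple {L : Type v} [Field L] {t t' u u' w w' : L}
    (h : wordG hD4 [(18, t), (13, u), (12, w)] = wordG hD4 [(18, t'), (13, u'), (12, w')]) : t = t' := by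
  have hp0 : ∀ (t u w : L), ∀ x ∈ [(18, t), (13, u), (12, w)], chevD4.IsPosRoot x.1 := by
    intro t u w x hx
    refine pos4 _ ?_
    simp only [List.mem_cons, List.not_mem_nil, or_false] at hx
    rcases hx with rfl | rfl | rfl <;> simp
  have hs : chevD4.simple 0 = 18 := by decide +kernel
  have h1 := Cent.co_word (hD := hD4) (i := 0) (by decide +kernel) _ (hp0 t u w)
  have h2 := Cent.co_word (hD := hD4) (i := 0) (by decide +kernel) _ (hp0 t' u' w')
  rw [h] at h1
  have h3 := h1.unique (by decide +kernel) h2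
  rw [hs] at h3
  simpa using h3

end Cfsg.Agent.H327.RG.Four
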